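import Groth.Agent.CplFib6.GRing
import Groth.Agent.DimFormula.Scheme
import Groth.Agent.FlatLoc6.RegCM
import Groth.Agent.S0603

/-!
# Complete local rings are excellent
-/

namespace Groth.Agent.CplFib6

universe u

open IsLocalRing

/-- A Noetherian complete local ring is universally catenary. -/
theorem isUniversallyCatenary_of_complete (R : Type u) [CommRing R] [IsLocalRing R] [IsNoetherianRing R]
    [IsAdicComplete (maximalIdeal R) R] : CAlg.IsUniversallyCatenary R := by
  obtain ⟨Λ, _, n, f, hΛ, hf⟩ := CohenLib.exists_surjective R (IsNoetherian.noetherian _)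
  obtain ⟨hN, hreg, -⟩ := CohenLib.isRegular_complete_mvPowerSeries hΛ n
  haveI := hN
  haveI := hreg
  haveI := isRegularRing_of_local (MvPowerSeries (Fin n) Λ)
  haveI := FlatLoc6.isCM_of_isRegularRing (MvPowerSeries (Fin n) Λ)
  exact DimFormula.isUniversallyCatenary_of_surjective (S0603.result (MvPowerSeries (Fin n) Λ)) f hf

/-- A Noetherian complete local ring is excellent. -/
theorem isExcellent_of_complete (R : Type u) [CommRing R] [IsLocalRing R] [IsNoetherianRing R]
    [IsAdicComplete (maximalIdeal R) R] : EGA4.IsExcellent R :=
  ⟨inferInstance, isUniversallyCatenary_of_complete R, isGRing_of_complete R,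
    fun S _ _ _ => isOpen_regular_of_complete R S⟩

end Groth.Agent.CplFib6
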