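import Groth.Agent.CplFib6.GRingStable
import Groth.Agent.CplFib6.CompleteExcellent
import Groth.Agent.DimFormula.Catenary

/-!
# Excellent rings
-/

namespace Groth.Agent.CplFib6

universe u

open IsLocalRing TensorProduct

attribute [local instance 10000] Ring.toIntAlgebra

/-- Localizations of G-rings are G-rings. -/
theorem isGRing_localization {R : Type u} [CommRing R] (hR : CAlg.IsGRing R) (M : Submonoid R)
    (R' : Type u) [CommRing R'] [Algebra R R'] [IsLocalization M R'] : CAlg.IsGRing R' := by
  haveI := hR.1
  refine ⟨IsLocalization.isNoetherianRing M R' ‹_›, fun P _ => ?_⟩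
  haveI : IsLocalization.AtPrime (Localization.AtPrime P) (P.comap (algebraMap R R')) :=
    IsLocalization.isLocalization_isLocalization_atPrime_isLocalization M (Localization.AtPrime P) P
  exact MorLib.GRing.localCond_of_equiv
    (IsLocalization.algEquiv (P.comap (algebraMap R R')).primeCompl
      (Localization.AtPrime (P.comap (algebraMap R R'))) (Localization.AtPrime P)).toRingEquiv
    (hR.2 _)

/-- J-2 is inherited by localizations. -/
theorem isJ2_localization {R : Type u} [CommRing R] (hR : EGA4.IsJ2 R) (M : Submonoid R)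
    (R' : Type u) [CommRing R'] [Algebra R R'] [IsLocalization M R'] : EGA4.IsJ2 R' := by
  classical
  intro S _ _ hS
  letI : Algebra R S := ((algebraMap R' S).comp (algebraMap R R')).toAlgebra
  haveI : IsScalarTower R R' S := IsScalarTower.of_algebraMap_eq' rfl
  obtain ⟨G, hG⟩ := hS.out
  let B := Algebra.adjoin R (G : Set S)
  haveI : Algebra.FiniteType R B := ⟨(Subalgebra.fg_top B).mpr ⟨G, rfl⟩⟩
  let U := Algebra.algebraMapSubmonoid B M
  have key : ∀ s : S, ∃ m ∈ M, algebraMap R S m * s ∈ B := by
    intro s
    have hs : s ∈ Algebra.adjoin R' (G : Set S) := hG.ge Algebra.mem_top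
    induction hs using Algebra.adjoin_induction with
    | mem x hx => exact ⟨1, M.one_mem, by simpa using Algebra.subset_adjoin hx⟩
    | algebraMap r =>
      obtain ⟨⟨a, m⟩, h⟩ := IsLocalization.surj M r
      refine ⟨m, m.2, ?_⟩
      rw [IsScalarTower.algebraMap_apply R R' S, ← map_mul, mul_comm, h, ← IsScalarTower.algebraMap_apply]
      exact B.algebraMap_mem a
    | add x y _ _ hx hy =>
      obtain ⟨m, hm, hx⟩ := hx
      obtain ⟨n, hn, hy⟩ := hy
      refine ⟨m * n, M.mul_mem hm hn, ?_⟩
      rw [map_mul, mul_add]
      refine add_mem ?_ ?_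
      · rw [mul_comm (algebraMap R S m), mul_assoc]
        exact mul_mem (B.algebraMap_mem n) hx
      · rw [mul_assoc]
        exact mul_mem (B.algebraMap_mem m) hy
    | mul x y _ _ hx hy =>
      obtain ⟨m, hm, hx⟩ := hx
      obtain ⟨n, hn, hy⟩ := hy
      refine ⟨m * n, M.mul_mem hm hn, ?_⟩
      rw [map_mul, mul_mul_mul_comm]
      exact mul_mem hx hy
  haveI : IsLocalization U S := by
    constructor
    constructor
    · rintro ⟨_, m, hm, rfl⟩
      show IsUnit (algebraMap R S m)
      rw [IsScalarTower.algebraMap_apply R R' S]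
      exact (IsLocalization.map_units R' (⟨m, hm⟩ : M)).map _
    · intro s
      obtain ⟨m, hm, hms⟩ := key s
      exact ⟨(⟨_, hms⟩, ⟨algebraMap R B m, m, hm, rfl⟩), mul_comm _ _⟩
    · intro x y hxy
      exact ⟨1, by rw [Subtype.ext hxy]⟩
  have : EGA4.regLocus S = PrimeSpectrum.comap (algebraMap B S) ⁻¹' EGA4.regLocus B := by
    ext P
    exact RegLoc6.regular_iff_localization U S P.asIdeal
  rw [this]
  exact (hR B inferInstance).preimage (PrimeSpectrum.continuous_comap _)

/-- Localizations of excellent rings are excellent. -/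
theorem isExcellent_localization {R : Type u} [CommRing R] (hR : EGA4.IsExcellent R) (M : Submonoid R)
    (R' : Type u) [CommRing R'] [Algebra R R'] [IsLocalization M R'] : EGA4.IsExcellent R' :=
  ⟨haveI := hR.1; IsLocalization.isNoetherianRing M R' ‹_›, DimFormula.isUniversallyCatenary_localization hR.2.1 M R',
    isGRing_localization hR.2.2.1 M R', isJ2_localization hR.2.2.2 M R'⟩

/-- Finite type algebras over excellent rings are excellent. -/
theorem isExcellent_of_finiteType {R : Type u} [CommRing R] (hR : EGA4.IsExcellent R) (S : Type u) [CommRing S]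
    [Algebra R S] [Algebra.FiniteType R S] : EGA4.IsExcellent S := by
  haveI := hR.1
  refine ⟨Algebra.FiniteType.isNoetherianRing R S, ⟨Algebra.FiniteType.isNoetherianRing R S, fun T _ _ hT => ?_⟩,
    isGRing_of_finiteType hR.2.2.1 S, fun T _ _ hT => ?_⟩
  all_goals
    letI : Algebra R T := ((algebraMap S T).comp (algebraMap R S)).toAlgebra
    haveI : IsScalarTower R S T := IsScalarTower.of_algebraMap_eq' rfl
    haveI : Algebra.FiniteType R T := Algebra.FiniteType.trans (S := S) ‹_› hT
  · exact hR.2.1.2 T ‹_›
  · exact hR.2.2.2 T ‹_›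

/-- Completion of a field. -/
theorem isRegularRing_tensor_cpl_field (κ : Type u) [Field κ] (L : Type u) [Field L] [Algebra κ L] :
    IsRegularRing (L ⊗[κ] EGA4.Cpl κ) := by
  have hbot : maximalIdeal κ = ⊥ := IsLocalRing.isField_iff_maximalIdeal_eq.1 (Field.toIsField κ)
  haveI : IsAdicComplete (maximalIdeal κ) κ := by rw [hbot]; infer_instance
  let e : κ ≃ₐ[κ] EGA4.Cpl κ :=
    AlgEquiv.ofBijective (Algebra.ofId κ (EGA4.Cpl κ)) (AdicCompletion.of_bijective (maximalIdeal κ) κ)
  haveI : IsRegularRing L := isRegularRing_of_local L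
  exact IsRegularRing.of_ringEquiv (R := L)
    ((Algebra.TensorProduct.rid κ κ L).symm.toRingEquiv.trans
      (Algebra.TensorProduct.congr (AlgEquiv.refl (R := κ) (A₁ := L)) e).toRingEquiv)

/-- A characteristic zero Dedekind domain is a G-ring. -/
theorem isGRing_of_dedekind (A : Type u) [CommRing A] [IsDedekindDomain A] [CharZero A] : CAlg.IsGRing A := by
  refine ⟨inferInstance, fun p _ => ?_⟩
  let Am := Localization.AtPrime p
  let D := EGA4.Cpl Am
  show CAlg.IsRegularHom Am D
  haveI := FlatLoc6.faithfullyFlat_cpl Am
  haveI := FlatLoc6.isNoetherianRing_cpl Am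
  refine ⟨inferInstance, fun Q _ => ⟨FlatLoc6.isNoetherianRing_fiber (B := D) Q, fun L _ _ hL => ?_⟩⟩
  haveI := hL
  letI : Algebra Am L := ((algebraMap Q.ResidueField L).comp (algebraMap Am Q.ResidueField)).toAlgebra
  haveI : IsScalarTower Am Q.ResidueField L := IsScalarTower.of_algebraMap_eq' rfl
  refine regular_fiber_tensor Q L ?_
  rcases eq_or_ne Q ⊥ with hQ | hQ
  · letI : Algebra A L := ((algebraMap Am L).comp (algebraMap A Am)).toAlgebra
    haveI : IsScalarTower A Am L := IsScalarTower.of_algebraMap_eq' rfl
    have hinjQ : Function.Injective (algebraMap Am Q.ResidueField) := by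
      rw [injective_iff_map_eq_zero]
      intro x hx
      rwa [Ideal.algebraMap_residueField_eq_zero, hQ, Ideal.mem_bot] at hx
    have hinj : Function.Injective (algebraMap A L) :=
      ((algebraMap Q.ResidueField L).injective.comp hinjQ).comp
        (IsLocalization.injective Am p.primeCompl_le_nonZeroDivisors)
    haveI : FaithfulSMul A L := (faithfulSMul_iff_algebraMap_injective _ _).mpr hinj
    haveI : IsScalarTower A Q.ResidueField L := IsScalarTower.to₁₃₄ A Am Q.ResidueField L
    haveI : FaithfulSMul A Q.ResidueField := (faithfulSMul_iff_algebraMap_injective _ _).mpr (by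
      rw [IsScalarTower.algebraMap_eq A Am Q.ResidueField]
      exact hinjQ.comp (IsLocalization.injective Am p.primeCompl_le_nonZeroDivisors))
    haveI : Algebra.IsAlgebraic A Q.ResidueField :=
      isAlgebraic_of_div (algebraMap A Q.ResidueField) (fun s => isAlgebraic_algebraMap s)
        (exists_div_residueField p Q)
    haveI : Algebra.IsAlgebraic A L := Algebra.IsAlgebraic.trans A Q.ResidueField L
    haveI : Algebra.EssFiniteType A Q.ResidueField := Algebra.EssFiniteType.comp A Am _
    haveI : Algebra.EssFiniteType A L := Algebra.EssFiniteType.comp A Q.ResidueField L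
    haveI := regular_tensor_cpl_of_base A A p L (fun c hc h0 => hc (by
        rw [(map_eq_zero_iff _ hinj).mp h0]; exact Ideal.zero_mem _))
      (by
        let pc := p.comap (algebraMap A A)
        haveI : IsRegularLocalRing (Localization.AtPrime pc) := IsRegularRing.isRegularLocalRing_localization pc
        haveI : IsRegularLocalRing (EGA4.Cpl (Localization.AtPrime pc)) := (S0548.result _).1 inferInstance
        haveI := isRegularRing_of_local (EGA4.Cpl (Localization.AtPrime pc))
        exact regular_tensor_field _ (fun E => ext_cpl_atPrime pc E) (Or.inl inferInstance) L)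
    exact IsRegularRing.of_ringEquiv (R := L ⊗[A] D)
      (IsLocalization.algebraTensorEquiv p.primeCompl Am L D).symm.toRingEquiv
  · haveI hmax : Q.IsMaximal := Ideal.IsPrime.isMaximal inferInstance hQ
    let κ := Q.ResidueField
    have hs : Function.Surjective (algebraMap Am κ) := Ideal.algebraMap_residueField_surjective Q
    letI : Algebra κ L := inferInstance
    haveI := isRegularRing_tensor_cpl_field κ L
    obtain ⟨e⟩ := FormalFib6.exists_cplQuotEquiv Am κ hs
    exact IsRegularRing.of_ringEquiv (R := L ⊗[κ] EGA4.Cpl κ)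
      ((Algebra.TensorProduct.congr (AlgEquiv.refl (R := κ) (A₁ := L)) e.symm).toRingEquiv.trans
        (Algebra.TensorProduct.cancelBaseChange Am κ L L D).toRingEquiv)

/-- A characteristic zero Dedekind domain is excellent. -/
theorem isExcellent_of_dedekind (A : Type u) [CommRing A] [IsDedekindDomain A] [CharZero A] : EGA4.IsExcellent A := by
  haveI := FlatLoc6.isCM_of_isRegularRing A
  refine ⟨inferInstance, S0603.result A, isGRing_of_dedekind A, fun S _ _ _ => ?_⟩
  refine RegLoc6.isOpen_regular_of_finite_j0 A (fun A' _ _ _ hfin => ?_) S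
  haveI := hfin
  by_cases hinj : Function.Injective (algebraMap A A')
  · haveI : FaithfulSMul A A' := (faithfulSMul_iff_algebraMap_injective _ _).mpr hinj
    exact j0_of_charZero A A'
  · have hP : RingHom.ker (algebraMap A A') ≠ ⊥ := fun h => hinj ((RingHom.injective_iff_ker_eq_bot _).mpr h)
    let P := RingHom.ker (algebraMap A A')
    haveI : P.IsPrime := RingHom.ker_isPrime _
    haveI : P.IsMaximal := Ideal.IsPrime.isMaximal inferInstance hP
    letI := Ideal.Quotient.field P
    letI : Algebra (A ⧸ P) A' := (RingHom.kerLift (algebraMap A A')).toAlgebra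
    haveI : IsScalarTower A (A ⧸ P) A' := IsScalarTower.of_algebraMap_eq fun _ => rfl
    haveI : Module.Finite (A ⧸ P) A' := Module.Finite.of_restrictScalars_finite A _ _
    have hF : IsField A' := by
      haveI : Algebra.IsIntegral (A ⧸ P) A' := Algebra.IsIntegral.of_finite _ _
      exact isField_of_isIntegral_of_isField' (R := A ⧸ P) (Field.toIsField _)
    letI := hF.toField
    exact ⟨1, one_ne_zero, fun Q _ _ => (isRegularRing_of_local A').isRegularLocalRing_localization Q⟩

end Groth.Agent.CplFib6
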