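import Groth.Agent.CplFib6.PolyComplete
import Groth.Agent.FlatLoc6.GeomComp
import Groth.Agent.FlatLoc6.BaseChangeHom
import Groth.Agent.FormalFib6.Transfer
import Groth.Agent.S4704
import Groth.Agent.S4736

/-!
# Stability of G-rings
-/

namespace Groth.Agent.CplFib6

universe u

open TensorProduct IsLocalRing Polynomial

attribute [local instance 10000] Ring.toIntAlgebra
attribute [local instance] Polynomial.algebra

/-- Localizations are regular homomorphisms. -/
theorem isRegularHom_of_isLocalization (B S : Type u) [CommRing B] [CommRing S] [IsNoetherianRing B] [Algebra B S]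
    (M : Submonoid B) [IsLocalization M S] : CAlg.IsRegularHom B S := by
  haveI : IsNoetherianRing S := IsLocalization.isNoetherianRing M S inferInstance
  refine ⟨IsLocalization.flat S M, fun p _ => ⟨FlatLoc6.isNoetherianRing_fiber p, fun L _ _ _ => ?_⟩⟩
  haveI : IsRegularRing L := isRegularRing_of_local L
  exact GeomReg.isRegularRing_of_isLocalization
    (Algebra.algebraMapSubmonoid L (Algebra.algebraMapSubmonoid p.ResidueField M)) (L ⊗[p.ResidueField] p.Fiber S)

/-- A regular homomorphism stays regular over a localization of the base. -/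
theorem isRegularHom_of_localized_base (A A' X : Type u) [CommRing A] [CommRing A'] [CommRing X]
    [IsNoetherianRing A] [IsNoetherianRing X] [Algebra A A'] [Algebra A X] [Algebra A' X] [IsScalarTower A A' X]
    (S : Submonoid A) [IsLocalization S A'] (h : CAlg.IsRegularHom A X) : CAlg.IsRegularHom A' X := by
  haveI : IsLocalization (Algebra.algebraMapSubmonoid X S) X := IsLocalization.self (by
    rintro _ ⟨s, hs, rfl⟩
    show IsUnit (algebraMap A X s)
    rw [IsScalarTower.algebraMap_apply A A' X]
    exact (IsLocalization.map_units A' (⟨s, hs⟩ : S)).map _)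
  exact S4736.result A X h S A' X

/-- Local rings of surjective images. -/
theorem surjective_atPrime_of_surjective {R S : Type u} [CommRing R] [CommRing S] [Algebra R S]
    (hs : Function.Surjective (algebraMap R S)) (p : Ideal R) [p.IsPrime] (P : Ideal S) [P.IsPrime] [P.LiesOver p]
    (A B : Type u) [CommRing A] [CommRing B] [Algebra R A] [IsLocalization.AtPrime A p] [Algebra S B]
    [IsLocalization.AtPrime B P] [Algebra R B] [IsScalarTower R S B] [Algebra A B] [IsScalarTower R A B] :
    Function.Surjective (algebraMap A B) := fun z => by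
  obtain ⟨x, s, rfl⟩ := IsLocalization.exists_mk'_eq P.primeCompl z
  obtain ⟨x, rfl⟩ := hs x
  obtain ⟨t, ht⟩ := hs (s : S)
  have htp : t ∈ p.primeCompl := fun h => s.2 (ht ▸ (Ideal.mem_of_liesOver P p t).mp h)
  refine ⟨IsLocalization.mk' A x ⟨t, htp⟩, ?_⟩
  rw [IsLocalization.eq_mk'_iff_mul_eq, ← ht, ← IsScalarTower.algebraMap_apply, ← IsScalarTower.algebraMap_apply,
    IsScalarTower.algebraMap_apply R A B, ← map_mul, IsLocalization.mk'_spec, ← IsScalarTower.algebraMap_apply]

/-- The local condition passes to quotients. -/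
theorem localCond_of_surjective (A B : Type u) [CommRing A] [CommRing B] [IsNoetherianRing A] [IsNoetherianRing B]
    [IsLocalRing A] [IsLocalRing B] [Algebra A B] (hs : Function.Surjective (algebraMap A B))
    (h : CAlg.IsRegularHom A (EGA4.Cpl A)) : CAlg.IsRegularHom B (EGA4.Cpl B) := by
  obtain ⟨e⟩ := FormalFib6.exists_cplQuotEquiv A B hs
  haveI := FlatLoc6.isNoetherianRing_cpl A
  haveI : Algebra.FiniteType A B := Algebra.FiniteType.of_surjective (Algebra.ofId A B) hs
  exact FormalFib6.isRegularHom_of_algEquiv e (FlatLoc6.isRegularHom_baseChange A (EGA4.Cpl A) B (Or.inr inferInstance) h)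

/-- Quotients of G-rings are G-rings. -/
theorem isGRing_of_surjective {R S : Type u} [CommRing R] [CommRing S] (φ : R →+* S) (hφ : Function.Surjective φ)
    (hR : CAlg.IsGRing R) : CAlg.IsGRing S := by
  haveI := hR.1
  haveI hS : IsNoetherianRing S := isNoetherianRing_of_surjective R S φ hφ
  letI := φ.toAlgebra
  refine ⟨hS, fun P _ => ?_⟩
  let p := P.comap φ
  haveI : p.IsPrime := Ideal.comap_isPrime _ _
  haveI : P.LiesOver p := ⟨rfl⟩
  letI := Localization.AtPrime.algebraOfLiesOver p P
  exact localCond_of_surjective (Localization.AtPrime p) (Localization.AtPrime P)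
    (surjective_atPrime_of_surjective (R := R) (S := S) hφ p P _ _) (hR.2 p)

/-- A fibre seen over the base. -/
theorem regular_fiber_tensor {A D : Type u} [CommRing A] [CommRing D] [Algebra A D] (Q : Ideal A) [Q.IsPrime]
    (L : Type u) [Field L] [Algebra Q.ResidueField L] [Algebra A L] [IsScalarTower A Q.ResidueField L]
    (h : IsRegularRing (L ⊗[A] D)) : IsRegularRing (L ⊗[Q.ResidueField] Q.Fiber D) :=
  haveI := h
  IsRegularRing.of_ringEquiv (R := L ⊗[A] D)
    (Algebra.TensorProduct.cancelBaseChange A Q.ResidueField L L D).symm.toRingEquiv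

/-- Polynomial rings over complete local rings satisfy the local condition. -/
theorem localCond_polynomial_complete (R : Type u) [CommRing R] [IsLocalRing R] [IsNoetherianRing R]
    [IsAdicComplete (maximalIdeal R) R] (P : Ideal R[X]) [P.IsPrime] :
    CAlg.IsRegularHom (Localization.AtPrime P) (EGA4.Cpl (Localization.AtPrime P)) := by
  let Am := Localization.AtPrime P
  let D := EGA4.Cpl Am
  haveI := FlatLoc6.faithfullyFlat_cpl Am
  haveI := FlatLoc6.isNoetherianRing_cpl Am
  refine ⟨inferInstance, fun Q _ => ⟨FlatLoc6.isNoetherianRing_fiber (B := D) Q, fun L _ _ hL => ?_⟩⟩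
  haveI := hL
  letI : Algebra Am L := ((algebraMap Q.ResidueField L).comp (algebraMap Am Q.ResidueField)).toAlgebra
  haveI : IsScalarTower Am Q.ResidueField L := IsScalarTower.of_algebraMap_eq' rfl
  refine regular_fiber_tensor Q L ?_
  let κ := Q.ResidueField
  haveI : Algebra.EssFiniteType R[X] κ := Algebra.EssFiniteType.comp R[X] Am _
  let q := Q.comap (algebraMap R[X] Am)
  haveI : q.IsPrime := Ideal.comap_isPrime _ _
  have hqP : q ≤ P := fun x hx => (IsLocalization.AtPrime.to_map_mem_maximal_iff Am P x).mp
    (le_maximalIdeal (Ideal.IsPrime.ne_top inferInstance) hx)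
  have hker : ∀ g, algebraMap R[X] κ g = 0 ↔ g ∈ q := fun g => by
    rw [IsScalarTower.algebraMap_apply R[X] Am κ, Ideal.algebraMap_residueField_eq_zero]
    rfl
  let q0 := q.comap (Polynomial.C)
  haveI : q0.IsPrime := Ideal.comap_isPrime _ _
  let R1 := R ⧸ q0
  haveI : IsLocalRing R1 := IsLocalRing.of_surjective' (Ideal.Quotient.mk q0) Ideal.Quotient.mk_surjective
  haveI := isAdicComplete_quot q0
  have hπ : Function.Surjective (algebraMap R[X] R1[X]) :=
    Polynomial.map_surjective _ Ideal.Quotient.mk_surjective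
  have hπker : RingHom.ker (algebraMap R[X] R1[X]) ≤ RingHom.ker (algebraMap R[X] κ) := by
    intro g hg
    rw [RingHom.mem_ker, hker]
    rw [RingHom.mem_ker, Polynomial.algebraMap_def, Polynomial.coe_mapRingHom] at hg
    rw [g.as_sum_support_C_mul_X_pow]
    refine Ideal.sum_mem _ fun i _ => Ideal.mul_mem_right _ _ ?_
    have h1 := congrArg (fun r : R1[X] => r.coeff i) hg
    simp only [Polynomial.coeff_map, Polynomial.coeff_zero] at h1
    exact (Ideal.Quotient.eq_zero_iff_mem (I := q0)).mp h1
  letI : Algebra R1[X] κ :=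
    (RingHom.liftOfSurjective (algebraMap R[X] R1[X]) hπ ⟨algebraMap R[X] κ, hπker⟩).toAlgebra
  have hlift : ∀ g, algebraMap R1[X] κ (algebraMap R[X] R1[X] g) = algebraMap R[X] κ g := fun g =>
    RingHom.liftOfRightInverse_comp_apply _ _ _ ⟨algebraMap R[X] κ, hπker⟩ g
  haveI : IsScalarTower R[X] R1[X] κ := IsScalarTower.of_algebraMap_eq fun g => (hlift g).symm
  haveI : Algebra.EssFiniteType R1[X] κ := Algebra.EssFiniteType.of_comp R[X] _ κ
  letI : Algebra R1[X] L := ((algebraMap κ L).comp (algebraMap R1[X] κ)).toAlgebra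
  haveI : IsScalarTower R1[X] κ L := IsScalarTower.of_algebraMap_eq' rfl
  let P1 := P.map (algebraMap R[X] R1[X])
  have hkerP : RingHom.ker (algebraMap R[X] R1[X]) ≤ P := fun g hg => hqP ((hker g).mp (hπker hg))
  haveI : P1.IsPrime := Ideal.map_isPrime_of_surjective hπ hkerP
  haveI : P1.LiesOver P := ⟨by
    rw [Ideal.under_def, Ideal.comap_map_of_surjective' _ hπ, sup_of_le_left hkerP]⟩
  haveI := regular_tensor_poly_cpl R1 P1 κ L
    (by
      refine (injective_iff_map_eq_zero ((algebraMap R1[X] κ).comp Polynomial.C)).mpr ?_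
      intro r hr
      obtain ⟨r, rfl⟩ := Ideal.Quotient.mk_surjective r
      refine Ideal.Quotient.eq_zero_iff_mem.mpr ((hker _).mp ?_)
      rw [← hlift]
      rw [RingHom.comp_apply] at hr
      rw [Polynomial.algebraMap_def, Polynomial.coe_mapRingHom, Polynomial.map_C]
      exact hr)
    (fun g hg => by
      obtain ⟨g, rfl⟩ := hπ g
      rw [RingHom.mem_ker, hlift, hker] at hg
      exact Ideal.mem_map_of_mem _ (hqP hg))
    (fun z => by
      obtain ⟨a, b, rfl⟩ := exists_div_residueField P Q z
      exact ⟨algebraMap R[X] R1[X] a, algebraMap R[X] R1[X] b, by rw [hlift, hlift]⟩)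
  let B := Localization.AtPrime P1
  letI := Localization.AtPrime.algebraOfLiesOver P P1
  have hsurj : Function.Surjective (algebraMap Am B) := surjective_atPrime_of_surjective hπ P P1 Am B
  have hu : ∀ s : P1.primeCompl, IsUnit (algebraMap R1[X] L s) := fun s => by
    obtain ⟨t, ht⟩ := hπ (s : R1[X])
    have htP : t ∉ P := fun h => s.2 (ht ▸ Ideal.mem_map_of_mem _ h)
    rw [← ht]
    show IsUnit (algebraMap κ L (algebraMap R1[X] κ _))
    rw [hlift, IsScalarTower.algebraMap_apply R[X] Am κ]
    exact (((IsLocalization.map_units Am (⟨t, htP⟩ : P.primeCompl)).map _).map _)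
  letI : Algebra B L := (IsLocalization.lift hu).toAlgebra
  haveI : IsScalarTower R1[X] B L := IsScalarTower.of_algebraMap_eq fun x => (IsLocalization.lift_eq hu x).symm
  haveI : IsScalarTower Am B L := IsScalarTower.of_algebraMap_eq' <| by
    refine IsLocalization.ringHom_ext P.primeCompl (RingHom.ext fun x => ?_)
    show algebraMap κ L (algebraMap Am κ (algebraMap R[X] Am x)) = algebraMap B L (algebraMap Am B (algebraMap R[X] Am x))
    rw [← IsScalarTower.algebraMap_apply R[X] Am B, IsScalarTower.algebraMap_apply R[X] R1[X] B,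
      ← IsScalarTower.algebraMap_apply R1[X] B L, ← IsScalarTower.algebraMap_apply R[X] Am κ, ← hlift]
    rfl
  exact regular_tensor_of_quot (A := Am) (B := B) hsurj R1[X] P1.primeCompl L

/-- Polynomial rings over a local ring with regular formal fibres. -/
theorem localCond_polynomial_local (R : Type u) [CommRing R] [IsLocalRing R] [IsNoetherianRing R]
    (h : CAlg.IsRegularHom R (EGA4.Cpl R)) (P : Ideal R[X]) [P.IsPrime] :
    CAlg.IsRegularHom (Localization.AtPrime P) (EGA4.Cpl (Localization.AtPrime P)) := by
  let Rh := EGA4.Cpl R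
  haveI := FlatLoc6.isNoetherianRing_cpl R
  haveI := FlatLoc6.isLocalRing_cpl R
  haveI := FlatLoc6.faithfullyFlat_cpl R
  haveI := isAdicComplete_cpl R
  let e := Algebra.IsPushout.equiv R R[X] Rh Rh[X]
  have hB : CAlg.IsRegularHom R[X] Rh[X] :=
    FormalFib6.isRegularHom_of_algEquiv e (FlatLoc6.isRegularHom_baseChange R Rh R[X] (Or.inr inferInstance) h)
  haveI : Module.FaithfullyFlat R[X] Rh[X] := Module.FaithfullyFlat.of_linearEquiv _ _ e.toLinearEquiv.symm
  obtain ⟨⟨P', _⟩, hP'⟩ := PrimeSpectrum.comap_surjective_of_faithfullyFlat (A := R[X]) (B := Rh[X]) ⟨P, inferInstance⟩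
  haveI : P'.LiesOver P := ⟨(congrArg PrimeSpectrum.asIdeal hP').symm⟩
  let X' := Localization.AtPrime P'
  letI := Localization.AtPrime.algebraOfLiesOver P P'
  haveI := FlatLoc6.isLocalHom_atPrime P P'
  haveI : IsNoetherianRing Rh[X] := inferInstance
  haveI : IsNoetherianRing X' := IsLocalization.isNoetherianRing P'.primeCompl _ inferInstance
  have h1 : CAlg.IsRegularHom R[X] X' :=
    FlatLoc6.isRegularHom_comp R[X] Rh[X] X' hB (isRegularHom_of_isLocalization Rh[X] X' P'.primeCompl)
  have h2 : CAlg.IsRegularHom (Localization.AtPrime P) X' :=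
    isRegularHom_of_localized_base R[X] (Localization.AtPrime P) X' P.primeCompl h1
  exact S4704.result (Localization.AtPrime P) X' h2 (localCond_polynomial_complete Rh P')

/-- Polynomial rings over G-rings are G-rings. -/
theorem isGRing_polynomial {R : Type u} [CommRing R] (hR : CAlg.IsGRing R) : CAlg.IsGRing R[X] := by
  haveI := hR.1
  refine ⟨inferInstance, fun P _ => ?_⟩
  let p := P.comap (Polynomial.C)
  haveI : p.IsPrime := Ideal.comap_isPrime _ _
  let Am := Localization.AtPrime p
  let pc := p.primeCompl.map (Polynomial.C : R →+* R[X])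
  haveI : IsLocalization pc Am[X] := Polynomial.isLocalization p.primeCompl Am
  have hdisj : Disjoint (pc : Set R[X]) (P : Set R[X]) := Set.disjoint_left.mpr fun x hx hxP => by
    obtain ⟨c, hc, rfl⟩ := hx
    exact hc hxP
  let P0 := P.map (algebraMap R[X] Am[X])
  haveI : P0.IsPrime := IsLocalization.isPrime_of_isPrime_disjoint pc _ P ‹_› hdisj
  haveI : IsLocalization.AtPrime (Localization.AtPrime P0) P := by
    convert IsLocalization.isLocalization_isLocalization_atPrime_isLocalization pc (Localization.AtPrime P0) P0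
    exact (IsLocalization.under_map_of_isPrime_disjoint pc _ ‹_› hdisj).symm
  exact MorLib.GRing.localCond_of_equiv
    (IsLocalization.algEquiv P.primeCompl (Localization.AtPrime P0) (Localization.AtPrime P)).toRingEquiv
    (localCond_polynomial_local Am (hR.2 p) P0)

/-- Finite type algebras over G-rings are G-rings. -/
theorem isGRing_of_finiteType {R : Type u} [CommRing R] (hR : CAlg.IsGRing R) (S : Type u) [CommRing S]
    [Algebra R S] [Algebra.FiniteType R S] : CAlg.IsGRing S := by
  obtain ⟨n, f, hf⟩ := Algebra.FiniteType.iff_quotient_mvPolynomial''.1 ‹Algebra.FiniteType R S›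
  have key : ∀ m : ℕ, CAlg.IsGRing (MvPolynomial (Fin m) R) := by
    intro m
    induction m with
    | zero =>
      exact isGRing_of_surjective (MvPolynomial.isEmptyRingEquiv R (Fin 0)).symm.toRingHom
        (MvPolynomial.isEmptyRingEquiv R (Fin 0)).symm.surjective hR
    | succ m ih =>
      exact isGRing_of_surjective (MvPolynomial.finSuccEquiv R m).symm.toRingEquiv.toRingHom
        (MvPolynomial.finSuccEquiv R m).symm.surjective (isGRing_polynomial ih)
  exact isGRing_of_surjective f.toRingHom hf (key n)

end Groth.Agent.CplFib6
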