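import Groth.Agent.CplFib6.DerivExt
import Groth.Agent.FlatLoc6.Cpl
import Mathlib.RingTheory.AdicCompletion.Algebra

/-!
# Derivations extend to completions
-/

namespace Groth.Agent.CplFib6

universe u

attribute [local instance 10000] Ring.toIntAlgebra

/-- Derivations lower the order by at most one. -/
theorem derivation_pow_mem {A : Type u} [CommRing A] (D : Derivation ℤ A A) (I : Ideal A) :
    ∀ (n : ℕ), ∀ z ∈ I ^ (n + 1), D z ∈ I ^ n := by
  intro n
  induction n with
  | zero => intro z _; simp
  | succ n ih =>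
    intro z hz
    rw [pow_succ] at hz
    refine Submodule.mul_induction_on hz (fun x hx y hy => ?_) fun x y hx hy => by
      rw [map_add]; exact add_mem hx hy
    rw [Derivation.leibniz, smul_eq_mul, smul_eq_mul]
    refine add_mem (Ideal.mul_mem_right _ _ hx) ?_
    rw [mul_comm y, pow_succ]
    exact Ideal.mul_mem_mul (ih x hx) hy

/-- Derivations extend to adic completions. -/
theorem exists_derivation_adicCompletion {A : Type u} [CommRing A] (I : Ideal A) (D : Derivation ℤ A A) :
    ∃ E : DerZ (AdicCompletion I A), ∀ a,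
      E (algebraMap A (AdicCompletion I A) a) = algebraMap A (AdicCompletion I A) (D a) := by
  classical
  let a : AdicCompletion I A → ℕ → A := fun x n => (Ideal.Quotient.mk_surjective (AdicCompletion.evalₐ I n x)).choose
  have ha : ∀ x n, Ideal.Quotient.mk (I ^ n) (a x n) = AdicCompletion.evalₐ I n x := fun x n =>
    (Ideal.Quotient.mk_surjective (AdicCompletion.evalₐ I n x)).choose_spec
  have hcomp : ∀ x {i n : ℕ}, i ≤ n → a x i - a x n ∈ I ^ i := by
    intro x i n hin
    obtain ⟨g, rfl⟩ := AdicCompletion.mk_surjective I A x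
    have h1 : a (AdicCompletion.mk I A g) i - g i ∈ I ^ i := by
      rw [← Ideal.Quotient.eq, ha, AdicCompletion.evalₐ_mk]
    have h2 : a (AdicCompletion.mk I A g) n - g n ∈ I ^ n := by
      rw [← Ideal.Quotient.eq, ha, AdicCompletion.evalₐ_mk]
    have h3 : g i - g n ∈ I ^ i := by simpa using SModEq.sub_mem.1 (g.property hin)
    have h4 := sub_mem (add_mem h1 h3) (Ideal.pow_le_pow_right hin h2)
    exact (show a (AdicCompletion.mk I A g) i - g i + (g i - g n) - (a (AdicCompletion.mk I A g) n - g n) =
      a (AdicCompletion.mk I A g) i - a (AdicCompletion.mk I A g) n by ring) ▸ h4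
  let seq : AdicCompletion I A → AdicCompletion.AdicCauchySequence I A := fun x =>
    ⟨fun n => D (a x (n + 1)), fun {i n} hin => by
      rw [SModEq.sub_mem, smul_eq_mul, Ideal.mul_top, ← map_sub]
      exact derivation_pow_mem D I i _ (hcomp x (Nat.add_le_add_right hin 1))⟩
  let E₀ : AdicCompletion I A → AdicCompletion I A := fun x => AdicCompletion.mk I A (seq x)
  have key : ∀ (x : AdicCompletion I A) (n : ℕ) (b : A), AdicCompletion.evalₐ I (n + 1) x = Ideal.Quotient.mk _ b →
      AdicCompletion.evalₐ I n (E₀ x) = Ideal.Quotient.mk _ (D b) := by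
    intro x n b hb
    rw [AdicCompletion.evalₐ_mk, Ideal.Quotient.eq]
    show D (a x (n + 1)) - D b ∈ _
    rw [← map_sub]
    refine derivation_pow_mem D I n _ ?_
    rw [← Ideal.Quotient.eq, ha, hb]
  have hdown : ∀ (x : AdicCompletion I A) (n : ℕ) (b : A), AdicCompletion.evalₐ I (n + 1) x = Ideal.Quotient.mk _ b →
      AdicCompletion.evalₐ I n x = Ideal.Quotient.mk _ b := by
    intro x n b hb
    rw [← ha x n, Ideal.Quotient.eq]
    have h1 : a x (n + 1) - b ∈ I ^ (n + 1) := by rw [← Ideal.Quotient.eq, ha, hb]
    have h2 := add_mem (hcomp x n.le_succ) (Ideal.pow_le_pow_right n.le_succ h1)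
    simpa using h2
  let E₁ : AdicCompletion I A →+ AdicCompletion I A :=
    { toFun := E₀
      map_zero' := AdicCompletion.ext_evalₐ fun n => by
        rw [key 0 n 0 (by simp), map_zero D, map_zero, map_zero]
      map_add' := fun x y => AdicCompletion.ext_evalₐ fun n => by
        rw [key (x + y) n (a x (n + 1) + a y (n + 1)) (by simp [map_add, ha]), map_add (AdicCompletion.evalₐ I n),
          key x n _ (ha x _).symm, key y n _ (ha y _).symm, map_add, map_add] }
  refine ⟨Derivation.mk' E₁.toIntLinearMap fun x y => AdicCompletion.ext_evalₐ fun n => ?_, fun b =>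
    AdicCompletion.ext_evalₐ fun n => ?_⟩
  · show AdicCompletion.evalₐ I n (E₀ (x * y)) = AdicCompletion.evalₐ I n (x * E₀ y + y * E₀ x)
    rw [key (x * y) n (a x (n + 1) * a y (n + 1)) (by simp [map_mul, ha]), Derivation.leibniz, smul_eq_mul,
      smul_eq_mul, map_add (AdicCompletion.evalₐ I n), map_mul (AdicCompletion.evalₐ I n),
      map_mul (AdicCompletion.evalₐ I n), key x n _ (ha x _).symm, key y n _ (ha y _).symm,
      hdown x n _ (ha x _).symm, hdown y n _ (ha y _).symm, map_add (Ideal.Quotient.mk (I ^ n)),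
      map_mul (Ideal.Quotient.mk (I ^ n)), map_mul (Ideal.Quotient.mk (I ^ n))]
  · show AdicCompletion.evalₐ I n (E₀ _) = _
    rw [key _ n b (by simp), AlgHom.commutes, Ideal.Quotient.algebraMap_eq]

/-- Derivations extend to completed local rings. -/
theorem ext_cpl_atPrime {C : Type u} [CommRing C] (p : Ideal C) [p.IsPrime] (D : Derivation ℤ C C) :
    Ext (algebraMap C (EGA4.Cpl (Localization.AtPrime p))) D := by
  obtain ⟨D', hD'⟩ := exists_derivation_localization (S := Localization.AtPrime p) p.primeCompl D
  obtain ⟨E, hE⟩ := exists_derivation_adicCompletion (IsLocalRing.maximalIdeal (Localization.AtPrime p)) D'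
  exact ⟨E, fun x => by
    rw [IsScalarTower.algebraMap_apply C (Localization.AtPrime p) (EGA4.Cpl (Localization.AtPrime p)),
      IsScalarTower.algebraMap_apply C (Localization.AtPrime p) (EGA4.Cpl (Localization.AtPrime p)) (D x), hE, hD']⟩

end Groth.Agent.CplFib6
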