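import Groth.Agent.FlatLoc6.TensorField
import Groth.Agent.FlatLoc6.BaseChangeEss
import Groth.Agent.FlatLoc6.GeomComp

/-!
# Cohen–Macaulay ascends along flat maps with Cohen–Macaulay fibres
-/

namespace Groth.Agent.CplFib6

universe u

open TensorProduct IsLocalRing FlatLoc6

theorem isCM_of_flat_of_fibres (R S : Type u) [CommRing R] [CommRing S] [Algebra R S] [Module.Flat R S]
    [IsNoetherianRing S] [LocCoh.IsCohenMacaulayRing R]
    (h : ∀ (r : Ideal R) [r.IsPrime], LocCoh.IsCohenMacaulayRing (r.Fiber S)) : LocCoh.IsCohenMacaulayRing S := by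
  refine ⟨fun q _ => ?_⟩
  haveI : IsNoetherianRing (Localization.AtPrime q) := IsLocalization.isNoetherianRing q.primeCompl _ inferInstance
  refine ⟨?_⟩
  let p := q.comap (algebraMap R S)
  have hC : (⟨q, ‹_›⟩ : PrimeSpectrum S) ∈ Module.support S S := by
    rw [Module.mem_support_iff]
    exact (LC.selfLoc q.primeCompl).toEquiv.nontrivial
  have hR : (⟨p, inferInstance⟩ : PrimeSpectrum R) ∈ Module.support R R := by
    rw [Module.mem_support_iff]
    exact (LC.selfLoc p.primeCompl).toEquiv.nontrivial
  haveI := h p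
  have hfib := fib_eq_of_fiber_isCM p q rfl
  obtain ⟨h1, h2⟩ := formulas_atPrime S R p q rfl hC hR
  let e : LocalizedModule q.primeCompl (S ⊗[R] R) ≃ₗ[Localization.AtPrime q] LocalizedModule q.primeCompl S :=
    IsLocalizedModule.mapEquiv q.primeCompl (LocalizedModule.mkLinearMap _ _) (LocalizedModule.mkLinearMap _ _)
      (Localization.AtPrime q) (AlgebraTensorModule.rid R S S)
  rw [Hensel.depth_congr (e.trans (LC.selfLoc q.primeCompl)), Hensel.depth_congr (LC.selfLoc p.primeCompl)] at h1
  rw [Module.supportDim_eq_of_equiv (e.trans (LC.selfLoc q.primeCompl)),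
    Module.supportDim_eq_of_equiv (LC.selfLoc p.primeCompl), hfib] at h2
  rw [h1, h2, (LocCoh.IsCohenMacaulayRing.isCohenMacaulayLocalRing_localization p).supportDim_eq_depth]
  push_cast
  ring

/-- A finitely generated extension of scalars of a Cohen–Macaulay algebra over a field is Cohen–Macaulay. -/
theorem isCM_tensor_of_essFin (k F L : Type u) [Field k] [CommRing F] [Algebra k F] [Field L] [Algebra k L]
    [Algebra.EssFiniteType k L] [LocCoh.IsCohenMacaulayRing F] : LocCoh.IsCohenMacaulayRing (L ⊗[k] F) := by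
  haveI : IsNoetherianRing (F ⊗[k] L) := Algebra.EssFiniteType.isNoetherianRing F _
  haveI := isCM_of_flat_of_fibres F (F ⊗[k] L) fun r _ =>
    isCM_of_ringEquiv (R := L ⊗[k] r.ResidueField)
      ((Algebra.TensorProduct.comm k L r.ResidueField).toRingEquiv.trans
        (Algebra.TensorProduct.cancelBaseChange k F r.ResidueField r.ResidueField L).symm.toRingEquiv)
      (isCM_tensor_field k r.ResidueField L)
  exact isCM_of_ringEquiv (Algebra.TensorProduct.comm k F L).toRingEquiv inferInstance

theorem isCM_of_faithfullyFlat (R S : Type u) [CommRing R] [CommRing S] [Algebra R S] [Module.FaithfullyFlat R S]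
    [IsNoetherianRing R] [LocCoh.IsCohenMacaulayRing S] : LocCoh.IsCohenMacaulayRing R := by
  refine ⟨fun p _ => ?_⟩
  haveI : IsNoetherianRing (Localization.AtPrime p) := IsLocalization.isNoetherianRing p.primeCompl _ inferInstance
  refine ⟨?_⟩
  obtain ⟨Q, hQ⟩ := PrimeSpectrum.comap_surjective_of_faithfullyFlat (A := R) (B := S) ⟨p, ‹_›⟩
  have hQp : Q.asIdeal.comap (algebraMap R S) = p := congrArg PrimeSpectrum.asIdeal hQ
  obtain ⟨q, hq, hqQ⟩ := Ideal.exists_minimalPrimes_le (I := p.map (algebraMap R S)) (J := Q.asIdeal)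
    (Ideal.map_le_iff_le_comap.mpr hQp.ge)
  haveI := hq.1.1
  have hqp : q.comap (algebraMap R S) = p :=
    le_antisymm ((Ideal.comap_mono hqQ).trans hQp.le) (Ideal.map_le_iff_le_comap.mp hq.1.2)
  have hC : (⟨q, ‹_›⟩ : PrimeSpectrum S) ∈ Module.support S S := by
    rw [Module.mem_support_iff]
    exact (LC.selfLoc q.primeCompl).toEquiv.nontrivial
  have hR : (⟨p, inferInstance⟩ : PrimeSpectrum R) ∈ Module.support R R := by
    rw [Module.mem_support_iff]
    exact (LC.selfLoc p.primeCompl).toEquiv.nontrivial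
  obtain ⟨h0, h0'⟩ := fib_zero_of_minimal (A := R) S q hC fun P hP hle hpP => by
    refine le_antisymm hle (hq.2 ⟨P.isPrime, Ideal.map_le_iff_le_comap.mpr ?_⟩ hle)
    rw [← hqp]; exact hpP.ge
  obtain ⟨h1, h2⟩ := formulas_atPrime S R p q hqp hC hR
  let e : LocalizedModule q.primeCompl (S ⊗[R] R) ≃ₗ[Localization.AtPrime q] LocalizedModule q.primeCompl S :=
    IsLocalizedModule.mapEquiv q.primeCompl (LocalizedModule.mkLinearMap _ _) (LocalizedModule.mkLinearMap _ _)
      (Localization.AtPrime q) (AlgebraTensorModule.rid R S S)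
  rw [Hensel.depth_congr (e.trans (LC.selfLoc q.primeCompl)), Hensel.depth_congr (LC.selfLoc p.primeCompl), h0',
    add_zero] at h1
  rw [Module.supportDim_eq_of_equiv (e.trans (LC.selfLoc q.primeCompl)),
    Module.supportDim_eq_of_equiv (LC.selfLoc p.primeCompl), h0, add_zero] at h2
  rw [← h1, ← h2]
  exact (LocCoh.IsCohenMacaulayRing.isCohenMacaulayLocalRing_localization q).supportDim_eq_depth

/-- Cohen–Macaulay fibres descend along a faithfully flat second map. -/
theorem isCM_descend (A B C : Type u) [CommRing A] [CommRing B] [CommRing C] [Algebra A B] [Algebra B C]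
    [Algebra A C] [IsScalarTower A B C] [Module.FaithfullyFlat B C] [IsNoetherianRing B]
    (p : Ideal A) [p.IsPrime] (K : Type u) [Field K] [Algebra p.ResidueField K] [Module.Finite p.ResidueField K]
    (h : LocCoh.IsCohenMacaulayRing (K ⊗[p.ResidueField] p.Fiber C)) :
    LocCoh.IsCohenMacaulayRing (K ⊗[p.ResidueField] p.Fiber B) := by
  letI : Algebra A K := ((algebraMap p.ResidueField K).comp (algebraMap A p.ResidueField)).toAlgebra
  haveI : IsScalarTower A p.ResidueField K := IsScalarTower.of_algebraMap_eq' rfl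
  haveI : Algebra.EssFiniteType A K := Algebra.EssFiniteType.comp A p.ResidueField K
  haveI : IsNoetherianRing (B ⊗[A] K) := Algebra.EssFiniteType.isNoetherianRing B _
  haveI := isCM_of_ringEquiv (compEquiv A B C p K).symm h
  haveI := isCM_of_faithfullyFlat (B ⊗[A] K) ((B ⊗[A] K) ⊗[B] C)
  exact isCM_of_ringEquiv (baseEquiv A B p K).symm inferInstance

end Groth.Agent.CplFib6
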