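import Groth.Agent.CohenLib.PowerSeries
import Groth.Agent.PSLib.Regular
import Groth.Agent.FlatLoc6.DimEq
import Mathlib.RingTheory.Flat.Stability
import Mathlib.RingTheory.AdicCompletion.AsTensorProduct
import Mathlib.RingTheory.Ideal.GoingDown

/-!
# Power series over a Noetherian or regular local ring
-/

namespace Groth.Agent.CplFib6

universe u

open IsLocalRing

theorem flat_mvPowerSeries (R : Type u) [CommRing R] [IsNoetherianRing R] (e : ℕ) :
    Module.Flat R (MvPowerSeries (Fin e) R) := by
  haveI : Module.Flat (MvPolynomial (Fin e) R)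
      (AdicCompletion (MvPolynomial.idealOfVars (Fin e) R) (MvPolynomial (Fin e) R)) :=
    AdicCompletion.flat_of_isNoetherian _
  haveI : Module.Flat (MvPolynomial (Fin e) R) (MvPowerSeries (Fin e) R) :=
    Module.Flat.of_linearEquiv (MvPowerSeries.toAdicCompletionAlgEquiv (Fin e) R).toLinearEquiv
  exact Module.Flat.trans R (MvPolynomial (Fin e) R) _

/-- The constants and the variables generate. -/
theorem sub_C_mem_vars {R : Type u} [CommRing R] {e : ℕ} (f : MvPowerSeries (Fin e) R) :
    f - algebraMap R _ (MvPowerSeries.constantCoeff f) ∈ PSLib.vars e R :=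
  PSLib.mem_vars_iff.2 (by simp [MvPowerSeries.algebraMap_apply])

theorem isLocalHom_algebraMap (R : Type u) [CommRing R] [IsLocalRing R] (e : ℕ) :
    IsLocalHom (algebraMap R (MvPowerSeries (Fin e) R)) :=
  ⟨fun r hr => by
    rw [MvPowerSeries.isUnit_iff_constantCoeff] at hr
    simpa [MvPowerSeries.algebraMap_apply] using hr⟩

/-- Power series over a regular local ring form a regular local ring. -/
theorem isRegularLocalRing_mvPowerSeries (R : Type u) [CommRing R] [IsRegularLocalRing R] (e : ℕ) :
    IsRegularLocalRing (MvPowerSeries (Fin e) R) := by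
  classical
  haveI : IsNoetherianRing (MvPowerSeries (Fin e) R) := by infer_instance
  haveI := isLocalHom_algebraMap R e
  haveI := flat_mvPowerSeries R e
  refine IsRegularLocalRing.of_spanFinrank_maximalIdeal_le (MvPowerSeries (Fin e) R) ?_
  obtain ⟨s, hsc, hs⟩ := Submodule.FG.exists_span_finset_card_eq_spanFinrank
    (IsNoetherian.noetherian (maximalIdeal R))
  have hs' : Ideal.span (s : Set R) = maximalIdeal R := hs
  let X : Finset (MvPowerSeries (Fin e) R) := Finset.univ.image MvPowerSeries.X ∪ s.image (algebraMap R (MvPowerSeries (Fin e) R))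
  have hle : maximalIdeal (MvPowerSeries (Fin e) R) ≤ Ideal.span (X : Set (MvPowerSeries (Fin e) R)) := by
    intro f hf
    have hc : MvPowerSeries.constantCoeff f ∈ maximalIdeal R := by
      rw [mem_maximalIdeal, mem_nonunits_iff] at hf ⊢
      rwa [← MvPowerSeries.isUnit_iff_constantCoeff]
    have e1 : PSLib.vars e R ≤ Ideal.span (X : Set (MvPowerSeries (Fin e) R)) := Ideal.span_mono (by
      rintro _ ⟨i, rfl⟩
      exact Finset.mem_union_left _ (Finset.mem_image_of_mem _ (Finset.mem_univ i)))
    have e2 : algebraMap R (MvPowerSeries (Fin e) R) (MvPowerSeries.constantCoeff f) ∈ Ideal.span (X : Set (MvPowerSeries (Fin e) R)) := by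
      have h := Ideal.mem_map_of_mem (algebraMap R (MvPowerSeries (Fin e) R)) (hs' ▸ hc)
      rw [Ideal.map_span] at h
      exact Ideal.span_mono (by
        rintro _ ⟨x, hx, rfl⟩
        exact Finset.mem_union_right _ (Finset.mem_image_of_mem _ hx)) h
    have h := add_mem (e1 (sub_C_mem_vars f)) e2
    rwa [sub_add_cancel] at h
  have hge : Ideal.span (X : Set (MvPowerSeries (Fin e) R)) ≤ maximalIdeal (MvPowerSeries (Fin e) R) := by
    refine Ideal.span_le.2 fun x hx => ?_
    simp only [X, Finset.coe_union, Finset.coe_image, Set.mem_union, Set.mem_image] at hx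
    rw [SetLike.mem_coe, mem_maximalIdeal, mem_nonunits_iff, MvPowerSeries.isUnit_iff_constantCoeff]
    rcases hx with ⟨i, -, rfl⟩ | ⟨c, hc, rfl⟩
    · simp
    · have : c ∈ maximalIdeal R := hs' ▸ Ideal.subset_span hc
      rw [mem_maximalIdeal, mem_nonunits_iff] at this
      simpa [MvPowerSeries.algebraMap_apply, MvPowerSeries.constantCoeff_C] using this
  have hrank : (maximalIdeal (MvPowerSeries (Fin e) R)).spanFinrank ≤ e + (maximalIdeal R).spanFinrank := by
    rw [le_antisymm hle hge]
    refine (Submodule.spanFinrank_span_le_ncard_of_finite X.finite_toSet).trans ?_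
    rw [Set.ncard_coe_finset]
    exact (Finset.card_union_le _ _).trans
      (add_le_add (Finset.card_image_le.trans (by simp)) (Finset.card_image_le.trans hsc.le))
  -- the dimension
  have h1 := FlatLoc6.ringKrullDim_add_fibre_le (A := R) (B := (MvPowerSeries (Fin e) R)) (fun p hp hne q hq hcon => by
    haveI := hp
    haveI := hq.1.1
    have hpq : p ≤ q.comap (algebraMap R (MvPowerSeries (Fin e) R)) := Ideal.map_le_iff_le_comap.mp hq.1.2
    obtain ⟨Q, hQq, hQ, hQp⟩ := Ideal.exists_ideal_le_liesOver_of_le (p := p) (q := q.comap (algebraMap R (MvPowerSeries (Fin e) R))) q hpq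
    have hle : p.map (algebraMap R (MvPowerSeries (Fin e) R)) ≤ Q := Ideal.map_le_iff_le_comap.mpr hQp.over.le
    have : q ≤ Q := hq.2 ⟨hQ, hle⟩ hQq
    apply hne
    rw [hQp.over, le_antisymm hQq this]
    exact hcon) ⊥ bot_le
  rw [Ideal.map_bot, ringKrullDim_eq_of_ringEquiv (RingEquiv.quotientBot R),
    ringKrullDim_eq_of_ringEquiv (RingEquiv.quotientBot (MvPowerSeries (Fin e) R))] at h1
  have hsurj : Function.Surjective (MvPowerSeries.map (σ := Fin e) (residue R)) := by
    intro g
    choose c hc using fun d => residue_surjective (MvPowerSeries.coeff d g)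
    exact ⟨(c : MvPowerSeries (Fin e) R), MvPowerSeries.ext fun d => (MvPowerSeries.coeff_map _ _ _).trans (hc d)⟩
  have hker : ∀ x ∈ EGA4.mB R (MvPowerSeries (Fin e) R), MvPowerSeries.map (σ := Fin e) (residue R) x = 0 := by
    intro x hx
    refine RingHom.mem_ker.1 ((Ideal.map_le_iff_le_comap.mpr fun r hr => ?_) hx)
    rw [Ideal.mem_comap, RingHom.mem_ker, MvPowerSeries.algebraMap_apply]
    simp [(residue_eq_zero_iff r).2 hr]
  have h2 := ringKrullDim_le_of_surjective (Ideal.Quotient.lift (EGA4.mB R (MvPowerSeries (Fin e) R)) _ hker)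
    (Ideal.Quotient.lift_surjective_of_surjective _ _ hsurj)
  rw [PSLib.ringKrullDim_eq] at h2
  calc ((maximalIdeal (MvPowerSeries (Fin e) R)).spanFinrank : WithBot ℕ∞) ≤ ((e + (maximalIdeal R).spanFinrank : ℕ) : WithBot ℕ∞) :=
        Nat.cast_le.2 hrank
    _ = ringKrullDim R + (e : WithBot ℕ∞) := by
        rw [← IsRegularLocalRing.spanFinrank_maximalIdeal (R := R)]; push_cast; exact add_comm _ _
    _ ≤ ringKrullDim R + ringKrullDim (EGA4.FibRing R (MvPowerSeries (Fin e) R)) := by gcongr
    _ ≤ ringKrullDim (MvPowerSeries (Fin e) R) := h1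

end Groth.Agent.CplFib6
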