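import Groth.Agent.CohenLib.Structure
import Groth.Agent.CplFib6.PS
import Groth.Agent.CplFib6.Ascend
import Groth.Agent.FlatLoc6.RegCM
import Groth.Agent.FlatLoc6.Cpl
import Groth.Agent.FormalFib6.Transfer
import Groth.Agent.S0564
import Groth.Agent.S0548
import Mathlib.RingTheory.RegularLocalRing.Polynomial

/-!
# Quotients of regular local rings and their formal fibres
-/

namespace Groth.Agent.CplFib6

universe u

open IsLocalRing TensorProduct FlatLoc6

/-- A regular local ring is a regular ring. -/
theorem isRegularRing_of_local (R : Type u) [CommRing R] [IsRegularLocalRing R] : IsRegularRing R :=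
  { isRegularLocalRing_localization := fun p _ => S0564.result R p }

/-- A flat map of Cohen–Macaulay rings has Cohen–Macaulay fibres. -/
theorem fiber_isCM_of_isCM (R S : Type u) [CommRing R] [CommRing S] [Algebra R S] [Module.Flat R S]
    [LocCoh.IsCohenMacaulayRing R] [LocCoh.IsCohenMacaulayRing S] (p : Ideal R) [p.IsPrime] :
    LocCoh.IsCohenMacaulayRing (p.Fiber S) := by
  refine fiber_isCM_of_fib_eq p fun q _ hq => ?_
  have hC : (⟨q, ‹_›⟩ : PrimeSpectrum S) ∈ Module.support S S := by
    rw [Module.mem_support_iff]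
    exact (LC.selfLoc q.primeCompl).toEquiv.nontrivial
  have hR : (⟨p, inferInstance⟩ : PrimeSpectrum R) ∈ Module.support R R := by
    rw [Module.mem_support_iff]
    exact (LC.selfLoc p.primeCompl).toEquiv.nontrivial
  haveI : IsNoetherianRing (Localization.AtPrime q) := IsLocalization.isNoetherianRing q.primeCompl _ inferInstance
  haveI : IsNoetherianRing (Localization.AtPrime p) := IsLocalization.isNoetherianRing p.primeCompl _ inferInstance
  obtain ⟨h1, h2⟩ := formulas_atPrime S R p q hq hC hR
  let e : LocalizedModule q.primeCompl (S ⊗[R] R) ≃ₗ[Localization.AtPrime q] LocalizedModule q.primeCompl S :=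
    IsLocalizedModule.mapEquiv q.primeCompl (LocalizedModule.mkLinearMap _ _) (LocalizedModule.mkLinearMap _ _)
      (Localization.AtPrime q) (AlgebraTensorModule.rid R S S)
  rw [Hensel.depth_congr (e.trans (LC.selfLoc q.primeCompl)), Hensel.depth_congr (LC.selfLoc p.primeCompl)] at h1
  rw [Module.supportDim_eq_of_equiv (e.trans (LC.selfLoc q.primeCompl)),
    Module.supportDim_eq_of_equiv (LC.selfLoc p.primeCompl)] at h2
  have hp := (LocCoh.IsCohenMacaulayRing.isCohenMacaulayLocalRing_localization p).supportDim_eq_depth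
  have hq' := (LocCoh.IsCohenMacaulayRing.isCohenMacaulayLocalRing_localization q).supportDim_eq_depth
  rw [hp, hq', h1] at h2
  have hfin : (LocCoh.depth (Localization.AtPrime p) (Localization.AtPrime p) : ℕ∞) ≠ ⊤ := fun h => by
    rw [h, Module.supportDim_self_eq_ringKrullDim] at hp
    exact (ringKrullDim_lt_top (R := Localization.AtPrime p)).ne hp
  obtain ⟨n, hn⟩ := WithTop.ne_top_iff_exists.mp hfin
  rw [← hn] at h2
  push_cast at h2
  generalize fibDim R q S = d at h2 ⊢
  generalize fibDepth R q S = e' at h2 ⊢
  induction d with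
  | bot => simp at h2
  | coe d =>
    have h3 := WithBot.coe_inj.mp (h2.trans (WithBot.coe_add _ _).symm)
    rw [WithTop.add_left_cancel (ENat.natCast_ne_top n) h3]

/-- Regular local rings have Cohen–Macaulay formal fibres. -/
theorem hasCMFormalFibres_regular (R : Type u) [CommRing R] [IsRegularLocalRing R] : EGA4.HasCMFormalFibres R := by
  intro p _
  haveI := faithfullyFlat_cpl R
  haveI : IsRegularLocalRing (EGA4.Cpl R) := (S0548.result R).1 inferInstance
  haveI := isRegularRing_of_local R
  haveI := isRegularRing_of_local (EGA4.Cpl R)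
  haveI := isCM_of_isRegularRing R
  haveI := isCM_of_isRegularRing (EGA4.Cpl R)
  exact fiber_isCM_of_isCM R (EGA4.Cpl R) p

/-- Quotients of regular local rings have Cohen–Macaulay formal fibres. -/
theorem hasCMFormalFibres_of_surjective (R B : Type u) [CommRing R] [IsRegularLocalRing R] [CommRing B]
    [IsNoetherianRing B] [IsLocalRing B] [Algebra R B] (hsurj : Function.Surjective (algebraMap R B)) :
    EGA4.HasCMFormalFibres B := by
  intro p' _
  obtain ⟨e⟩ := FormalFib6.exists_cplQuotEquiv R B hsurj
  obtain ⟨e'⟩ := FormalFib6.fiber_equiv_of_surjective R (EGA4.Cpl R) B hsurj p'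
  exact isCM_of_ringEquiv (e'.trans (FormalFib6.fiberCongr e p').toRingEquiv) (hasCMFormalFibres_regular R _)

/-- A complete Noetherian local ring is a quotient of a regular local ring. -/
theorem exists_regular_cover (R : Type u) [CommRing R] [IsLocalRing R] [IsNoetherianRing R]
    [IsAdicComplete (maximalIdeal R) R] :
    ∃ (S : Type u) (_ : CommRing S) (_ : IsRegularLocalRing S) (f : S →+* R), Function.Surjective f := by
  obtain ⟨Λ, _, n, f, hΛ, hf⟩ := CohenLib.exists_surjective R (IsNoetherian.noetherian _)
  haveI : IsRegularLocalRing Λ := by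
    rcases hΛ with h | ⟨h1, h2, -, -⟩
    · letI := h.toField
      infer_instance
    · infer_instance
  haveI := isRegularLocalRing_mvPowerSeries Λ n
  exact ⟨MvPowerSeries (Fin n) Λ, inferInstance, inferInstance, f, hf⟩

/-- A local algebra essentially of finite type over a complete local ring is a quotient of a regular
local ring. -/
theorem exists_regular_cover_essFin (C B : Type u) [CommRing C] [IsLocalRing C] [IsNoetherianRing C]
    [IsAdicComplete (maximalIdeal C) C] [CommRing B] [IsLocalRing B] [Algebra C B] [Algebra.EssFiniteType C B] :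
    ∃ (S : Type u) (_ : CommRing S) (_ : IsRegularLocalRing S) (f : S →+* B), Function.Surjective f := by
  classical
  obtain ⟨R, _, _, f, hf⟩ := exists_regular_cover C
  obtain ⟨σ, hσ⟩ := (Algebra.essFiniteType_iff C B).mp ‹_›
  haveI := isRegularRing_of_local R
  let g : MvPolynomial σ R →+* B := MvPolynomial.eval₂Hom ((algebraMap C B).comp f) (fun i => (i : B))
  have hrange : ∀ t ∈ Algebra.adjoin C (σ : Set B), t ∈ g.range := by
    intro t ht
    induction ht using Algebra.adjoin_induction with
    | mem x hx => exact ⟨MvPolynomial.X ⟨x, hx⟩, by simp [g]⟩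
    | algebraMap c =>
      obtain ⟨r, rfl⟩ := hf c
      exact ⟨MvPolynomial.C r, by simp [g]⟩
    | add x y _ _ hx hy => exact add_mem hx hy
    | mul x y _ _ hx hy => exact mul_mem hx hy
  let P := (maximalIdeal B).comap g
  haveI : P.IsPrime := Ideal.comap_isPrime _ _
  have hu : ∀ y : P.primeCompl, IsUnit (g y) := fun y => notMem_maximalIdeal.mp y.2
  refine ⟨Localization.AtPrime P, inferInstance, IsRegularRing.isRegularLocalRing_localization P,
    IsLocalization.lift hu, fun b => ?_⟩
  obtain ⟨t, ht, htu, hbt⟩ := hσ b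
  obtain ⟨y, hy⟩ := hrange t ht
  obtain ⟨x, hx⟩ := hrange _ hbt
  have hyP : y ∈ P.primeCompl := fun h => notMem_maximalIdeal.mpr htu (hy ▸ h)
  refine ⟨IsLocalization.mk' _ x ⟨y, hyP⟩, ?_⟩
  rw [IsLocalization.lift_mk'_spec]
  rw [hx, hy, mul_comm]

end Groth.Agent.CplFib6
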