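import Groth.Agent.FlatLoc6.Cpl
import Mathlib.RingTheory.LocalRing.ResidueField.Ideal
import Mathlib.RingTheory.TensorProduct.Quotient

/-!
# Local homomorphisms and completions
-/

namespace Groth.Agent.CplFib6

universe u

open IsLocalRing TensorProduct

variable (A B : Type u) [CommRing A] [CommRing B] [IsLocalRing A] [IsLocalRing B]
  [IsNoetherianRing A] [IsNoetherianRing B]

theorem isAdicComplete_cpl [IsLocalRing (EGA4.Cpl A)] :
    IsAdicComplete (maximalIdeal (EGA4.Cpl A)) (EGA4.Cpl A) := by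
  have fg : (maximalIdeal A).FG := IsNoetherian.noetherian _
  haveI := AdicCompletion.isAdicComplete_self (maximalIdeal A) fg
  rw [AdicCompletion.maximalIdeal_eq_map_of_fg fg]
  infer_instance

theorem exists_sub_mem [IsLocalRing (EGA4.Cpl A)] (x : EGA4.Cpl A) :
    ∃ a, x - algebraMap A (EGA4.Cpl A) a ∈ maximalIdeal (EGA4.Cpl A) := by
  have fg : (maximalIdeal A).FG := IsNoetherian.noetherian _
  obtain ⟨a, ha⟩ := Ideal.Quotient.mk_surjective (AdicCompletion.evalOneₐ (maximalIdeal A) x)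
  refine ⟨a, ?_⟩
  rw [AdicCompletion.maximalIdeal_eq_map_of_fg fg, ← AdicCompletion.ker_evalOneₐ_eq_map _ fg, RingHom.mem_ker,
    map_sub, AlgHom.toRingHom_eq_coe, RingHom.coe_coe, AlgHom.commutes]
  exact sub_eq_zero.mpr ha.symm

variable [Algebra A B] [IsLocalHom (algebraMap A B)]

theorem finite_residue_cpl [Algebra (EGA4.Cpl A) (EGA4.Cpl B)] [IsScalarTower A (EGA4.Cpl A) (EGA4.Cpl B)]
    [IsLocalRing (EGA4.Cpl A)] [IsLocalRing (EGA4.Cpl B)] [IsLocalHom (algebraMap (EGA4.Cpl A) (EGA4.Cpl B))]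
    [Module.Finite (ResidueField A) (ResidueField B)] :
    Module.Finite (ResidueField (EGA4.Cpl A)) (ResidueField (EGA4.Cpl B)) := by
  have hA : IsLocalHom (algebraMap A (EGA4.Cpl A)) := ((local_hom_TFAE _).out 0 2).mpr
    (AdicCompletion.maximalIdeal_eq_map_of_fg (IsNoetherian.noetherian _)).ge
  have hB : IsLocalHom (algebraMap B (EGA4.Cpl B)) := ((local_hom_TFAE _).out 0 2).mpr
    (AdicCompletion.maximalIdeal_eq_map_of_fg (IsNoetherian.noetherian _)).ge
  let f : ResidueField B →+* ResidueField (EGA4.Cpl B) := ResidueField.map (algebraMap B (EGA4.Cpl B))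
  have hf : Function.Surjective f := fun y => by
    obtain ⟨x, rfl⟩ := residue_surjective y
    obtain ⟨b, hb⟩ := exists_sub_mem B x
    exact ⟨residue B b, ((residue_eq_zero_iff _).2 hb |> fun h => (sub_eq_zero.mp ((map_sub _ _ _).symm.trans h))).symm⟩
  have e : (algebraMap (ResidueField (EGA4.Cpl A)) (ResidueField (EGA4.Cpl B))).comp
      (ResidueField.map (algebraMap A (EGA4.Cpl A))) = f.comp (algebraMap (ResidueField A) (ResidueField B)) := by
    refine RingHom.ext fun x => ?_
    obtain ⟨c, rfl⟩ := residue_surjective x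
    show residue _ (algebraMap (EGA4.Cpl A) (EGA4.Cpl B) (algebraMap A (EGA4.Cpl A) c)) =
      residue _ (algebraMap B (EGA4.Cpl B) (algebraMap A B c))
    rw [← IsScalarTower.algebraMap_apply, ← IsScalarTower.algebraMap_apply]
  refine RingHom.finite_algebraMap.1
    (RingHom.Finite.of_comp_finite (f := ResidueField.map (algebraMap A (EGA4.Cpl A))) ?_)
  rw [e]
  exact (RingHom.Finite.of_surjective f hf).comp (RingHom.finite_algebraMap.2 inferInstance)

theorem closedFibre_equiv [Algebra (EGA4.Cpl A) (EGA4.Cpl B)] [IsScalarTower A (EGA4.Cpl A) (EGA4.Cpl B)]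
    [IsLocalRing (EGA4.Cpl A)] :
    Nonempty ((maximalIdeal A).Fiber (EGA4.Cpl B) ≃+* EGA4.FibRing (EGA4.Cpl A) (EGA4.Cpl B)) := by
  have h : EGA4.mB (EGA4.Cpl A) (EGA4.Cpl B) = (maximalIdeal A).map (algebraMap A (EGA4.Cpl B)) := by
    show Ideal.map _ (maximalIdeal (EGA4.Cpl A)) = _
    rw [AdicCompletion.maximalIdeal_eq_map_of_fg (IsNoetherian.noetherian _), Ideal.map_map,
      ← IsScalarTower.algebraMap_eq]
  let k : (A ⧸ maximalIdeal A) ≃ₐ[A] (maximalIdeal A).ResidueField :=
    AlgEquiv.ofBijective (IsScalarTower.toAlgHom A (A ⧸ maximalIdeal A) (maximalIdeal A).ResidueField)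
      (maximalIdeal A).bijective_algebraMap_quotient_residueField
  exact ⟨((((Algebra.TensorProduct.congr k.symm (AlgEquiv.refl (R := A) (A₁ := EGA4.Cpl B))).toRingEquiv).trans
    (Algebra.TensorProduct.comm A (A ⧸ maximalIdeal A) (EGA4.Cpl B)).toRingEquiv).trans
    (Algebra.TensorProduct.quotIdealMapEquivTensorQuot (EGA4.Cpl B) (maximalIdeal A)).symm.toRingEquiv).trans
    (Ideal.quotEquivOfEq h.symm)⟩

end Groth.Agent.CplFib6
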