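import Groth.Agent.CplFib6.FieldTensor
import Groth.Agent.CplFib6.DerivCompl
import Groth.Agent.CplFib6.QuotReg
import Groth.Agent.CplFib6.Setup
import Groth.Agent.CohenLib.Structure
import Mathlib.RingTheory.Ideal.GoingUp
import Mathlib.RingTheory.Localization.LocalizationLocalization

/-!
# Completions of local rings of finite extensions
-/

namespace Groth.Agent.CplFib6

universe u

open TensorProduct IsLocalRing

/-- A flat quotient of a regular ring is regular. -/
theorem regular_quot_of_flat (T S : Type u) [CommRing T] [CommRing S] [Algebra T S] [Module.Flat T S]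
    [IsRegularRing T] (hs : Function.Surjective (algebraMap T S)) : IsRegularRing S := by
  haveI : IsNoetherianRing S := isNoetherianRing_of_surjective T S (algebraMap T S) hs
  refine FlatLoc6.regular_of_flat_of_fibres T S fun p _ => ?_
  haveI := FlatLoc6.isNoetherianRing_fiber (B := S) p
  rcases subsingleton_or_nontrivial (p.Fiber S) with h | h
  · rw [isRegularRing_iff]
    intro P hP
    exact absurd (Ideal.eq_top_iff_one P |>.mpr (Subsingleton.elim (0 : p.Fiber S) 1 ▸ P.zero_mem)) hP.ne_top
  have hsurj : Function.Surjective (algebraMap p.ResidueField (p.Fiber S)) := fun z => by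
    induction z using TensorProduct.induction_on with
    | zero => exact ⟨0, map_zero _⟩
    | tmul x y =>
      obtain ⟨t, rfl⟩ := hs y
      refine ⟨t • x, ?_⟩
      show (t • x) ⊗ₜ[T] (1 : S) = _
      rw [smul_tmul, Algebra.algebraMap_eq_smul_one]
    | add a b ha hb =>
      obtain ⟨a', rfl⟩ := ha
      obtain ⟨b', rfl⟩ := hb
      exact ⟨a' + b', map_add _ _ _⟩
  haveI : IsRegularRing p.ResidueField := isRegularRing_of_local p.ResidueField
  exact IsRegularRing.of_ringEquiv (RingEquiv.ofBijective (algebraMap p.ResidueField (p.Fiber S))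
    ⟨RingHom.injective _, hsurj⟩)

/-- A local homomorphism induces a map of completions. -/
theorem exists_cplMap (A A' : Type u) [CommRing A] [CommRing A'] [IsLocalRing A] [IsLocalRing A'] [Algebra A A']
    [IsLocalHom (algebraMap A A')] :
    ∃ _ : Algebra (EGA4.Cpl A) (EGA4.Cpl A'), IsScalarTower A (EGA4.Cpl A) (EGA4.Cpl A') := by
  let I := maximalIdeal A
  let I' := maximalIdeal A'
  have h1 : ∀ n, I ^ n ≤ (I' ^ n).comap (algebraMap A A') := fun n => by
    rw [← Ideal.map_le_iff_le_comap, Ideal.map_pow]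
    exact Ideal.pow_right_mono (((local_hom_TFAE (algebraMap A A')).out 0 2).mp (by infer_instance)) n
  let F : EGA4.Cpl A →+* EGA4.Cpl A' := AdicCompletion.liftRingHom I'
    (fun n => (Ideal.quotientMap (I' ^ n) (algebraMap A A') (h1 n)).comp (AdicCompletion.evalₐ I n).toRingHom)
    (fun {m n} hle => by
      refine RingHom.ext fun x => ?_
      obtain ⟨g, rfl⟩ := AdicCompletion.mk_surjective I A x
      simp only [RingHom.comp_apply, AlgHom.toRingHom_eq_coe, RingHom.coe_coe, AdicCompletion.evalₐ_mk,
        Ideal.quotientMap_mk]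
      show Ideal.Quotient.mk _ (algebraMap A A' (g n)) = Ideal.Quotient.mk _ (algebraMap A A' (g m))
      rw [Ideal.Quotient.eq, ← map_sub]
      refine h1 m ?_
      simpa using neg_mem (SModEq.sub_mem.1 (g.property hle)))
  letI : Algebra (EGA4.Cpl A) (EGA4.Cpl A') := F.toAlgebra
  exact ⟨inferInstance, IsScalarTower.of_algebraMap_eq fun a => by
    refine AdicCompletion.ext_evalₐ fun n => ?_
    rw [IsScalarTower.algebraMap_apply A A' (EGA4.Cpl A'), AlgHom.commutes]
    show _ = AdicCompletion.evalₐ I' n (F (algebraMap A (EGA4.Cpl A) a))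
    rw [AdicCompletion.evalₐ_liftRingHom, RingHom.comp_apply, AlgHom.toRingHom_eq_coe, RingHom.coe_coe,
      AlgHom.commutes]
    rfl⟩

/-- Elements of the completion are approximated. -/
theorem exists_sub_mem_pow (A : Type u) [CommRing A] [IsLocalRing A] [IsNoetherianRing A] (n : ℕ)
    (x : EGA4.Cpl A) :
    ∃ a, x - algebraMap A (EGA4.Cpl A) a ∈ (maximalIdeal A ^ n).map (algebraMap A (EGA4.Cpl A)) := by
  obtain ⟨a, ha⟩ := Submodule.mkQ_surjective _ (AdicCompletion.eval (maximalIdeal A) A n x)
  refine ⟨a, ?_⟩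
  rw [← LocalCrit.smul_top_eq_map, AdicCompletion.pow_smul_top_eq_ker_eval (IsNoetherian.noetherian _),
    LinearMap.mem_ker, map_sub, ← ha, sub_eq_zero]
  exact (AdicCompletion.eval_of _ _ n a).symm

section Abstract

variable (A B D : Type u) [CommRing A] [CommRing B] [CommRing D] [IsLocalRing A] [IsNoetherianRing A]
  [IsLocalRing D] [IsNoetherianRing D] [Algebra A B] [Module.Finite A B] [Algebra A D] [Algebra B D]
  [IsScalarTower A B D] [Module.Flat B D]

/-- If `D` is dense over the finite algebra `B`, it is a flat quotient of `B ⊗ Â`. -/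
theorem exists_flat_surjective [Algebra (EGA4.Cpl A) D] [IsScalarTower A (EGA4.Cpl A) D]
    (hle : (maximalIdeal A).map (algebraMap A D) ≤ maximalIdeal D)
    (hdense : ∀ d : D, ∃ b : B, d - algebraMap B D b ∈ (maximalIdeal A).map (algebraMap A D)) :
    ∃ _ : Algebra (B ⊗[A] EGA4.Cpl A) D, IsScalarTower B (B ⊗[A] EGA4.Cpl A) D ∧
      Function.Surjective (algebraMap (B ⊗[A] EGA4.Cpl A) D) ∧ Module.Flat (B ⊗[A] EGA4.Cpl A) D := by
  let T0 := EGA4.Cpl A
  let m := maximalIdeal A
  haveI := FlatLoc6.isNoetherianRing_cpl A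
  haveI := FlatLoc6.isLocalRing_cpl A
  haveI := isAdicComplete_cpl A
  have hmax : maximalIdeal T0 = m.map (algebraMap A T0) :=
    AdicCompletion.maximalIdeal_eq_map_of_fg (IsNoetherian.noetherian _)
  have ha : (maximalIdeal T0).map (algebraMap T0 D) = m.map (algebraMap A D) := by
    rw [hmax, Ideal.map_map, ← IsScalarTower.algebraMap_eq]
  let Φ : B ⊗[A] T0 →ₐ[A] D :=
    Algebra.TensorProduct.lift (IsScalarTower.toAlgHom A B D) (IsScalarTower.toAlgHom A T0 D)
      fun _ _ => Commute.all _ _
  letI : Algebra (B ⊗[A] T0) D := Φ.toRingHom.toAlgebra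
  haveI : IsScalarTower B (B ⊗[A] T0) D := IsScalarTower.of_algebraMap_eq fun b => by
    show _ = Φ (b ⊗ₜ[A] 1)
    simp [Φ]
  -- finiteness
  let a := (maximalIdeal T0).map (algebraMap T0 D)
  let f : B →ₗ[A] D ⧸ a := (Ideal.Quotient.mkₐ A a).toLinearMap ∘ₗ (IsScalarTower.toAlgHom A B D).toLinearMap
  haveI : Module.Finite A (D ⧸ a) := Module.Finite.of_surjective f fun y => by
    obtain ⟨d, rfl⟩ := Ideal.Quotient.mk_surjective y
    obtain ⟨b, hb⟩ := hdense d
    refine ⟨b, (Ideal.Quotient.eq.mpr ?_).symm⟩
    show d - algebraMap B D b ∈ (maximalIdeal T0).map (algebraMap T0 D)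
    rw [ha]
    exact hb
  haveI : Module.Finite T0 (D ⧸ a) := Module.Finite.of_restrictScalars_finite A T0 _
  haveI : Module.Finite T0 D := RingHom.finite_algebraMap.1
    (CohenLib.finite_of_complete (algebraMap T0 D) (maximalIdeal T0) (ha.le.trans hle)
      (RingHom.finite_algebraMap.2 (inferInstance : Module.Finite T0 (D ⧸ a))))
  -- surjectivity
  have hsurj : Function.Surjective (algebraMap (B ⊗[A] T0) D) := by
    let M : Submodule T0 D := Submodule.span T0 (Set.range (algebraMap B D))
    have hM : ⊤ ≤ M := by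
      refine Submodule.le_of_le_smul_of_le_jacobson_bot Module.Finite.fg_top
        (maximalIdeal_le_jacobson (⊥ : Ideal T0)) fun d _ => ?_
      obtain ⟨b, hb⟩ := hdense d
      refine Submodule.mem_sup.mpr ⟨_, Submodule.subset_span ⟨b, rfl⟩, d - algebraMap B D b, ?_, add_sub_cancel _ _⟩
      rw [Ideal.smul_top_eq_map, Submodule.restrictScalars_mem, ha]
      exact hb
    intro d
    induction hM (Submodule.mem_top : d ∈ ⊤) using Submodule.span_induction with
    | mem y hy =>
      obtain ⟨b, rfl⟩ := hy
      exact ⟨algebraMap B _ b, (IsScalarTower.algebraMap_apply _ _ _ _).symm⟩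
    | zero => exact ⟨0, map_zero _⟩
    | add y z _ _ hy hz =>
      obtain ⟨y', rfl⟩ := hy
      obtain ⟨z', rfl⟩ := hz
      exact ⟨y' + z', map_add _ _ _⟩
    | smul c y _ hy =>
      obtain ⟨y', rfl⟩ := hy
      refine ⟨(1 : B) ⊗ₜ[A] c * y', ?_⟩
      rw [map_mul, Algebra.smul_def]
      congr 1
      show Φ ((1 : B) ⊗ₜ[A] c) = _
      simp [Φ]
  -- flatness
  haveI : IsNoetherianRing (B ⊗[A] T0) := by
    haveI : IsNoetherianRing (T0 ⊗[A] B) := IsNoetherianRing.of_finite T0 _
    exact isNoetherianRing_of_ringEquiv _ (Algebra.TensorProduct.comm A T0 B).toRingEquiv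
  refine ⟨inferInstance, inferInstance, hsurj, ?_⟩
  refine FlatLoc6.flat_of_dense (A := B) (m.map (algebraMap A B)) (fun n r => ?_) ?_
  · have hJ : ((m.map (algebraMap A B)) ^ n).map (algebraMap B (B ⊗[A] T0)) =
        (m ^ n).map (algebraMap A (B ⊗[A] T0)) := by
      rw [← Ideal.map_pow, Ideal.map_map, ← IsScalarTower.algebraMap_eq]
    rw [hJ]
    induction r using TensorProduct.induction_on with
    | zero => exact ⟨0, by simp⟩
    | tmul b x =>
      obtain ⟨c, hc⟩ := exists_sub_mem_pow A n x
      refine ⟨c • b, ?_⟩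
      have h1 : b ⊗ₜ[A] x - algebraMap B (B ⊗[A] T0) (c • b) =
          (b ⊗ₜ[A] (1 : T0)) *
            (Algebra.TensorProduct.includeRight (R := A) (A := B) (x - algebraMap A T0 c)) := by
        rw [Algebra.TensorProduct.includeRight_apply, Algebra.TensorProduct.tmul_mul_tmul, mul_one, one_mul,
          tmul_sub, Algebra.algebraMap_eq_smul_one c, ← smul_tmul]
        rfl
      rw [h1]
      refine Ideal.mul_mem_left _ _ ?_
      have h2 := Ideal.mem_map_of_mem
        (Algebra.TensorProduct.includeRight (R := A) (A := B) (B := T0)).toRingHom hc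
      rw [Ideal.map_map, show (Algebra.TensorProduct.includeRight (R := A) (A := B) (B := T0)).toRingHom.comp
        (algebraMap A T0) = algebraMap A (B ⊗[A] T0) from
        (Algebra.TensorProduct.includeRight (R := A) (A := B) (B := T0)).comp_algebraMap] at h2
      exact h2
    | add y z hy hz =>
      obtain ⟨b, hb⟩ := hy
      obtain ⟨c, hc⟩ := hz
      refine ⟨b + c, ?_⟩
      rw [map_add, add_sub_add_comm]
      exact add_mem hb hc
  · rw [Ideal.map_map, ← IsScalarTower.algebraMap_eq]
    exact hle.trans (maximalIdeal_le_jacobson _)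

end Abstract

/-- Regularity of a field tensor passes to a flat quotient. -/
theorem regular_tensor_quot (B T D L : Type u) [CommRing B] [CommRing T] [CommRing D] [CommRing L] [Algebra B T]
    [Algebra B D] [Algebra T D] [IsScalarTower B T D] [Module.Flat T D] [Algebra B L]
    [IsRegularRing (L ⊗[B] T)] (hs : Function.Surjective (algebraMap T D)) : IsRegularRing (L ⊗[B] D) := by
  haveI : IsRegularRing (T ⊗[B] L) := IsRegularRing.of_ringEquiv (Algebra.TensorProduct.comm B L T).toRingEquiv
  have hs' : Function.Surjective (algebraMap (T ⊗[B] L) ((T ⊗[B] L) ⊗[T] D)) := fun z => by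
    induction z using TensorProduct.induction_on with
    | zero => exact ⟨0, map_zero _⟩
    | tmul x d =>
      obtain ⟨t, rfl⟩ := hs d
      refine ⟨t • x, ?_⟩
      show (t • x) ⊗ₜ[T] (1 : D) = _
      rw [smul_tmul, Algebra.algebraMap_eq_smul_one]
    | add y z hy hz =>
      obtain ⟨y', rfl⟩ := hy
      obtain ⟨z', rfl⟩ := hz
      exact ⟨y' + z', map_add _ _ _⟩
  haveI := regular_quot_of_flat (T ⊗[B] L) ((T ⊗[B] L) ⊗[T] D) hs'
  exact IsRegularRing.of_ringEquiv (R := (T ⊗[B] L) ⊗[T] D)
    (((Algebra.TensorProduct.comm T (T ⊗[B] L) D).toRingEquiv.trans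
      (Algebra.TensorProduct.cancelBaseChange B T D D L).toRingEquiv).trans
      (Algebra.TensorProduct.comm B D L).toRingEquiv)

/-- The local ring is generated modulo the ideal below by the semilocal ring. -/
theorem exists_dense_atPrime {A B Bp : Type u} [CommRing A] [CommRing B] [CommRing Bp] [IsLocalRing A]
    [Algebra A B] [Module.Finite A B] [Algebra A Bp] [Algebra B Bp] [IsScalarTower A B Bp]
    (N : Submonoid B) [IsLocalization N Bp] (z : Bp) :
    ∃ b : B, z - algebraMap B Bp b ∈ (maximalIdeal A).map (algebraMap A Bp) := by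
  let m := maximalIdeal A
  let J := m.map (algebraMap A B)
  haveI : IsArtinianRing (A ⧸ m) := by
    letI := Ideal.Quotient.field m
    infer_instance
  haveI : Module.Finite (A ⧸ m) (B ⧸ J) := Module.Finite.of_restrictScalars_finite A _ _
  haveI : IsArtinianRing (B ⧸ J) := IsArtinianRing.of_finite (A ⧸ m) (B ⧸ J)
  obtain ⟨r, s, rfl⟩ := IsLocalization.exists_mk'_eq N z
  obtain ⟨n, y, hy⟩ := IsArtinian.exists_pow_succ_smul_dvd (Ideal.Quotient.mk J s) (1 : B ⧸ J)
  obtain ⟨c, rfl⟩ := Ideal.Quotient.mk_surjective y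
  have h1 : (s : B) ^ (n + 1) * c - (s : B) ^ n ∈ J := by
    rw [← Ideal.Quotient.eq, map_mul, map_pow, map_pow]
    simpa [smul_eq_mul] using hy
  have hu := IsLocalization.map_units Bp s
  refine ⟨r * c, ?_⟩
  have h2 := Ideal.mem_map_of_mem (algebraMap B Bp) h1
  rw [show (m.map (algebraMap A B)).map (algebraMap B Bp) = m.map (algebraMap A Bp) by
    rw [Ideal.map_map, ← IsScalarTower.algebraMap_eq]] at h2
  rw [map_sub, map_mul, map_pow, map_pow, pow_succ, mul_assoc, ← mul_sub_one] at h2
  have h3 := (Ideal.unit_mul_mem_iff_mem _ (hu.pow n)).mp h2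
  have h4 : IsLocalization.mk' Bp r s - algebraMap B Bp (r * c) =
      -(IsLocalization.mk' Bp r s * (algebraMap B Bp (s : B) * algebraMap B Bp c - 1)) := by
    rw [mul_sub, ← mul_assoc, IsLocalization.mk'_spec, mul_one, map_mul]
    ring
  rw [h4]
  exact neg_mem (Ideal.mul_mem_left _ _ h3)

/-- Primes over the same prime are not nested. -/
theorem le_radical_map_atPrime {C R : Type u} [CommRing C] [CommRing R] [Algebra C R] [Algebra.IsIntegral C R]
    (P : Ideal R) [P.IsPrime] :
    maximalIdeal (Localization.AtPrime P) ≤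
      ((P.comap (algebraMap C R)).map (algebraMap C (Localization.AtPrime P))).radical := by
  rw [Ideal.radical_eq_sInf, le_sInf_iff]
  rintro Q ⟨hQ, hQp⟩
  haveI := hQp
  let Q' := Q.comap (algebraMap R (Localization.AtPrime P))
  have hle : Q' ≤ P := by
    intro x hx
    exact (IsLocalization.AtPrime.to_map_mem_maximal_iff (Localization.AtPrime P) P x).mp
      (le_maximalIdeal hQp.ne_top hx)
  have hge : P.comap (algebraMap C R) ≤ Q'.comap (algebraMap C R) := by
    rw [Ideal.comap_comap, ← IsScalarTower.algebraMap_eq, ← Ideal.map_le_iff_le_comap]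
    exact hQ
  rw [← Localization.AtPrime.map_eq_maximalIdeal, Ideal.map_le_iff_le_comap]
  by_contra hne
  obtain ⟨x, hxP, hxQ⟩ := SetLike.not_le_iff_exists.mp hne
  exact absurd hge (Ideal.comap_lt_comap_of_integral_mem_sdiff hle ⟨hxP, hxQ⟩
    (Algebra.IsIntegral.isIntegral x)).not_ge

/-- Transfer of regularity from the base change of the completion below. -/
theorem regular_tensor_transfer (C R : Type u) [CommRing C] [CommRing R] [Algebra C R] (U : Submonoid C)
    (A B D : Type u) [CommRing A] [IsLocalRing A] [IsNoetherianRing A] [CommRing B] [CommRing D] [IsLocalRing D]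
    [IsNoetherianRing D] [Algebra C A] [IsLocalization U A] [Algebra R B]
    [IsLocalization (Algebra.algebraMapSubmonoid R U) B] [Algebra A B] [Module.Finite A B] [Algebra C B]
    [IsScalarTower C A B] [IsScalarTower C R B] [Algebra A D] [Algebra B D] [IsScalarTower A B D]
    [Algebra R D] [IsScalarTower R B D] [Module.Flat B D] [Algebra (EGA4.Cpl A) D] [IsScalarTower A (EGA4.Cpl A) D]
    (hle : (maximalIdeal A).map (algebraMap A D) ≤ maximalIdeal D)
    (hdense : ∀ d : D, ∃ b : B, d - algebraMap B D b ∈ (maximalIdeal A).map (algebraMap A D))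
    (L : Type u) [Field L] [Algebra C L] [Algebra R L] [IsScalarTower C R L]
    (hL : ∀ s ∈ Algebra.algebraMapSubmonoid R U, algebraMap R L s ≠ 0)
    (hT : IsRegularRing (L ⊗[C] EGA4.Cpl A)) : IsRegularRing (L ⊗[R] D) := by
  obtain ⟨_, hst', hsurj, hflat⟩ := exists_flat_surjective A B D hle hdense
  haveI := hst'
  haveI := hflat
  let S := Algebra.algebraMapSubmonoid R U
  have hSL : ∀ s : S, IsUnit (algebraMap R L s) := fun s => isUnit_iff_ne_zero.mpr (hL s s.2)
  letI : Algebra B L := (IsLocalization.lift hSL).toAlgebra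
  haveI : IsScalarTower R B L := IsScalarTower.of_algebraMap_eq fun x => (IsLocalization.lift_eq hSL x).symm
  letI : Algebra A L := ((algebraMap B L).comp (algebraMap A B)).toAlgebra
  haveI : IsScalarTower A B L := IsScalarTower.of_algebraMap_eq' rfl
  haveI : IsScalarTower C A L := IsScalarTower.of_algebraMap_eq fun c => by
    show _ = algebraMap B L (algebraMap A B (algebraMap C A c))
    rw [← IsScalarTower.algebraMap_apply C A B, IsScalarTower.algebraMap_apply C R B,
      ← IsScalarTower.algebraMap_apply R B L, ← IsScalarTower.algebraMap_apply C R L]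
  haveI := hT
  haveI : IsRegularRing (L ⊗[B] (B ⊗[A] EGA4.Cpl A)) := IsRegularRing.of_ringEquiv (R := L ⊗[C] EGA4.Cpl A)
    ((IsLocalization.algebraTensorEquiv U A L (EGA4.Cpl A)).symm.toRingEquiv.trans
      (Algebra.TensorProduct.cancelBaseChange A B L L (EGA4.Cpl A)).symm.toRingEquiv)
  haveI := regular_tensor_quot B (B ⊗[A] EGA4.Cpl A) D L hsurj
  exact IsRegularRing.of_ringEquiv (R := L ⊗[B] D) (IsLocalization.algebraTensorEquiv S B L D).toRingEquiv

/-- The completion at a prime of a finite algebra, through the completion below. -/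
theorem regular_tensor_cpl_of_base (C : Type u) [CommRing C] [IsNoetherianRing C]
    (R : Type u) [CommRing R] [IsNoetherianRing R] [Algebra C R] [Module.Finite C R]
    (P : Ideal R) [P.IsPrime] (L : Type u) [Field L] [Algebra C L] [Algebra R L] [IsScalarTower C R L]
    (hL : ∀ c ∉ P.comap (algebraMap C R), algebraMap C L c ≠ 0)
    (hT : IsRegularRing (L ⊗[C] EGA4.Cpl (Localization.AtPrime (P.comap (algebraMap C R))))) :
    IsRegularRing (L ⊗[R] EGA4.Cpl (Localization.AtPrime P)) := by
  let pc := P.comap (algebraMap C R)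
  haveI : P.LiesOver pc := ⟨rfl⟩
  let A := Localization.AtPrime pc
  let S := Algebra.algebraMapSubmonoid R pc.primeCompl
  let B := Localization S
  let Rp := Localization.AtPrime P
  let D := EGA4.Cpl Rp
  letI := Localization.AtPrime.algebraOfLiesOver pc P
  haveI := FlatLoc6.isLocalHom_atPrime pc P
  haveI : Algebra.IsIntegral C R := Algebra.IsIntegral.of_finite C R
  have hS : S ≤ P.primeCompl := by
    rintro _ ⟨c, hc, rfl⟩
    exact hc
  have hSR : ∀ s : S, IsUnit (algebraMap R Rp s) := fun s => IsLocalization.map_units Rp ⟨(s : R), hS s.2⟩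
  letI : Algebra B Rp := (IsLocalization.lift hSR).toAlgebra
  haveI : IsScalarTower R B Rp := IsScalarTower.of_algebraMap_eq fun x => (IsLocalization.lift_eq hSR x).symm
  haveI : IsScalarTower A B Rp := IsScalarTower.of_algebraMap_eq' <| by
    refine IsLocalization.ringHom_ext pc.primeCompl (RingHom.ext fun c => ?_)
    show algebraMap A Rp (algebraMap C A c) = algebraMap B Rp (algebraMap A B (algebraMap C A c))
    rw [← IsScalarTower.algebraMap_apply C A Rp, ← IsScalarTower.algebraMap_apply C A B,
      IsScalarTower.algebraMap_apply C R B, ← IsScalarTower.algebraMap_apply R B Rp,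
      ← IsScalarTower.algebraMap_apply C R Rp]
  haveI := IsLocalization.isLocalization_of_submonoid_le B Rp S P.primeCompl hS
  haveI : Module.Flat B Rp := IsLocalization.flat Rp (P.primeCompl.map (algebraMap R B))
  haveI : IsNoetherianRing A := inferInstance
  haveI : IsNoetherianRing Rp := inferInstance
  haveI : Module.Finite A B := Module.Finite.of_isLocalization C R pc.primeCompl
  haveI := FlatLoc6.isNoetherianRing_cpl Rp
  haveI := FlatLoc6.isLocalRing_cpl Rp
  haveI := FlatLoc6.faithfullyFlat_cpl Rp
  haveI : Module.Flat B D := Module.Flat.trans B Rp D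
  obtain ⟨_, hst⟩ := exists_cplMap A Rp
  haveI := hst
  have fgR : (maximalIdeal Rp).FG := IsNoetherian.noetherian _
  have hle : (maximalIdeal A).map (algebraMap A D) ≤ maximalIdeal D := by
    rw [IsScalarTower.algebraMap_eq A Rp D, ← Ideal.map_map, AdicCompletion.maximalIdeal_eq_map_of_fg fgR]
    exact Ideal.map_mono (((local_hom_TFAE (algebraMap A Rp)).out 0 2).mp (by infer_instance))
  have hdense : ∀ d : D, ∃ b : B, d - algebraMap B D b ∈ (maximalIdeal A).map (algebraMap A D) := by
    intro d
    have hrad : maximalIdeal Rp ≤ ((maximalIdeal A).map (algebraMap A Rp)).radical := by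
      rw [← Localization.AtPrime.map_eq_maximalIdeal (I := pc), Ideal.map_map, ← IsScalarTower.algebraMap_eq]
      exact le_radical_map_atPrime P
    obtain ⟨N, hN⟩ := Ideal.exists_pow_le_of_le_radical_of_fg hrad fgR
    obtain ⟨z, hz⟩ := exists_sub_mem_pow Rp N d
    obtain ⟨b, hb⟩ := exists_dense_atPrime (A := A) (P.primeCompl.map (algebraMap R B)) z
    refine ⟨b, ?_⟩
    have h1 := Ideal.map_mono (f := algebraMap Rp D) hN hz
    have h2 := Ideal.mem_map_of_mem (algebraMap Rp D) hb
    rw [Ideal.map_map, ← IsScalarTower.algebraMap_eq] at h1 h2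
    rw [map_sub, ← IsScalarTower.algebraMap_apply B Rp D] at h2
    exact sub_add_sub_cancel d (algebraMap Rp D z) (algebraMap B D b) ▸ add_mem h1 h2
  exact regular_tensor_transfer C R pc.primeCompl A B D hle hdense L
    (fun s hs => by
      obtain ⟨c, hc, rfl⟩ := hs
      rw [← IsScalarTower.algebraMap_apply]
      exact hL c hc) hT

/-- The completion at a prime of a finite extension has regular generic fibre. -/
theorem regular_tensor_cpl_of_finite (C : Type u) [CommRing C] [IsDomain C] [IsRegularRing C]
    (hC : CharZero C ∨ ∃ p : ℕ, p.Prime ∧ CharP C p ∧ EnoughDer p C)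
    (R : Type u) [CommRing R] [IsNoetherianRing R] [Algebra C R] [Module.Finite C R]
    (P : Ideal R) [P.IsPrime] (L : Type u) [Field L] [Algebra C L] [Algebra R L] [IsScalarTower C R L]
    [FaithfulSMul C L] [Algebra.IsAlgebraic C L] [Algebra.EssFiniteType C L] :
    IsRegularRing (L ⊗[R] EGA4.Cpl (Localization.AtPrime P)) := by
  let pc := P.comap (algebraMap C R)
  let A := Localization.AtPrime pc
  haveI : IsRegularLocalRing A := IsRegularRing.isRegularLocalRing_localization pc
  haveI : IsRegularLocalRing (EGA4.Cpl A) := (S0548.result A).1 inferInstance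
  haveI := isRegularRing_of_local (EGA4.Cpl A)
  exact regular_tensor_cpl_of_base C R P L
    (fun c hc => (map_ne_zero_iff _ (FaithfulSMul.algebraMap_injective C L)).mpr
      fun h0 => hc (h0 ▸ Ideal.zero_mem _))
    (regular_tensor_field (EGA4.Cpl A) (fun E => ext_cpl_atPrime pc E) hC L)

end Groth.Agent.CplFib6
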