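import Groth.Agent.CplFib6.DerivTower
import Groth.Agent.PBasisLib.Admissible
import Mathlib.RingTheory.MvPowerSeries.Derivative
import Mathlib.RingTheory.MvPowerSeries.Expand

/-!
# Power series over a field have enough derivations
-/

namespace Groth.Agent.CplFib6

universe u

attribute [local instance 10000] Ring.toIntAlgebra

/-- An element which is not a `p`th power is moved by a derivation. -/
theorem exists_derivation_field (k : Type u) [Field k] (p : ℕ) [Fact p.Prime] [CharP k p] (c : k)
    (hc : ∀ a : k, a ^ p ≠ c) : ∃ D : Derivation ℤ k k, D c ≠ 0 := by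
  classical
  let k₀ : Subfield k := (frobenius k p).fieldRange
  have hbot : PBasisLib.Fp p k₀ (∅ : Set k) = ⊥ := by
    rw [eq_bot_iff, PBasisLib.Fp, IntermediateField.adjoin_le_iff]
    rintro x (⟨y, rfl⟩ | hx)
    · exact IntermediateField.mem_bot.mpr ⟨⟨y ^ p, y, rfl⟩, rfl⟩
    · exact absurd hx (Set.notMem_empty x)
  have hfree : PBasisLib.Free p k₀ (fun _ : PUnit.{u + 1} => c) := by
    intro a hmem
    have h2 : c ∈ PBasisLib.Fp p k₀ (∅ : Set k) := by
      refine PBasisLib.Fp_mono p k₀ ?_ hmem
      rintro _ ⟨b, hb, -⟩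
      exact absurd (Subsingleton.elim b a) hb
    rw [hbot, IntermediateField.mem_bot] at h2
    obtain ⟨⟨_, y, rfl⟩, hy⟩ := h2
    exact hc y hy
  rw [PBasisLib.free_iff_linearIndependent_D] at hfree
  obtain ⟨φ, hφ⟩ := Module.Projective.exists_dual_ne_zero k (hfree.ne_zero PUnit.unit)
  refine ⟨Derivation.mk' (φ.toAddMonoidHom.comp (KaehlerDifferential.D k₀ k).toLinearMap.toAddMonoidHom).toIntLinearMap
    (fun a b => ?_), hφ⟩
  show φ (KaehlerDifferential.D k₀ k (a * b)) = _
  rw [Derivation.leibniz, map_add, map_smul, map_smul]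
  rfl

/-- Power series over a field have enough derivations. -/
theorem enoughDer_mvPowerSeries (k : Type u) [Field k] (p : ℕ) [Fact p.Prime] [CharP k p] (n : ℕ) :
    EnoughDer p (MvPowerSeries (Fin n) k) := by
  classical
  have hp : p.Prime := Fact.out
  intro f hf
  have hroot : ∀ m : Fin n →₀ ℕ, ∃ a : k, a ^ p = MvPowerSeries.coeff m f := by
    intro m
    by_contra! h
    obtain ⟨D, hD⟩ := exists_derivation_field k p _ h
    let φ : MvPowerSeries (Fin n) k →+ MvPowerSeries (Fin n) k :=
      { toFun := fun g m => D (MvPowerSeries.coeff m g)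
        map_zero' := by ext m; simp; rfl
        map_add' := fun f g => by
          funext m
          show D (MvPowerSeries.coeff m (f + g)) = D (MvPowerSeries.coeff m f) + D (MvPowerSeries.coeff m g)
          rw [map_add, map_add] }
    refine hD ?_
    let D' : DerZ (MvPowerSeries (Fin n) k) := Derivation.mk' φ.toIntLinearMap fun f g => by
      ext m
      show D (MvPowerSeries.coeff m (f * g)) = MvPowerSeries.coeff m (f * φ g + g * φ f)
      rw [map_add, mul_comm g (φ f), MvPowerSeries.coeff_mul, MvPowerSeries.coeff_mul, MvPowerSeries.coeff_mul,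
        map_sum, ← Finset.sum_add_distrib]
      refine Finset.sum_congr rfl fun x _ => ?_
      rw [Derivation.leibniz, smul_eq_mul, smul_eq_mul]
      show _ = _ * D (MvPowerSeries.coeff x.2 g) + D (MvPowerSeries.coeff x.1 f) * _
      ring
    have := congrArg (MvPowerSeries.coeff m) (hf D')
    rw [map_zero] at this
    exact this
  have hdvd : ∀ (m : Fin n →₀ ℕ) (i : Fin n), ¬ p ∣ m i → MvPowerSeries.coeff m f = 0 := by
    intro m i hi
    let P := MvPowerSeries.pderiv k i
    let D' : DerZ (MvPowerSeries (Fin n) k) := Derivation.mk' P.toLinearMap.toAddMonoidHom.toIntLinearMap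
      fun a b => P.leibniz a b
    have hm : 1 ≤ m i := by
      by_contra h0
      exact hi ((show m i = 0 by omega) ▸ dvd_zero p)
    have h1 := congrArg (MvPowerSeries.coeff (m - Finsupp.single i 1)) (hf D')
    rw [map_zero] at h1
    change MvPowerSeries.coeff (m - Finsupp.single i 1) (MvPowerSeries.pderiv k i f) = 0 at h1
    rw [MvPowerSeries.coeff_pderiv, tsub_add_cancel_of_le (Finsupp.single_le_iff.mpr hm)] at h1
    refine (mul_eq_zero.mp h1).resolve_right fun h0 => hi ?_
    rw [← CharP.cast_eq_zero_iff k p, ← h0]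
    simp [Nat.cast_sub hm]
  choose a ha using hroot
  let g : MvPowerSeries (Fin n) k := fun m => a (p • m)
  refine ⟨1, one_ne_zero, g, ?_⟩
  rw [one_pow, one_mul, ← MvPowerSeries.map_frobenius_expand p hp.ne_zero]
  ext m
  rw [MvPowerSeries.coeff_map]
  by_cases hm : ∀ i, p ∣ m i
  · obtain ⟨m', rfl⟩ : ∃ m', m = p • m' :=
      ⟨m.mapRange (· / p) (by simp), by ext i; simp [Nat.mul_div_cancel' (hm i)]⟩
    rw [MvPowerSeries.coeff_expand_smul, frobenius_def]
    exact (ha _).symm
  · obtain ⟨i, hi⟩ := not_forall.mp hm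
    rw [MvPowerSeries.coeff_expand_of_not_dvd p hp.ne_zero g hi, map_zero, hdvd m i hi]

end Groth.Agent.CplFib6
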