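import Groth.Agent.Adic7.Basic
import Groth.Agent.FlatLoc6.Cpl
import Mathlib.RingTheory.TensorProduct.Quotient
import Mathlib.RingTheory.LocalRing.Quotient

/-!
# Passing a flat local homomorphism to the quotient by a prime of the base
-/

namespace Groth.Agent.CplFib6

universe u

open IsLocalRing TensorProduct

theorem isAdicComplete_quot {R : Type u} [CommRing R] [IsLocalRing R] [IsNoetherianRing R]
    [IsAdicComplete (maximalIdeal R) R] (P : Ideal R) [IsLocalRing (R ⧸ P)] :
    IsAdicComplete (maximalIdeal (R ⧸ P)) (R ⧸ P) := by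
  have h1 : IsAdicComplete (maximalIdeal R) (R ⧸ P) := Adic7.isAdicComplete_of_finite _ _
  rw [← map_maximalIdeal_of_surjective (algebraMap R (R ⧸ P)) Ideal.Quotient.mk_surjective]
  exact (IsAdicComplete.map_algebraMap_iff (S := R ⧸ P) (maximalIdeal R) (R ⧸ P)).mpr h1

variable {C D : Type u} [CommRing C] [CommRing D] [Algebra C D] (P : Ideal C)

/-- The quotient of the algebra as a base change. -/
noncomputable def quotEquiv : (D ⧸ P.map (algebraMap C D)) ≃ₐ[C ⧸ P] (C ⧸ P) ⊗[C] D :=
  AlgEquiv.ofRingEquiv (f := ((Algebra.TensorProduct.quotIdealMapEquivTensorQuot D P).toRingEquiv.trans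
    (Algebra.TensorProduct.comm C D (C ⧸ P)).toRingEquiv)) fun x => by
    obtain ⟨c, rfl⟩ := Ideal.Quotient.mk_surjective x
    show (Algebra.TensorProduct.comm C D (C ⧸ P))
      ((Algebra.TensorProduct.quotIdealMapEquivTensorQuot D P) (Ideal.Quotient.mk _ (algebraMap C D c))) = _
    rw [Algebra.TensorProduct.quotIdealMapEquivTensorQuot_mk, Algebra.TensorProduct.comm_tmul,
      Algebra.TensorProduct.algebraMap_apply, Algebra.algebraMap_eq_smul_one c, ← TensorProduct.smul_tmul]
    congr 1
    rw [Algebra.smul_def, mul_one]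
    rfl

/-- The generic fibre of the quotient is the fibre. -/
theorem nonempty_genericFibre_equiv [P.IsPrime] :
    Nonempty (P.ResidueField ⊗[C ⧸ P] (D ⧸ P.map (algebraMap C D)) ≃+* P.Fiber D) :=
  ⟨(Algebra.TensorProduct.congr (AlgEquiv.refl (R := C ⧸ P) (A₁ := P.ResidueField)) (quotEquiv P)).toRingEquiv.trans
    (Algebra.TensorProduct.cancelBaseChange C (C ⧸ P) P.ResidueField P.ResidueField D).toRingEquiv⟩

theorem flat_quot [Module.Flat C D] : Module.Flat (C ⧸ P) (D ⧸ P.map (algebraMap C D)) :=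
  Module.Flat.of_linearEquiv (quotEquiv P).toLinearEquiv

variable [IsLocalRing C] [IsLocalRing D] [IsLocalHom (algebraMap C D)]

theorem isLocalRing_quots (hP : P ≤ maximalIdeal C) :
    IsLocalRing (C ⧸ P) ∧ IsLocalRing (D ⧸ P.map (algebraMap C D)) := by
  haveI : Nontrivial (C ⧸ P) := Ideal.Quotient.nontrivial_iff.2 (ne_top_of_le_ne_top (maximalIdeal.isMaximal C).ne_top hP)
  haveI : Nontrivial (D ⧸ P.map (algebraMap C D)) := Ideal.Quotient.nontrivial_iff.2
    (ne_top_of_le_ne_top (maximalIdeal.isMaximal D).ne_top ((Ideal.map_mono hP).trans (map_maximalIdeal_le _)))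
  exact ⟨.of_surjective' _ Ideal.Quotient.mk_surjective, .of_surjective' _ Ideal.Quotient.mk_surjective⟩

theorem isLocalHom_quot [IsLocalRing (C ⧸ P)] [IsLocalRing (D ⧸ P.map (algebraMap C D))] :
    IsLocalHom (algebraMap (C ⧸ P) (D ⧸ P.map (algebraMap C D))) := by
  haveI : IsLocalHom (Ideal.Quotient.mk (P.map (algebraMap C D))) := .of_surjective _ Ideal.Quotient.mk_surjective
  refine ⟨fun x hx => ?_⟩
  obtain ⟨c, rfl⟩ := Ideal.Quotient.mk_surjective x
  have : IsUnit (algebraMap C D c) := isUnit_of_map_unit (Ideal.Quotient.mk (P.map (algebraMap C D))) _ hx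
  exact (isUnit_of_map_unit (algebraMap C D) c this).map _

end Groth.Agent.CplFib6

namespace Groth.Agent.CplFib6

universe v

open IsLocalRing TensorProduct

variable {C D : Type v} [CommRing C] [CommRing D] [Algebra C D] (P : Ideal C)
variable [IsLocalRing C] [IsLocalRing D] [IsLocalHom (algebraMap C D)]

theorem finite_residue_quot [IsLocalRing (C ⧸ P)] [IsLocalRing (D ⧸ P.map (algebraMap C D))]
    [IsLocalHom (algebraMap (C ⧸ P) (D ⧸ P.map (algebraMap C D)))]
    [Module.Finite (ResidueField C) (ResidueField D)] :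
    Module.Finite (ResidueField (C ⧸ P)) (ResidueField (D ⧸ P.map (algebraMap C D))) := by
  haveI : IsLocalHom (Ideal.Quotient.mk (P.map (algebraMap C D))) := .of_surjective _ Ideal.Quotient.mk_surjective
  haveI : IsLocalHom (Ideal.Quotient.mk P) := .of_surjective _ Ideal.Quotient.mk_surjective
  let f : ResidueField D →+* ResidueField (D ⧸ P.map (algebraMap C D)) :=
    ResidueField.map (Ideal.Quotient.mk (P.map (algebraMap C D)))
  have hf : Function.Surjective f := fun y => by
    obtain ⟨x, rfl⟩ := residue_surjective y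
    obtain ⟨d, rfl⟩ := Ideal.Quotient.mk_surjective x
    exact ⟨residue D d, rfl⟩
  have e : (algebraMap (ResidueField (C ⧸ P)) (ResidueField (D ⧸ P.map (algebraMap C D)))).comp
      (ResidueField.map (Ideal.Quotient.mk P)) = f.comp (algebraMap (ResidueField C) (ResidueField D)) := by
    refine RingHom.ext fun x => ?_
    obtain ⟨c, rfl⟩ := residue_surjective x
    rfl
  refine RingHom.finite_algebraMap.1 (RingHom.Finite.of_comp_finite (f := ResidueField.map (Ideal.Quotient.mk P)) ?_)
  rw [e]
  exact (RingHom.Finite.of_surjective f hf).comp (RingHom.finite_algebraMap.2 inferInstance)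

theorem fibRing_quot_equiv [IsLocalRing (C ⧸ P)] (hP : P ≤ maximalIdeal C) :
    Nonempty (EGA4.FibRing C D ≃+* EGA4.FibRing (C ⧸ P) (D ⧸ P.map (algebraMap C D))) := by
  have h : EGA4.mB (C ⧸ P) (D ⧸ P.map (algebraMap C D)) =
      (EGA4.mB C D).map (Ideal.Quotient.mk (P.map (algebraMap C D))) := by
    show Ideal.map _ (maximalIdeal (C ⧸ P)) = Ideal.map _ (Ideal.map _ _)
    rw [← map_maximalIdeal_of_surjective (Ideal.Quotient.mk P) Ideal.Quotient.mk_surjective, Ideal.map_map,
      Ideal.map_map]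
    rfl
  exact ⟨((DoubleQuot.quotQuotEquivQuotOfLE (Ideal.map_mono hP)).symm).trans (Ideal.quotEquivOfEq h.symm)⟩

end Groth.Agent.CplFib6
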