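import Groth.Agent.CplFib6.CplFinite
import Groth.Agent.CplFib6.PSDeriv
import Groth.Agent.CplFib6.Quot
import Groth.Agent.CompleteNagata.Complete
import Groth.Agent.FormalFib6.Quot

/-!
# Complete local rings are G-rings
-/

namespace Groth.Agent.CplFib6

universe u

open TensorProduct IsLocalRing

attribute [local instance 10000] Ring.toIntAlgebra

/-- A complete local domain is finite over a regular domain with enough derivations. -/
theorem exists_regular_enough_base (R : Type u) [CommRing R] [IsDomain R] [IsLocalRing R] [IsNoetherianRing R]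
    [IsAdicComplete (maximalIdeal R) R] :
    ∃ (C : Type u) (_ : CommRing C) (_ : IsDomain C) (_ : IsRegularRing C) (_ : Algebra C R),
      Module.Finite C R ∧ FaithfulSMul C R ∧
        (CharZero C ∨ ∃ p : ℕ, p.Prime ∧ CharP C p ∧ EnoughDer p C) := by
  obtain ⟨Λ, _, n, f, hΛ, hf, hfin, -⟩ := CohenLib.exists_finite_injective R
  haveI : IsDomain (MvPowerSeries (Fin n) Λ) := hf.isDomain
  obtain ⟨hN, hreg, -⟩ := CohenLib.isRegular_complete_mvPowerSeries hΛ n
  haveI := hN
  haveI := hreg
  letI : Algebra (MvPowerSeries (Fin n) Λ) R := f.toAlgebra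
  refine ⟨MvPowerSeries (Fin n) Λ, inferInstance, inferInstance, isRegularRing_of_local _, inferInstance, hfin,
    (faithfulSMul_iff_algebraMap_injective _ R).mpr hf, ?_⟩
  rcases hΛ with hF | hC
  · let := hF.toField
    obtain ⟨c, hc⟩ := CharP.exists Λ
    rcases CharP.char_is_prime_or_zero Λ c with hcp | rfl
    · haveI : Fact c.Prime := ⟨hcp⟩
      exact Or.inr ⟨c, hcp, charP_of_injective_ringHom MvPowerSeries.C_injective c, enoughDer_mvPowerSeries Λ c n⟩
    · haveI := CharP.charP_to_charZero Λ
      exact Or.inl (charZero_of_injective_ringHom MvPowerSeries.C_injective)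
  · obtain ⟨_, _, -, p, hp, hm⟩ := hC
    haveI : CharZero Λ := by
      obtain ⟨c, hc⟩ := CharP.exists Λ
      rcases CharP.char_is_prime_or_zero Λ c with hcp | rfl
      · exfalso
        refine IsDiscreteValuationRing.not_a_field Λ ?_
        rw [hm, Ideal.span_singleton_eq_bot]
        by_contra hp0
        rcases eq_or_ne c p with rfl | hne
        · exact hp0 (CharP.cast_eq_zero Λ c)
        have hco : IsCoprime (c : ℤ) (p : ℤ) :=
          Nat.isCoprime_iff_coprime.mpr ((Nat.coprime_primes hcp hp).mpr hne)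
        obtain ⟨a, b, hab⟩ := hco
        have h1 : (p : Λ) ∈ maximalIdeal Λ := hm ▸ Ideal.subset_span rfl
        refine (maximalIdeal.isMaximal Λ).ne_top ((Ideal.eq_top_iff_one _).mpr ?_)
        have h2 := congrArg (Int.cast : ℤ → Λ) hab
        push_cast at h2
        rw [CharP.cast_eq_zero, mul_zero, zero_add] at h2
        exact h2 ▸ Ideal.mul_mem_left _ _ h1
      · exact CharP.charP_to_charZero Λ
    exact Or.inl (charZero_of_injective_ringHom MvPowerSeries.C_injective)

/-- Over a complete local domain, formal fibres at primes have regular generic fibres. -/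
theorem regular_tensor_cpl_of_complete (R : Type u) [CommRing R] [IsDomain R] [IsLocalRing R] [IsNoetherianRing R]
    [IsAdicComplete (maximalIdeal R) R] (P : Ideal R) [P.IsPrime] (L : Type u) [Field L] [Algebra R L]
    [FaithfulSMul R L] [Algebra.IsAlgebraic R L] [Algebra.EssFiniteType R L] :
    IsRegularRing (L ⊗[R] EGA4.Cpl (Localization.AtPrime P)) := by
  obtain ⟨C, _, _, _, _, hfin, hfs, hC⟩ := exists_regular_enough_base R
  haveI := hfin
  haveI := hfs
  letI : Algebra C L := ((algebraMap R L).comp (algebraMap C R)).toAlgebra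
  haveI : IsScalarTower C R L := IsScalarTower.of_algebraMap_eq' rfl
  haveI : FaithfulSMul C L := (faithfulSMul_iff_algebraMap_injective C L).mpr
    ((FaithfulSMul.algebraMap_injective R L).comp (FaithfulSMul.algebraMap_injective C R))
  haveI : Algebra.IsIntegral C R := Algebra.IsIntegral.of_finite C R
  haveI : Algebra.IsAlgebraic C R := Algebra.IsIntegral.isAlgebraic
  haveI : Algebra.IsAlgebraic C L := Algebra.IsAlgebraic.trans C R L
  haveI : Algebra.EssFiniteType C L := Algebra.EssFiniteType.comp C R L
  exact regular_tensor_cpl_of_finite C hC R P L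

/-- Moving to the quotient of the base. -/
theorem regular_tensor_of_quot {A B : Type u} [CommRing A] [CommRing B] [IsNoetherianRing A] [IsNoetherianRing B]
    [IsLocalRing A] [IsLocalRing B] [Algebra A B] (hsurj : Function.Surjective (algebraMap A B))
    (R1 : Type u) [CommRing R1] (U : Submonoid R1) [Algebra R1 B] [IsLocalization U B]
    (L : Type u) [CommRing L] [Algebra A L] [Algebra B L] [IsScalarTower A B L] [Algebra R1 L]
    [IsScalarTower R1 B L] [IsRegularRing (L ⊗[R1] EGA4.Cpl B)] : IsRegularRing (L ⊗[A] EGA4.Cpl A) := by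
  obtain ⟨e⟩ := FormalFib6.exists_cplQuotEquiv A B hsurj
  haveI : IsRegularRing (L ⊗[B] EGA4.Cpl B) := IsRegularRing.of_ringEquiv (R := L ⊗[R1] EGA4.Cpl B)
    (IsLocalization.algebraTensorEquiv U B L (EGA4.Cpl B)).symm.toRingEquiv
  exact IsRegularRing.of_ringEquiv (R := L ⊗[B] EGA4.Cpl B)
    ((Algebra.TensorProduct.congr (AlgEquiv.refl (R := B) (A₁ := L)) e.symm).toRingEquiv.trans
      (Algebra.TensorProduct.cancelBaseChange A B L L (EGA4.Cpl A)).toRingEquiv)

/-- A Noetherian complete local ring is a G-ring. -/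
theorem isGRing_of_complete (R : Type u) [CommRing R] [IsLocalRing R] [IsNoetherianRing R]
    [IsAdicComplete (maximalIdeal R) R] : CAlg.IsGRing R := by
  refine ⟨inferInstance, fun p _ => ?_⟩
  let Am := Localization.AtPrime p
  let D := EGA4.Cpl Am
  show CAlg.IsRegularHom Am D
  haveI := FlatLoc6.faithfullyFlat_cpl Am
  haveI := FlatLoc6.isNoetherianRing_cpl Am
  refine ⟨inferInstance, fun Q _ => ⟨FlatLoc6.isNoetherianRing_fiber (B := D) Q, fun L _ _ hL => ?_⟩⟩
  haveI := hL
  letI : Algebra Am L := ((algebraMap Q.ResidueField L).comp (algebraMap Am Q.ResidueField)).toAlgebra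
  haveI : IsScalarTower Am Q.ResidueField L := IsScalarTower.of_algebraMap_eq' rfl
  suffices IsRegularRing (L ⊗[Am] D) from IsRegularRing.of_ringEquiv (R := L ⊗[Am] D)
    (Algebra.TensorProduct.cancelBaseChange Am Q.ResidueField L L D).symm.toRingEquiv
  letI : Algebra R L := ((algebraMap Am L).comp (algebraMap R Am)).toAlgebra
  haveI : IsScalarTower R Am L := IsScalarTower.of_algebraMap_eq' rfl
  haveI : Algebra.EssFiniteType R Q.ResidueField := Algebra.EssFiniteType.comp R Am _
  haveI : IsScalarTower R Q.ResidueField L := IsScalarTower.to₁₃₄ R Am Q.ResidueField L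
  haveI : Algebra.EssFiniteType R L := Algebra.EssFiniteType.comp R Q.ResidueField L
  let q := Q.comap (algebraMap R Am)
  haveI : q.IsPrime := Ideal.comap_isPrime _ _
  have hqp : q ≤ p := fun x hx => (IsLocalization.AtPrime.to_map_mem_maximal_iff Am p x).mp
    (le_maximalIdeal (Ideal.IsPrime.ne_top inferInstance) hx)
  have hker : RingHom.ker (algebraMap R L) = q := by
    ext x
    rw [RingHom.mem_ker, IsScalarTower.algebraMap_apply R Am L, IsScalarTower.algebraMap_apply Am Q.ResidueField L,
      map_eq_zero, Ideal.algebraMap_residueField_eq_zero]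
    rfl
  haveI : IsLocalRing (R ⧸ q) := IsLocalRing.of_surjective' (Ideal.Quotient.mk q) Ideal.Quotient.mk_surjective
  haveI := isAdicComplete_quot q
  letI : Algebra (R ⧸ q) L := (Ideal.Quotient.lift q (algebraMap R L) fun x hx => hker.ge hx).toAlgebra
  haveI : IsScalarTower R (R ⧸ q) L := IsScalarTower.of_algebraMap_eq fun _ => rfl
  haveI : FaithfulSMul (R ⧸ q) L := (faithfulSMul_iff_algebraMap_injective _ L).mpr
    ((injective_iff_map_eq_zero _).mpr fun z => by
      obtain ⟨x, rfl⟩ := Ideal.Quotient.mk_surjective z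
      intro hx
      exact Ideal.Quotient.eq_zero_iff_mem.mpr (hker.le hx))
  haveI : Algebra.EssFiniteType (R ⧸ q) L := Algebra.EssFiniteType.of_comp R _ L
  haveI : Algebra.IsAlgebraic (R ⧸ q) L := by
    letI : Algebra (R ⧸ q) Q.ResidueField := (Ideal.Quotient.lift q (algebraMap R Q.ResidueField) fun x hx => by
      rw [IsScalarTower.algebraMap_apply R Am Q.ResidueField, Ideal.algebraMap_residueField_eq_zero]
      exact hx).toAlgebra
    haveI : IsScalarTower (R ⧸ q) Q.ResidueField L := IsScalarTower.of_algebraMap_eq fun z => by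
      obtain ⟨x, rfl⟩ := Ideal.Quotient.mk_surjective z
      show algebraMap R L x = algebraMap Q.ResidueField L (algebraMap R Q.ResidueField x)
      rw [← IsScalarTower.algebraMap_apply]
    haveI : FaithfulSMul (R ⧸ q) Q.ResidueField := (faithfulSMul_iff_algebraMap_injective _ _).mpr <| by
      refine Function.Injective.of_comp (f := algebraMap Q.ResidueField L) ?_
      rw [← RingHom.coe_comp, ← IsScalarTower.algebraMap_eq]
      exact FaithfulSMul.algebraMap_injective _ _
    haveI : IsFractionRing (R ⧸ q) Q.ResidueField := by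
      refine IsFractionRing.of_field (R ⧸ q) Q.ResidueField fun z => ?_
      obtain ⟨a, b, -, rfl⟩ := IsFractionRing.div_surjective (Am ⧸ Q) z
      obtain ⟨a, rfl⟩ := Ideal.Quotient.mk_surjective a
      obtain ⟨b, rfl⟩ := Ideal.Quotient.mk_surjective b
      obtain ⟨a₁, a₂, rfl⟩ := IsLocalization.exists_mk'_eq p.primeCompl a
      obtain ⟨b₁, b₂, rfl⟩ := IsLocalization.exists_mk'_eq p.primeCompl b
      refine ⟨Ideal.Quotient.mk q (a₁ * b₂), Ideal.Quotient.mk q (a₂ * b₁), ?_⟩
      symm
      show algebraMap R Q.ResidueField (a₁ * b₂) / algebraMap R Q.ResidueField (a₂ * b₁) = _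
      rw [← Ideal.Quotient.algebraMap_eq, ← IsScalarTower.algebraMap_apply, ← IsScalarTower.algebraMap_apply]
      have ha : algebraMap Am Q.ResidueField (IsLocalization.mk' Am a₁ a₂) * algebraMap R Q.ResidueField a₂ =
          algebraMap R Q.ResidueField a₁ := by
        rw [IsScalarTower.algebraMap_apply R Am Q.ResidueField, ← map_mul, IsLocalization.mk'_spec,
          ← IsScalarTower.algebraMap_apply]
      have hb : algebraMap Am Q.ResidueField (IsLocalization.mk' Am b₁ b₂) * algebraMap R Q.ResidueField b₂ =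
          algebraMap R Q.ResidueField b₁ := by
        rw [IsScalarTower.algebraMap_apply R Am Q.ResidueField, ← map_mul, IsLocalization.mk'_spec,
          ← IsScalarTower.algebraMap_apply]
      have hu : ∀ s : p.primeCompl, algebraMap R Q.ResidueField s ≠ 0 := fun s => by
        rw [IsScalarTower.algebraMap_apply R Am Q.ResidueField, Ne, Ideal.algebraMap_residueField_eq_zero]
        exact fun h => s.2 (hqp h)
      rw [map_mul, map_mul, ← ha, ← hb]
      field_simp [hu a₂, hu b₂]
    exact (IsFractionRing.comap_isAlgebraic_iff (A := R ⧸ q) (K := Q.ResidueField) (C := L)).mpr inferInstance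
  let p1 := p.map (Ideal.Quotient.mk q)
  haveI : p1.IsPrime := Ideal.map_isPrime_of_surjective Ideal.Quotient.mk_surjective (by rw [Ideal.mk_ker]; exact hqp)
  haveI := regular_tensor_cpl_of_complete (R ⧸ q) p1 L
  let B := Localization.AtPrime p1
  haveI : p1.LiesOver p := ⟨by
    rw [Ideal.under_def, Ideal.Quotient.algebraMap_eq, Ideal.comap_map_of_surjective' _ Ideal.Quotient.mk_surjective,
      Ideal.mk_ker, sup_of_le_left hqp]⟩
  letI := Localization.AtPrime.algebraOfLiesOver p p1
  have hsurj : Function.Surjective (algebraMap Am B) := fun z => by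
    obtain ⟨x, s, rfl⟩ := IsLocalization.exists_mk'_eq p1.primeCompl z
    obtain ⟨x, rfl⟩ := Ideal.Quotient.mk_surjective x
    obtain ⟨t, ht⟩ := Ideal.Quotient.mk_surjective (s : R ⧸ q)
    have htp : t ∈ p.primeCompl := fun h => s.2 (ht ▸ Ideal.mem_map_of_mem _ h)
    refine ⟨IsLocalization.mk' Am x ⟨t, htp⟩, ?_⟩
    rw [IsLocalization.eq_mk'_iff_mul_eq, ← ht, ← Ideal.Quotient.algebraMap_eq,
      ← IsScalarTower.algebraMap_apply, ← IsScalarTower.algebraMap_apply,
      IsScalarTower.algebraMap_apply R Am B, ← map_mul, IsLocalization.mk'_spec,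
      ← IsScalarTower.algebraMap_apply]
  have hu : ∀ s : p1.primeCompl, IsUnit (algebraMap (R ⧸ q) L s) := fun s => isUnit_iff_ne_zero.mpr
    ((map_ne_zero_iff _ (FaithfulSMul.algebraMap_injective (R ⧸ q) L)).mpr fun h0 => s.2 (h0 ▸ p1.zero_mem))
  letI : Algebra B L := (IsLocalization.lift hu).toAlgebra
  haveI : IsScalarTower (R ⧸ q) B L := IsScalarTower.of_algebraMap_eq fun x => (IsLocalization.lift_eq hu x).symm
  haveI : IsScalarTower Am B L := IsScalarTower.of_algebraMap_eq' <| by
    refine IsLocalization.ringHom_ext p.primeCompl (RingHom.ext fun x => ?_)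
    show algebraMap Am L (algebraMap R Am x) = algebraMap B L (algebraMap Am B (algebraMap R Am x))
    rw [← IsScalarTower.algebraMap_apply R Am B, IsScalarTower.algebraMap_apply R (R ⧸ q) B,
      ← IsScalarTower.algebraMap_apply (R ⧸ q) B L, ← IsScalarTower.algebraMap_apply R (R ⧸ q) L,
      ← IsScalarTower.algebraMap_apply R Am L]
  exact regular_tensor_of_quot hsurj (R ⧸ q) p1.primeCompl L

end Groth.Agent.CplFib6
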