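import Groth.Agent.CplFib6.GRingStable
import Groth.Agent.PopescuLib.GRingCompletion
import Mathlib.RingTheory.MvPowerSeries.Equiv
import Mathlib.RingTheory.Smooth.Fiber

/-!
# Power series over G-rings
-/

namespace Groth.Agent.CplFib6

universe u

open TensorProduct

/-- Smooth maps of Noetherian rings are regular. -/
theorem isRegularHom_of_smooth (A B : Type u) [CommRing A] [CommRing B] [Algebra A B] [Algebra.Smooth A B]
    [Module.Flat A B] : CAlg.IsRegularHom A B := by
  refine ⟨inferInstance, fun p _ => ⟨?_, fun L _ _ _ => ?_⟩⟩
  · haveI : Algebra.Smooth p.ResidueField (p.Fiber B) := inferInstance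
    exact Algebra.FiniteType.isNoetherianRing p.ResidueField _
  · haveI : Algebra.Smooth p.ResidueField (p.Fiber B) := inferInstance
    haveI : IsRegularRing L := isRegularRing_of_local L
    exact GeomReg.isRegularRing_of_smooth L _

/-- Power series over a G-ring form a regular algebra. -/
theorem isRegularHom_mvPowerSeries {A : Type u} [CommRing A] (hA : CAlg.IsGRing A) (r : ℕ) :
    CAlg.IsRegularHom A (MvPowerSeries (Fin r) A) := by
  haveI := hA.1
  let B := MvPolynomial (Fin r) A
  have hB : CAlg.IsGRing B := isGRing_of_finiteType hA B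
  haveI : Algebra.FinitePresentation A B := inferInstance
  haveI : Algebra.Smooth A B := {}
  haveI := isRegularHom_of_smooth A B
  let I := MvPolynomial.idealOfVars (Fin r) A
  haveI := FormalFib6.isNoetherianRing_adicCompletion B I
  have h2 := PopescuLib.isRegularHom_adicCompletion B (fun m _ => hB.2 m) I
  exact FormalFib6.isRegularHom_of_algEquiv ((MvPowerSeries.toAdicCompletionAlgEquiv (Fin r) A).symm.restrictScalars A)
    (FlatLoc6.isRegularHom_comp A B (AdicCompletion I B) (isRegularHom_of_smooth A B) h2)

end Groth.Agent.CplFib6
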