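import Groth.Agent.CplFib6.QuotReg
import Groth.Agent.CplFib6.Setup
import Groth.Agent.FlatLoc6.FiberComp
import Groth.Agent.FlatLoc6.FiberSelf
import Groth.Agent.FlatLoc6.BaseChangeEss

/-!
# Cohen–Macaulay formal fibres of algebras essentially of finite type
-/

namespace Groth.Agent.CplFib6

universe u

open IsLocalRing TensorProduct FlatLoc6

/-- Cohen–Macaulay formal fibres descend along flat local maps with Cohen–Macaulay fibres. -/
theorem hasCMFormalFibres_descend (A A' : Type u) [CommRing A] [CommRing A'] [IsNoetherianRing A]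
    [IsNoetherianRing A'] [IsLocalRing A] [IsLocalRing A'] [Algebra A A'] [IsLocalHom (algebraMap A A')]
    [Module.Flat A A'] (hf : ∀ (p : Ideal A) [p.IsPrime], LocCoh.IsCohenMacaulayRing (p.Fiber A'))
    (hA' : EGA4.HasCMFormalFibres A') : EGA4.HasCMFormalFibres A := by
  intro p _
  obtain ⟨_, _, _⟩ := exists_cplHom A A'
  haveI := isNoetherianRing_cpl A
  haveI := isNoetherianRing_cpl A'
  haveI := faithfullyFlat_cpl A'
  refine fiber_isCM_of_fib_eq p fun q _ hq => ?_
  obtain ⟨q', _, hq', h0, h0'⟩ := exists_fib_zero (C := EGA4.Cpl A') q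
  obtain ⟨h1, h2⟩ := fib_comp (A := A) (B := EGA4.Cpl A) q'
  obtain ⟨g1, g2⟩ := fib_comp (A := A) (B := A') q'
  subst hq'
  rw [h0, add_zero] at h1
  rw [h0', add_zero] at h2
  rw [← h1, ← h2, g1, g2]
  have hp : (q'.comap (algebraMap A' (EGA4.Cpl A'))).comap (algebraMap A A') = p := by
    rw [Ideal.comap_comap, ← IsScalarTower.algebraMap_eq, IsScalarTower.algebraMap_eq A (EGA4.Cpl A) (EGA4.Cpl A'),
      ← Ideal.comap_comap, hq]
  haveI := hf p
  haveI : LocCoh.IsCohenMacaulayRing ((q'.comap (algebraMap A' (EGA4.Cpl A'))).Fiber (EGA4.Cpl A')) := hA' _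
  rw [fib_eq_of_fiber_isCM p _ hp, fib_eq_of_fiber_isCM (q'.comap (algebraMap A' (EGA4.Cpl A'))) q' rfl]
  norm_cast

/-- Cohen–Macaulay fibres are stable under base change essentially of finite type. -/
theorem isCM_fiber_baseChange (A B A' : Type u) [CommRing A] [CommRing B] [CommRing A'] [Algebra A B]
    [Algebra A A'] [IsNoetherianRing A'] [Algebra.EssFiniteType A A']
    (h : ∀ (p : Ideal A) [p.IsPrime], LocCoh.IsCohenMacaulayRing (p.Fiber B)) (p' : Ideal A') [p'.IsPrime] :
    LocCoh.IsCohenMacaulayRing (p'.Fiber (A' ⊗[A] B)) := by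
  obtain ⟨_, _, _, _⟩ := exists_instances A A' p' p'.ResidueField
  obtain ⟨e⟩ := fiber_baseChange_equiv A B A' p' p'.ResidueField (p'.comap (algebraMap A A'))
  haveI := essFiniteType_ext A A' p' p'.ResidueField (p'.comap (algebraMap A A'))
  haveI := h (p'.comap (algebraMap A A'))
  exact isCM_of_ringEquiv (e.symm.trans (Algebra.TensorProduct.lid p'.ResidueField (p'.Fiber (A' ⊗[A] B))).toRingEquiv)
    (isCM_tensor_of_essFin _ _ _)

/-- The fibres of a localization are Cohen–Macaulay. -/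
theorem isCM_fiber_localization (R S : Type u) [CommRing R] [CommRing S] [Algebra R S] [IsNoetherianRing R]
    (M : Submonoid R) [IsLocalization M S] (p : Ideal R) [p.IsPrime] :
    LocCoh.IsCohenMacaulayRing (p.Fiber S) := by
  haveI : IsNoetherianRing S := IsLocalization.isNoetherianRing M S inferInstance
  haveI : Module.Flat R S := IsLocalization.flat S M
  refine fiber_isCM_of_fib_eq p fun q _ hq => ?_
  obtain ⟨P, _, -, hP, h1, h2⟩ := exists_fib_zero_le (A := R) q p hq.ge
  obtain rfl : P = q := by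
    rw [← IsLocalization.map_comap M S P, ← IsLocalization.map_comap M S q]
    exact congrArg (Ideal.map (algebraMap R S)) (hP.trans hq.symm)
  rw [h1, h2]
  rfl

theorem hasCMFormalFibres_of_essFiniteType (A : Type u) [CommRing A] [IsNoetherianRing A] [IsLocalRing A]
    (hA : EGA4.HasCMFormalFibres A) (B : Type u) [CommRing B] [IsNoetherianRing B] [IsLocalRing B] [Algebra A B]
    [Algebra.EssFiniteType A B] : EGA4.HasCMFormalFibres B := by
  haveI := isNoetherianRing_cpl A
  haveI := isLocalRing_cpl A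
  haveI := faithfullyFlat_cpl A
  haveI := isAdicComplete_cpl A
  letI : Algebra (EGA4.Cpl A) (B ⊗[A] EGA4.Cpl A) := Algebra.TensorProduct.rightAlgebra
  haveI := isNoetherianRing_baseChange_ess A (EGA4.Cpl A) B
  haveI : Module.FaithfullyFlat B (B ⊗[A] EGA4.Cpl A) := inferInstance
  obtain ⟨Q, hQ⟩ := PrimeSpectrum.comap_surjective_of_faithfullyFlat (A := B) (B := B ⊗[A] EGA4.Cpl A)
    ⟨maximalIdeal B, inferInstance⟩
  have hQ' : Q.asIdeal.comap (algebraMap B (B ⊗[A] EGA4.Cpl A)) = maximalIdeal B :=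
    congrArg PrimeSpectrum.asIdeal hQ
  haveI : IsLocalHom (algebraMap B (Localization.AtPrime Q.asIdeal)) := ⟨fun b hb => by
    by_contra hb'
    rw [IsScalarTower.algebraMap_apply B (B ⊗[A] EGA4.Cpl A) (Localization.AtPrime Q.asIdeal),
      IsLocalization.AtPrime.isUnit_to_map_iff _ Q.asIdeal] at hb
    exact hb (show b ∈ Q.asIdeal.comap _ from hQ'.ge hb')⟩
  haveI : Module.Flat (B ⊗[A] EGA4.Cpl A) (Localization.AtPrime Q.asIdeal) :=
    IsLocalization.flat _ Q.asIdeal.primeCompl
  haveI : Module.Flat B (Localization.AtPrime Q.asIdeal) :=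
    Module.Flat.trans B (B ⊗[A] EGA4.Cpl A) _
  haveI : IsNoetherianRing (Localization.AtPrime Q.asIdeal) :=
    IsLocalization.isNoetherianRing Q.asIdeal.primeCompl _ inferInstance
  refine hasCMFormalFibres_descend B (Localization.AtPrime Q.asIdeal) (fun p _ => ?_) ?_
  · refine fiber_isCM_of_fib_eq p fun r _ hr => ?_
    have hp : (r.comap (algebraMap (B ⊗[A] EGA4.Cpl A) (Localization.AtPrime Q.asIdeal))).comap
        (algebraMap B (B ⊗[A] EGA4.Cpl A)) = p := by
      rw [Ideal.comap_comap, ← IsScalarTower.algebraMap_eq, hr]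
    haveI := isCM_fiber_baseChange A (EGA4.Cpl A) B hA p
    haveI := isCM_fiber_localization _ (Localization.AtPrime Q.asIdeal) Q.asIdeal.primeCompl
      (r.comap (algebraMap (B ⊗[A] EGA4.Cpl A) (Localization.AtPrime Q.asIdeal)))
    obtain ⟨h1, h2⟩ := fib_comp (A := B) (B := B ⊗[A] EGA4.Cpl A) r
    rw [h1, h2, fib_eq_of_fiber_isCM p _ hp, fib_eq_of_fiber_isCM _ r rfl]
    norm_cast
  · haveI : Algebra.EssFiniteType (EGA4.Cpl A) (EGA4.Cpl A ⊗[A] B) := inferInstance
    let ε : (EGA4.Cpl A ⊗[A] B) →ₐ[EGA4.Cpl A] (B ⊗[A] EGA4.Cpl A) :=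
      AlgHom.mk' (Algebra.TensorProduct.comm A (EGA4.Cpl A) B).toRingEquiv.toRingHom fun c x => by
        rw [Algebra.smul_def, map_mul]
        simp [Algebra.smul_def, Algebra.TensorProduct.algebraMap_apply, RingHom.algebraMap_toAlgebra]
    haveI : Algebra.EssFiniteType (EGA4.Cpl A) (B ⊗[A] EGA4.Cpl A) :=
      Algebra.EssFiniteType.of_surjective ε (Algebra.TensorProduct.comm A (EGA4.Cpl A) B).surjective
    haveI : Algebra.EssFiniteType (B ⊗[A] EGA4.Cpl A) (Localization.AtPrime Q.asIdeal) :=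
      Algebra.EssFiniteType.of_isLocalization _ Q.asIdeal.primeCompl
    haveI := Algebra.EssFiniteType.comp (EGA4.Cpl A) (B ⊗[A] EGA4.Cpl A) (Localization.AtPrime Q.asIdeal)
    obtain ⟨S, _, _, f, hf⟩ := exists_regular_cover_essFin (EGA4.Cpl A) (Localization.AtPrime Q.asIdeal)
    letI := f.toAlgebra
    exact hasCMFormalFibres_of_surjective S _ hf

end Groth.Agent.CplFib6
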