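import Groth.Agent.CplFib6.Nagata
import Groth.Agent.CplFib6.CMFormal
import Groth.Agent.S0566
import Groth.Agent.S0568
import Groth.Agent.NagataLib.Localization
import Groth.Agent.FormalFib6.Transfer

/-!
# Geometrically reduced formal fibres of algebras essentially of finite type
-/

namespace Groth.Agent.CplFib6

universe u

open IsLocalRing TensorProduct FlatLoc6

/-- Localizations of algebras of finite type over Nagata rings are Nagata. -/
theorem isNagata_of_essFiniteType (R S : Type u) [CommRing R] [CommRing S] [Algebra R S]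
    [Algebra.EssFiniteType R S] (hR : CAlg.IsNagata R) : CAlg.IsNagata S :=
  NagataLib.isNagata_of_isLocalization (S0566.result R hR (Algebra.EssFiniteType.subalgebra R S))
    (Algebra.EssFiniteType.submonoid R S) S

/-- Geometrically reduced formal fibres descend along flat local maps with geometrically reduced fibres. -/
theorem hasGeomReducedFormalFibres_descend (A A' : Type u) [CommRing A] [CommRing A'] [IsNoetherianRing A]
    [IsNoetherianRing A'] [IsLocalRing A] [IsLocalRing A'] [Algebra A A'] [IsLocalHom (algebraMap A A')]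
    [Module.Flat A A']
    (hf : ∀ (L : Type u) [Field L] [Algebra A L], IsReduced (A' ⊗[A] L))
    (hA' : EGA4.HasGeomReducedFormalFibres A') : EGA4.HasGeomReducedFormalFibres A := by
  intro p _
  refine geomReduced_of_finite fun L _ _ hL => ?_
  letI : Algebra A L := ((algebraMap p.ResidueField L).comp (algebraMap A p.ResidueField)).toAlgebra
  haveI : IsScalarTower A p.ResidueField L := IsScalarTower.of_algebraMap_eq fun _ => rfl
  obtain ⟨_, _, _⟩ := exists_cplHom A A'
  haveI := faithfullyFlat_cpl A'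
  haveI := hf L
  have h1 : IsReduced (EGA4.Cpl A' ⊗[A'] (A' ⊗[A] L)) := isReduced_baseChange (EGA4.Cpl A') hA' (A' ⊗[A] L)
  haveI h2 : IsReduced (EGA4.Cpl A' ⊗[A] L) :=
    isReduced_of_injective
      (Algebra.TensorProduct.cancelBaseChange A A' A' (EGA4.Cpl A') L).symm
      (Algebra.TensorProduct.cancelBaseChange A A' A' (EGA4.Cpl A') L).symm.injective
  haveI h3 : IsReduced (EGA4.Cpl A ⊗[A] L) := by
    let e := Algebra.TensorProduct.cancelBaseChange A (EGA4.Cpl A) (EGA4.Cpl A) (EGA4.Cpl A') L
    haveI : IsReduced (EGA4.Cpl A' ⊗[EGA4.Cpl A] (EGA4.Cpl A ⊗[A] L)) := isReduced_of_injective e e.injective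
    exact isReduced_of_injective
      (Algebra.TensorProduct.includeRight : EGA4.Cpl A ⊗[A] L →ₐ[EGA4.Cpl A] EGA4.Cpl A' ⊗[EGA4.Cpl A] (EGA4.Cpl A ⊗[A] L))
      (Module.FaithfullyFlat.tensorProduct_mk_injective _)
  haveI h4 : IsReduced (L ⊗[A] EGA4.Cpl A) :=
    isReduced_of_injective (Algebra.TensorProduct.comm A L (EGA4.Cpl A))
      (Algebra.TensorProduct.comm A L (EGA4.Cpl A)).injective
  exact isReduced_of_injective (Algebra.TensorProduct.cancelBaseChange A p.ResidueField L L (EGA4.Cpl A))
    (Algebra.TensorProduct.cancelBaseChange A p.ResidueField L L (EGA4.Cpl A)).injective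

/-- Localizations preserve reducedness after base change to a field. -/
theorem isReduced_tensor_localization (B C D : Type u) [CommRing B] [CommRing C] [CommRing D] [Algebra B C]
    [Algebra B D] [Algebra C D] [IsScalarTower B C D] (M : Submonoid C) [IsLocalization M D] (L : Type u)
    [CommRing L] [Algebra B L] [hR : IsReduced (L ⊗[B] C)] : IsReduced (D ⊗[B] L) := by
  haveI h2 : IsReduced (C ⊗[B] L) :=
    isReduced_of_injective (Algebra.TensorProduct.comm B C L) (Algebra.TensorProduct.comm B C L).injective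
  haveI : IsLocalization (Algebra.algebraMapSubmonoid (C ⊗[B] L) M) ((C ⊗[B] L) ⊗[C] D) :=
    IsLocalization.tensor (A := D) (S := C ⊗[B] L) M
  haveI h3 : IsReduced ((C ⊗[B] L) ⊗[C] D) :=
    isReduced_localizationPreserves (Algebra.algebraMapSubmonoid (C ⊗[B] L) M) _ h2
  let e := (Algebra.TensorProduct.cancelBaseChange B C C D L).symm.toRingEquiv.trans
    (Algebra.TensorProduct.comm C D (C ⊗[B] L)).toRingEquiv
  exact isReduced_of_injective e e.injective

theorem hasGeomReducedFormalFibres_of_essFiniteType (A : Type u) [CommRing A] [IsNoetherianRing A]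
    [IsLocalRing A] (hA : EGA4.HasGeomReducedFormalFibres A) (B : Type u) [CommRing B] [IsNoetherianRing B]
    [IsLocalRing B] [Algebra A B] [Algebra.EssFiniteType A B] : EGA4.HasGeomReducedFormalFibres B := by
  haveI := isNoetherianRing_cpl A
  haveI := isLocalRing_cpl A
  haveI := faithfullyFlat_cpl A
  haveI := isAdicComplete_cpl A
  letI : Algebra (EGA4.Cpl A) (B ⊗[A] EGA4.Cpl A) := Algebra.TensorProduct.rightAlgebra
  haveI := isNoetherianRing_baseChange_ess A (EGA4.Cpl A) B
  haveI : Module.FaithfullyFlat B (B ⊗[A] EGA4.Cpl A) := inferInstance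
  obtain ⟨Q, hQ⟩ := PrimeSpectrum.comap_surjective_of_faithfullyFlat (A := B) (B := B ⊗[A] EGA4.Cpl A)
    ⟨maximalIdeal B, inferInstance⟩
  have hQ' : Q.asIdeal.comap (algebraMap B (B ⊗[A] EGA4.Cpl A)) = maximalIdeal B :=
    congrArg PrimeSpectrum.asIdeal hQ
  haveI : IsLocalHom (algebraMap B (Localization.AtPrime Q.asIdeal)) := ⟨fun b hb => by
    by_contra hb'
    rw [IsScalarTower.algebraMap_apply B (B ⊗[A] EGA4.Cpl A) (Localization.AtPrime Q.asIdeal),
      IsLocalization.AtPrime.isUnit_to_map_iff _ Q.asIdeal] at hb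
    exact hb (show b ∈ Q.asIdeal.comap _ from hQ'.ge hb')⟩
  haveI : Module.Flat (B ⊗[A] EGA4.Cpl A) (Localization.AtPrime Q.asIdeal) :=
    IsLocalization.flat _ Q.asIdeal.primeCompl
  haveI : Module.Flat B (Localization.AtPrime Q.asIdeal) :=
    Module.Flat.trans B (B ⊗[A] EGA4.Cpl A) _
  haveI : IsNoetherianRing (Localization.AtPrime Q.asIdeal) :=
    IsLocalization.isNoetherianRing Q.asIdeal.primeCompl _ inferInstance
  refine hasGeomReducedFormalFibres_descend B (Localization.AtPrime Q.asIdeal) (fun L _ _ => ?_) ?_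
  · haveI h1 := isReduced_baseChange_field (B ⊗[A] EGA4.Cpl A)
      (fun p' _ => FormalFib6.geomReduced_baseChange A (EGA4.Cpl A) B hA p') L
    exact isReduced_tensor_localization B (B ⊗[A] EGA4.Cpl A) (Localization.AtPrime Q.asIdeal)
      Q.asIdeal.primeCompl L
  · haveI : Algebra.EssFiniteType (EGA4.Cpl A) (EGA4.Cpl A ⊗[A] B) := inferInstance
    let ε : (EGA4.Cpl A ⊗[A] B) →ₐ[EGA4.Cpl A] (B ⊗[A] EGA4.Cpl A) :=
      AlgHom.mk' (Algebra.TensorProduct.comm A (EGA4.Cpl A) B).toRingEquiv.toRingHom fun c x => by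
        rw [Algebra.smul_def, map_mul]
        simp [Algebra.smul_def, Algebra.TensorProduct.algebraMap_apply, RingHom.algebraMap_toAlgebra]
    haveI : Algebra.EssFiniteType (EGA4.Cpl A) (B ⊗[A] EGA4.Cpl A) :=
      Algebra.EssFiniteType.of_surjective ε (Algebra.TensorProduct.comm A (EGA4.Cpl A) B).surjective
    haveI : Algebra.EssFiniteType (B ⊗[A] EGA4.Cpl A) (Localization.AtPrime Q.asIdeal) :=
      Algebra.EssFiniteType.of_isLocalization _ Q.asIdeal.primeCompl
    haveI := Algebra.EssFiniteType.comp (EGA4.Cpl A) (B ⊗[A] EGA4.Cpl A) (Localization.AtPrime Q.asIdeal)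
    have hN := isNagata_of_essFiniteType (EGA4.Cpl A) (Localization.AtPrime Q.asIdeal) (S0568.result (EGA4.Cpl A))
    exact hasGeomReducedFormalFibres_of_isN2 _ fun p _ => hN.2 p

end Groth.Agent.CplFib6
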