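import Groth.Agent.CplFib6.Sop
import Groth.Agent.CplFib6.Finite
import Groth.Agent.FlatLoc6.TensorField
import Groth.Agent.FlatLoc6.Miracle
import Groth.Agent.RegLoc6.Serre

/-!
# Cohen–Macaulay generic fibre over a complete local domain
-/

namespace Groth.Agent.CplFib6

universe u

open IsLocalRing TensorProduct RingTheory.Sequence

variable {T₀ E T D : Type u} [CommRing T₀] [CommRing E] [CommRing T] [CommRing D]
  [Algebra T₀ E] [Algebra T₀ T] [Algebra T₀ D] [Algebra E D] [Algebra T D]
  [IsScalarTower T₀ E D] [IsScalarTower T₀ T D]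

theorem ofList_ofFn_span {R : Type u} [CommSemiring R] {n : ℕ} (f : Fin n → R) :
    Ideal.ofList (List.ofFn f) = Ideal.span (Set.range f) := by
  simp [Ideal.ofList, List.mem_ofFn, Set.range]

/-- The algebra map from the base change to a common algebra. -/
noncomputable def baseHom : E ⊗[T₀] T →ₐ[E] D :=
  Algebra.TensorProduct.lift (Algebra.ofId E D) (IsScalarTower.toAlgHom T₀ T D) fun _ _ => Commute.all _ _

theorem baseHom_tmul (x : E) (y : T) : baseHom (D := D) (x ⊗ₜ[T₀] y) = algebraMap E D x * algebraMap T D y :=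
  Algebra.TensorProduct.lift_tmul _ _ _ _ _

/-- An algebra finite and flat over the base change of a flat algebra with regular generic fibre has
Cohen–Macaulay generic fibre. -/
theorem isCM_of_finite_flat_baseChange [IsDomain T₀] [IsDomain E] [Module.Finite T₀ E] [FaithfulSMul T₀ E]
    [Module.Finite T D] [IsRegularRing T]
    (hflat : letI : Algebra (E ⊗[T₀] T) D := (baseHom (T := T) (D := D)).toRingHom.toAlgebra
      Module.Flat (E ⊗[T₀] T) D) (K : Type u) [Field K] [Algebra E K] [IsFractionRing E K] :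
    LocCoh.IsCohenMacaulayRing (K ⊗[E] D) := by
  letI : Algebra (E ⊗[T₀] T) D := (baseHom (T := T) (D := D)).toRingHom.toAlgebra
  haveI : IsScalarTower E (E ⊗[T₀] T) D := IsScalarTower.of_algebraMap_eq' (baseHom (T := T) (D := D)).comp_algebraMap.symm
  haveI : Module.Flat (E ⊗[T₀] T) D := hflat
  haveI : Module.Finite (E ⊗[T₀] T) D := by
    refine RingHom.finite_algebraMap.1 (RingHom.Finite.of_comp_finite (f := Algebra.TensorProduct.includeRight.toRingHom) ?_)
    have e : (algebraMap (E ⊗[T₀] T) D).comp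
        (Algebra.TensorProduct.includeRight : T →ₐ[T₀] E ⊗[T₀] T).toRingHom = algebraMap T D :=
      RingHom.ext fun y => by
        show baseHom (D := D) ((1 : E) ⊗ₜ[T₀] y) = _
        rw [baseHom_tmul, map_one, one_mul]
    rw [e]
    exact RingHom.finite_algebraMap.2 inferInstance
  -- the fraction fields
  let K₀ := FractionRing T₀
  letI : Algebra T₀ K := ((algebraMap E K).comp (algebraMap T₀ E)).toAlgebra
  haveI : IsScalarTower T₀ E K := IsScalarTower.of_algebraMap_eq' rfl
  haveI : FaithfulSMul T₀ K := (faithfulSMul_iff_algebraMap_injective T₀ K).mpr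
    ((IsFractionRing.injective E K).comp (FaithfulSMul.algebraMap_injective T₀ E))
  letI : Algebra K₀ K := FractionRing.liftAlgebra T₀ K
  haveI : IsScalarTower T₀ K₀ K := FractionRing.isScalarTower_liftAlgebra T₀ K
  haveI : Algebra.EssFiniteType E K := Algebra.EssFiniteType.of_isLocalization K (nonZeroDivisors E)
  haveI : Algebra.EssFiniteType T₀ K := Algebra.EssFiniteType.comp T₀ E K
  haveI : Algebra.EssFiniteType K₀ K := Algebra.EssFiniteType.of_comp T₀ K₀ K
  haveI : Algebra.IsAlgebraic K₀ K :=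
    (IsFractionRing.comap_isAlgebraic_iff (A := T₀) (K := K₀) (C := K)).mp
      ⟨fun z => by
        obtain ⟨a, b, -, rfl⟩ := IsFractionRing.div_surjective (A := E) z
        have h1 : ∀ c : E, IsAlgebraic T₀ (algebraMap E K c) := fun c =>
          ((Algebra.IsIntegral.isIntegral c).map (IsScalarTower.toAlgHom T₀ E K)).isAlgebraic
        rw [div_eq_mul_inv]
        exact (h1 a).mul (h1 b).inv⟩
  haveI : Module.Finite K₀ K := Algebra.finite_of_essFiniteType_of_isAlgebraic (F := K₀) (E := K)
  -- the regular generic fibre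
  haveI : IsRegularRing (T ⊗[T₀] K₀) :=
    GeomReg.isRegularRing_of_isLocalization (Algebra.algebraMapSubmonoid T (nonZeroDivisors T₀)) _
  haveI : IsRegularRing (K₀ ⊗[T₀] T) :=
    IsRegularRing.of_ringEquiv (R := T ⊗[T₀] K₀) (Algebra.TensorProduct.comm T₀ T K₀).toRingEquiv
  haveI := FlatLoc6.isCM_of_isRegularRing (K₀ ⊗[T₀] T)
  haveI := FlatLoc6.isCM_of_finite_flat (K₀ ⊗[T₀] T) ((K₀ ⊗[T₀] T) ⊗[K₀] K)
  let C := (E ⊗[T₀] T) ⊗[E] K
  haveI : LocCoh.IsCohenMacaulayRing C :=
    FlatLoc6.isCM_of_ringEquiv (R := (K₀ ⊗[T₀] T) ⊗[K₀] K)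
      (((Algebra.TensorProduct.comm K₀ (K₀ ⊗[T₀] T) K).toRingEquiv.trans
        (Algebra.TensorProduct.cancelBaseChange T₀ K₀ K K T).toRingEquiv).trans
        ((Algebra.TensorProduct.cancelBaseChange T₀ E K K T).symm.toRingEquiv.trans
          (Algebra.TensorProduct.comm E K (E ⊗[T₀] T)).toRingEquiv)) inferInstance
  haveI := FlatLoc6.isCM_of_finite_flat C (C ⊗[E ⊗[T₀] T] D)
  exact FlatLoc6.isCM_of_ringEquiv (R := C ⊗[E ⊗[T₀] T] D)
    ((((Algebra.TensorProduct.comm (E ⊗[T₀] T) C D).toRingEquiv.trans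
      (Algebra.TensorProduct.cancelBaseChange E (E ⊗[T₀] T) D D K).toRingEquiv)).trans
        (Algebra.TensorProduct.comm E D K).toRingEquiv) inferInstance

omit [CommRing T₀] [CommRing T] in
/-- Over a complete local domain, a flat complete local algebra with finite residue extension and
Cohen–Macaulay closed fibre has Cohen–Macaulay generic fibre. -/
theorem isCM_genericFibre {E D : Type u} [CommRing E] [CommRing D] [IsDomain E] [IsLocalRing E]
    [IsNoetherianRing E] [IsAdicComplete (maximalIdeal E) E] [IsLocalRing D] [IsNoetherianRing D]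
    [IsAdicComplete (maximalIdeal D) D] [Algebra E D] [IsLocalHom (algebraMap E D)] [Module.Flat E D]
    [Module.Finite (ResidueField E) (ResidueField D)] (hCM : LocCoh.IsCohenMacaulayRing (EGA4.FibRing E D))
    (K : Type u) [Field K] [Algebra E K] [IsFractionRing E K] : LocCoh.IsCohenMacaulayRing (K ⊗[E] D) := by
  classical
  obtain ⟨Λ, _, n, f₀, hΛ, hinj, hfin, -⟩ := CohenLib.exists_finite_injective E
  obtain ⟨_, _, _⟩ := CohenLib.isRegular_complete_mvPowerSeries hΛ n
  let T₀ := MvPowerSeries (Fin n) Λ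
  letI : Algebra T₀ E := f₀.toAlgebra
  haveI : Module.Finite T₀ E := hfin
  haveI : FaithfulSMul T₀ E := (faithfulSMul_iff_algebraMap_injective T₀ E).mpr hinj
  haveI : IsDomain T₀ := Function.Injective.isDomain f₀ hinj
  haveI : IsLocalHom (algebraMap T₀ E) := (algebraMap_isIntegral_iff.mpr (Algebra.IsIntegral.of_finite T₀ E)).isLocalHom hinj
  letI : Algebra T₀ D := ((algebraMap E D).comp f₀).toAlgebra
  haveI : IsScalarTower T₀ E D := IsScalarTower.of_algebraMap_eq' rfl
  -- parameters of the closed fibre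
  let F := EGA4.FibRing E D
  have hmB : EGA4.mB E D ≤ maximalIdeal D := map_maximalIdeal_le (algebraMap E D)
  haveI : Nontrivial F := Ideal.Quotient.nontrivial_iff.2 (ne_top_of_le_ne_top (maximalIdeal.isMaximal D).ne_top hmB)
  haveI : IsLocalRing F := .of_surjective' _ Ideal.Quotient.mk_surjective
  haveI : IsLocalHom (Ideal.Quotient.mk (EGA4.mB E D)) := .of_surjective _ Ideal.Quotient.mk_surjective
  haveI := hCM
  obtain ⟨e, t, ht, hdim, hrad⟩ := CohenLib.exists_fin_sop F
  have hrad' : (Ideal.ofList (List.ofFn t)).radical = maximalIdeal F := by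
    rw [ofList_ofFn_span]
    refine le_antisymm ?_ hrad
    rw [← (maximalIdeal.isMaximal F).isPrime.isRadical.radical]
    exact Ideal.radical_mono (Ideal.span_le.2 (Set.range_subset_iff.2 ht))
  have hseq := LC.isWeaklyRegular_of_sop (isCMModule_of_isCMRing F) e hdim (List.ofFn t) (by simp) hrad'
  choose s hs using fun i => Ideal.Quotient.mk_surjective (t i)
  have hsm : ∀ i, s i ∈ maximalIdeal D := fun i =>
    (mem_maximalIdeal _).2 fun hu => (mem_maximalIdeal _).1 (ht i) (hs i ▸ hu.map _)
  obtain ⟨hreg, hflatE⟩ := regular_and_flat (E := E) (List.ofFn s) (by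
    rw [List.map_ofFn, show Ideal.Quotient.mk (EGA4.mB E D) ∘ s = t from funext hs]
    exact hseq)
  -- the power series ring
  let T := MvPowerSeries (Fin e) T₀
  haveI : IsRegularLocalRing T := isRegularLocalRing_mvPowerSeries T₀ e
  haveI : IsAdicComplete (maximalIdeal T) T := CohenLib.isAdicComplete_mvPowerSeries
  haveI := RegLoc6.isRegularRing_of_isRegularLocalRing T
  haveI := flat_mvPowerSeries T₀ e
  obtain ⟨ψ, hψ⟩ := PSLib.exists_algHom (R := T₀) (maximalIdeal D) s hsm
  letI : Algebra T D := ψ.toRingHom.toAlgebra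
  haveI : IsScalarTower T₀ T D := IsScalarTower.of_algebraMap_eq fun c => (ψ.commutes c).symm
  have hvars : (PSLib.vars e T₀).map (algebraMap T D) = Ideal.span (Set.range s) := by
    rw [PSLib.vars, Ideal.map_span, ← Set.range_comp]
    exact congrArg (fun t => Ideal.span (Set.range t)) (funext fun i => hψ i)
  have hT₀D : ∀ c ∈ maximalIdeal T₀, algebraMap T₀ D c ∈ maximalIdeal D := fun c hc => by
    rw [IsScalarTower.algebraMap_apply T₀ E D]
    exact map_nonunit _ _ (map_nonunit _ _ hc)
  haveI := isLocalHom_algebraMap T₀ e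
  have hTD : (maximalIdeal T).map (algebraMap T D) ≤ maximalIdeal D := by
    rw [Ideal.map_le_iff_le_comap]
    intro g hg
    have hc : MvPowerSeries.constantCoeff g ∈ maximalIdeal T₀ := by
      rw [mem_maximalIdeal, mem_nonunits_iff] at hg ⊢
      rwa [← MvPowerSeries.isUnit_iff_constantCoeff]
    have h1 : algebraMap T D (g - algebraMap T₀ T (MvPowerSeries.constantCoeff g)) ∈ maximalIdeal D :=
      Ideal.span_le.2 (Set.range_subset_iff.2 hsm) (hvars ▸ Ideal.mem_map_of_mem _ (sub_C_mem_vars g))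
    rw [map_sub, ← IsScalarTower.algebraMap_apply] at h1
    rw [Ideal.mem_comap, ← sub_add_cancel (algebraMap T D g) (algebraMap T₀ D (MvPowerSeries.constantCoeff g))]
    exact add_mem h1 (hT₀D _ hc)
  haveI : IsLocalHom (algebraMap T D) := ((local_hom_TFAE (algebraMap T D)).out 0 2).mpr hTD
  haveI : IsLocalHom (algebraMap T₀ D) := ⟨fun c hc => isUnit_of_map_unit (algebraMap T₀ E) c
    (isUnit_of_map_unit (algebraMap E D) _ (by rwa [← IsScalarTower.algebraMap_apply]))⟩
  haveI : Module.Finite T (ResidueField D) := by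
    haveI : Module.Finite T₀ (ResidueField E) :=
      Module.Finite.of_surjective (IsScalarTower.toAlgHom T₀ E (ResidueField E)).toLinearMap residue_surjective
    haveI : IsScalarTower T₀ (ResidueField E) (ResidueField D) := IsScalarTower.of_algebraMap_eq fun c => by
      rw [IsScalarTower.algebraMap_apply T₀ D (ResidueField D), IsScalarTower.algebraMap_apply T₀ E D,
        IsScalarTower.algebraMap_apply T₀ E (ResidueField E)]
      rfl
    haveI : Module.Finite T₀ (ResidueField D) := Module.Finite.trans (ResidueField E) _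
    exact Module.Finite.of_restrictScalars_finite T₀ T _
  have hradD : maximalIdeal D ≤ ((maximalIdeal T).map (algebraMap T D)).radical := by
    intro x hx
    obtain ⟨N, hN⟩ := Ideal.exists_pow_le_of_le_radical_of_fg (I := maximalIdeal E)
      (J := (maximalIdeal T₀).map (algebraMap T₀ E)) (by
        have hmax : ∀ q : Ideal E, q.IsPrime → (maximalIdeal T₀).map (algebraMap T₀ E) ≤ q → q = maximalIdeal E := by
          intro q hq hle
          haveI := hq
          have h1 : q.comap (algebraMap T₀ E) = maximalIdeal T₀ :=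
            le_antisymm (le_maximalIdeal (hq.comap _).ne_top) (Ideal.map_le_iff_le_comap.1 hle)
          have h2 : q.IsMaximal := Ideal.isMaximal_of_isIntegral_of_isMaximal_comap q (h1 ▸ maximalIdeal.isMaximal T₀)
          exact eq_maximalIdeal h2
        rw [Ideal.radical_eq_sInf]
        exact le_sInf fun q ⟨hle, hq⟩ => (hmax q hq hle).ge) (IsNoetherian.noetherian _)
    have hxF : Ideal.Quotient.mk (EGA4.mB E D) x ∈ maximalIdeal F := map_nonunit _ _ hx
    obtain ⟨M, hM⟩ := hrad hxF
    rw [← map_pow, ← show Ideal.Quotient.mk (EGA4.mB E D) ∘ s = t from funext hs, Set.range_comp,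
      ← Ideal.map_span, ← Ideal.mem_comap, Ideal.comap_map_of_surjective _ Ideal.Quotient.mk_surjective,
      ← RingHom.ker_eq_comap_bot, Ideal.mk_ker] at hM
    have h1 : Ideal.span (Set.range s) ≤ ((maximalIdeal T).map (algebraMap T D)).radical := by
      rw [← hvars]
      exact (Ideal.map_mono (le_maximalIdeal fun h => (maximalIdeal.isMaximal T).ne_top
        (top_unique (h ▸ PSLib.vars_le_jacobson.trans (jacobson_eq_maximalIdeal ⊥ bot_ne_top).le)))).trans Ideal.le_radical
    have h2 : EGA4.mB E D ≤ ((maximalIdeal T).map (algebraMap T D)).radical := by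
      refine Ideal.map_le_iff_le_comap.2 fun c hc => ⟨N, ?_⟩
      rw [← map_pow]
      have h3 : ((maximalIdeal T₀).map (algebraMap T₀ E)).map (algebraMap E D) ≤
          (maximalIdeal T).map (algebraMap T D) := by
        rw [Ideal.map_map, ← IsScalarTower.algebraMap_eq, IsScalarTower.algebraMap_eq T₀ T D, ← Ideal.map_map]
        exact Ideal.map_mono (map_maximalIdeal_le _)
      exact h3 (Ideal.mem_map_of_mem _ (hN (Ideal.pow_mem_pow hc N)))
    have h4 : x ^ M ∈ ((maximalIdeal T).map (algebraMap T D)).radical := sup_le h1 h2 hM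
    exact (Ideal.radical_isRadical _) ⟨M, h4⟩
  haveI : Module.Finite T D := finite_of_radical hTD hradD
  -- flatness over the base change
  refine isCM_of_finite_flat_baseChange (T₀ := T₀) (E := E) (T := T) (D := D) ?_ K
  letI : Algebra (E ⊗[T₀] T) D := (baseHom (T := T) (D := D)).toRingHom.toAlgebra
  show Module.Flat (E ⊗[T₀] T) D
  haveI : IsScalarTower E (E ⊗[T₀] T) D := IsScalarTower.of_algebraMap_eq (R := E) (S := E ⊗[T₀] T) (A := D)
    fun x => ((baseHom (T₀ := T₀) (E := E) (T := T) (D := D)).commutes x).symm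
  haveI : IsNoetherianRing (E ⊗[T₀] T) := by
    haveI : IsNoetherianRing (T ⊗[T₀] E) := Algebra.EssFiniteType.isNoetherianRing T _
    exact isNoetherianRing_of_ringEquiv _ (Algebra.TensorProduct.comm T₀ T E).toRingEquiv
  let X : Fin e → E ⊗[T₀] T := fun i => 1 ⊗ₜ MvPowerSeries.X i
  have hX : (List.ofFn X).map (algebraMap (E ⊗[T₀] T) D) = List.ofFn s := by
    rw [List.map_ofFn]
    congr 1
    funext i
    show baseHom (D := D) ((1 : E) ⊗ₜ[T₀] MvPowerSeries.X i) = s i
    rw [baseHom_tmul, map_one, one_mul]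
    exact hψ i
  let I : Ideal (E ⊗[T₀] T) := Ideal.ofList (List.ofFn X)
  have hI : I.map (algebraMap (E ⊗[T₀] T) D) = Ideal.span (Set.range s) := by
    rw [Ideal.map_ofList, hX, ofList_ofFn_span]
  have hwC : IsWeaklyRegular D (List.ofFn X) := (isWeaklyRegular_map_algebraMap_iff D D _).mp (hX.symm ▸ hreg)
  refine LocalCrit.flat_of_le_jacobson (B := D) I
    (hI.le.trans ((Ideal.span_le.2 (Set.range_subset_iff.2 hsm)).trans (maximalIdeal_le_jacobson ⊥)))
    (FlatLoc6.rTensor_ofList_injective _ hwC) ?_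
  have hsurj : Function.Surjective ((Ideal.Quotient.mk I).comp (algebraMap E (E ⊗[T₀] T))) := by
    intro z
    obtain ⟨z, rfl⟩ := Ideal.Quotient.mk_surjective z
    induction z using TensorProduct.induction_on with
    | zero => exact ⟨0, by simp⟩
    | add p q hp hq =>
      obtain ⟨a, ha⟩ := hp; obtain ⟨b, hb⟩ := hq
      exact ⟨a + b, by rw [map_add, ha, hb, map_add]⟩
    | tmul a g =>
      refine ⟨MvPowerSeries.constantCoeff g • a, ?_⟩
      show Ideal.Quotient.mk I ((MvPowerSeries.constantCoeff g • a) ⊗ₜ[T₀] (1 : T)) = _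
      rw [TensorProduct.smul_tmul, Algebra.smul_def, mul_one, Ideal.Quotient.eq, ← neg_sub, neg_mem_iff, ← TensorProduct.tmul_sub,
        show a ⊗ₜ[T₀] (g - algebraMap T₀ T (MvPowerSeries.constantCoeff g)) =
          (a ⊗ₜ[T₀] (1 : T)) * Algebra.TensorProduct.includeRight (g - algebraMap T₀ T (MvPowerSeries.constantCoeff g)) by
          simp]
      refine Ideal.mul_mem_left _ _ ?_
      have h1 : (PSLib.vars e T₀).map (Algebra.TensorProduct.includeRight : T →ₐ[T₀] E ⊗[T₀] T) ≤ I := by
        rw [PSLib.vars, Ideal.map_span, ← Set.range_comp]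
        exact (ofList_ofFn_span X).ge
      exact h1 (Ideal.mem_map_of_mem _ (sub_C_mem_vars g))
  haveI : Module.Flat E (((E ⊗[T₀] T) ⧸ I) ⊗[E ⊗[T₀] T] D) := by
    haveI := hflatE
    let e1 : ((E ⊗[T₀] T) ⧸ I) ⊗[E ⊗[T₀] T] D ≃ₗ[E] (D ⧸ (I • ⊤ : Submodule (E ⊗[T₀] T) D)) :=
      (TensorProduct.quotTensorEquivQuotSMul D I).restrictScalars E
    let L : Submodule D D := Ideal.ofList (List.ofFn s) • ⊤
    have hL : L.restrictScalars (E ⊗[T₀] T) = I • ⊤ := by
      rw [Ideal.smul_top_eq_map, hI]
      simp [L, ofList_ofFn_span]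
    let e2 : (D ⧸ (I • ⊤ : Submodule (E ⊗[T₀] T) D)) ≃ₗ[E] D ⧸ L :=
      ((Submodule.quotEquivOfEq _ _ hL.symm).trans (Submodule.Quotient.restrictScalarsEquiv _ L)).restrictScalars E
    exact Module.Flat.of_linearEquiv (e1.trans e2)
  haveI := flat_of_surjective (R := E) (S := (E ⊗[T₀] T) ⧸ I) hsurj (((E ⊗[T₀] T) ⧸ I) ⊗[E ⊗[T₀] T] D)
  exact LocalCrit.keepsInjective_of_flat I D

end Groth.Agent.CplFib6
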