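import Groth.Agent.CplFib6.CM
import Groth.Agent.CplFib6.Quot
import Groth.Agent.CplFib6.Ascend

/-!
# Cohen–Macaulay fibres from a Cohen–Macaulay closed fibre
-/

namespace Groth.Agent.CplFib6

universe u

open IsLocalRing TensorProduct

/-- Over a complete base, all fibres of a flat complete algebra with finite residue extension and
Cohen–Macaulay closed fibre are Cohen–Macaulay. -/
theorem isCM_fibre {C D : Type u} [CommRing C] [CommRing D] [IsLocalRing C] [IsNoetherianRing C]
    [IsAdicComplete (maximalIdeal C) C] [IsLocalRing D] [IsNoetherianRing D]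
    [IsAdicComplete (maximalIdeal D) D] [Algebra C D] [IsLocalHom (algebraMap C D)] [Module.Flat C D]
    [Module.Finite (ResidueField C) (ResidueField D)] (hCM : LocCoh.IsCohenMacaulayRing (EGA4.FibRing C D))
    (P : Ideal C) [hP : P.IsPrime] : LocCoh.IsCohenMacaulayRing (P.Fiber D) := by
  have hle : P ≤ maximalIdeal C := le_maximalIdeal hP.ne_top
  obtain ⟨_, _⟩ := isLocalRing_quots (D := D) P hle
  haveI := isLocalHom_quot (D := D) P
  haveI := isAdicComplete_quot P
  haveI := isAdicComplete_quot (P.map (algebraMap C D))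
  haveI := flat_quot (D := D) P
  haveI := finite_residue_quot (D := D) P
  obtain ⟨e⟩ := fibRing_quot_equiv (D := D) P hle
  obtain ⟨g⟩ := nonempty_genericFibre_equiv (D := D) P
  exact FlatLoc6.isCM_of_ringEquiv g
    (isCM_genericFibre (E := C ⧸ P) (D := D ⧸ P.map (algebraMap C D))
      (FlatLoc6.isCM_of_ringEquiv e hCM) P.ResidueField)

/-- The fibres of a composite, over a field: Cohen–Macaulay base and fibres. -/
theorem isCM_baseChange {A C D : Type u} [CommRing A] [CommRing C] [CommRing D] [Algebra A C] [Algebra A D]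
    [Algebra C D] [IsScalarTower A C D] [Module.Flat C D] [IsNoetherianRing C] [IsNoetherianRing D]
    (hfib : ∀ (P : Ideal C) [P.IsPrime], LocCoh.IsCohenMacaulayRing (P.Fiber D))
    (K : Type u) [Field K] [Algebra A K] [Algebra.EssFiniteType A K]
    [LocCoh.IsCohenMacaulayRing (C ⊗[A] K)] : LocCoh.IsCohenMacaulayRing (K ⊗[A] D) := by
  haveI : IsNoetherianRing (D ⊗[A] K) := Algebra.EssFiniteType.isNoetherianRing D _
  let eS : (C ⊗[A] K) ⊗[C] D ≃+* K ⊗[A] D :=
    ((Algebra.TensorProduct.comm C (C ⊗[A] K) D).toRingEquiv.trans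
      (Algebra.TensorProduct.cancelBaseChange A C D D K).toRingEquiv).trans
      (Algebra.TensorProduct.comm A D K).toRingEquiv
  haveI : IsNoetherianRing ((C ⊗[A] K) ⊗[C] D) :=
    isNoetherianRing_of_ringEquiv (D ⊗[A] K) ((Algebra.TensorProduct.comm A D K).toRingEquiv.trans eS.symm)
  haveI : Algebra.EssFiniteType C (C ⊗[A] K) := inferInstance
  refine FlatLoc6.isCM_of_ringEquiv eS
    (isCM_of_flat_of_fibres (C ⊗[A] K) ((C ⊗[A] K) ⊗[C] D) fun r _ => ?_)
  let P := r.comap (algebraMap C (C ⊗[A] K))
  have hker : RingHom.ker (algebraMap C r.ResidueField) = P := by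
    ext c
    rw [RingHom.mem_ker, IsScalarTower.algebraMap_apply C (C ⊗[A] K) r.ResidueField,
      Ideal.algebraMap_residueField_eq_zero, Ideal.mem_comap]
  obtain ⟨_, _⟩ := FlatLoc6.exists_residueAlgebra (L := r.ResidueField) P hker
  haveI := hfib P
  haveI : Algebra.EssFiniteType C r.ResidueField := Algebra.EssFiniteType.comp C (C ⊗[A] K) _
  haveI : Algebra.EssFiniteType P.ResidueField r.ResidueField :=
    Algebra.EssFiniteType.of_comp C P.ResidueField r.ResidueField
  exact FlatLoc6.isCM_of_ringEquiv
    ((Algebra.TensorProduct.cancelBaseChange C P.ResidueField r.ResidueField r.ResidueField D).toRingEquiv.trans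
      (Algebra.TensorProduct.cancelBaseChange C (C ⊗[A] K) r.ResidueField r.ResidueField D).symm.toRingEquiv)
    (isCM_tensor_of_essFin P.ResidueField (P.Fiber D) r.ResidueField)

end Groth.Agent.CplFib6
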