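import Groth.Agent.FlatLoc6.SerreNormal
import Groth.Agent.Alg6.LocLoc
import Mathlib.RingTheory.Regular.Flat
import Mathlib.RingTheory.DiscreteValuationRing.TFAE

/-!
# Reducedness lifts from a regular element whose divisors are discrete valuation rings
-/

namespace Groth.Agent.CplFib6

universe u

open IsLocalRing TensorProduct
open scoped Pointwise

/-- A uniformiser that is regular, below a prime containing a regular element. -/
theorem exists_uniformizer {E : Type u} [CommRing E] [IsNoetherianRing E] {t : E} (ht : IsSMulRegular E t)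
    (p : Ideal E) [p.IsPrime] (htp : t ∈ p) [IsDomain (Localization.AtPrime p)]
    [IsDiscreteValuationRing (Localization.AtPrime p)] :
    ∃ π : E, IsSMulRegular E π ∧ Irreducible (algebraMap E (Localization.AtPrime p) π) := by
  classical
  let Q : Ideal E := (maximalIdeal (Localization.AtPrime p) ^ 2).comap (algebraMap E (Localization.AtPrime p))
  have hfin := associatedPrimes.finite E E
  obtain ⟨π, hπp, hπ⟩ : ∃ π ∈ p, π ∉ Q ∧ ∀ q ∈ associatedPrimes E E, π ∉ q := by
    by_contra hc
    push Not at hc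
    have hsub : (p : Set E) ⊆ ⋃ q ∈ insert Q hfin.toFinset, (q : Set E) := fun a ha => by
      by_cases haQ : a ∈ Q
      · exact Set.mem_iUnion₂.mpr ⟨Q, Finset.mem_insert_self _ _, haQ⟩
      · obtain ⟨q, hq, haq⟩ := hc a ha haQ
        exact Set.mem_iUnion₂.mpr ⟨q, Finset.mem_insert_of_mem (hfin.mem_toFinset.mpr hq), haq⟩
    obtain ⟨q, hq, hle⟩ := (Ideal.subset_union_prime (f := id) Q Q
      (fun q hq hqQ _ => (hfin.mem_toFinset.mp ((Finset.mem_insert.mp hq).resolve_left hqQ)).isPrime)).mp hsub
    rcases Finset.mem_insert.mp hq with rfl | hq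
    · have h1 : maximalIdeal (Localization.AtPrime p) ≤ maximalIdeal (Localization.AtPrime p) ^ 2 := by
        conv_lhs => rw [← Localization.AtPrime.map_eq_maximalIdeal]
        exact Ideal.map_le_iff_le_comap.2 hle
      refine IsDiscreteValuationRing.not_a_field (Localization.AtPrime p)
        (Submodule.eq_bot_of_le_smul_of_le_jacobson_bot (maximalIdeal _) _ (IsNoetherian.noetherian _) ?_
          (maximalIdeal_le_jacobson _))
      rwa [smul_eq_mul, ← pow_two]
    · have : t ∈ ⋃ q ∈ associatedPrimes E E, (q : Set E) :=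
        Set.mem_iUnion₂.mpr ⟨q, hfin.mem_toFinset.mp hq, hle htp⟩
      rw [biUnion_associatedPrimes_eq_compl_regular] at this
      exact this ht
  refine ⟨π, ?_, ?_⟩
  · by_contra hr
    have : π ∈ ⋃ q ∈ associatedPrimes E E, (q : Set E) := by
      rw [biUnion_associatedPrimes_eq_compl_regular]; exact hr
    simp only [Set.mem_iUnion] at this
    obtain ⟨q, hq, hπq⟩ := this
    exact hπ.2 q hq hπq
  · obtain ⟨ϖ, hϖ⟩ := IsDiscreteValuationRing.exists_irreducible (Localization.AtPrime p)
    have hm : algebraMap E (Localization.AtPrime p) π ∈ maximalIdeal _ :=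
      (IsLocalization.AtPrime.to_map_mem_maximal_iff (Localization.AtPrime p) p π).mpr hπp
    rw [hϖ.maximalIdeal_eq, Ideal.mem_span_singleton] at hm
    obtain ⟨c, hc⟩ := hm
    have hu : IsUnit c := by
      by_contra hu
      refine hπ.1 ?_
      show algebraMap E (Localization.AtPrime p) π ∈ maximalIdeal _ ^ 2
      rw [hc, pow_two]
      exact Ideal.mul_mem_mul (hϖ.maximalIdeal_eq ▸ Ideal.mem_span_singleton_self ϖ) hu
    exact (show Associated ϖ (algebraMap E (Localization.AtPrime p) π) from ⟨hu.unit, hc.symm⟩).irreducible hϖ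

/-- A flat algebra is reduced if a regular element in its radical has only discrete valuation rings as
associated localizations, with reduced fibres over them. -/
theorem isReduced_of_regular_element {E R : Type u} [CommRing E] [IsNoetherianRing E] [CommRing R]
    [IsNoetherianRing R] [Algebra E R] [Module.Flat E R] {t : E} (ht : IsSMulRegular E t)
    (hjac : algebraMap E R t ∈ Ideal.jacobson (⊥ : Ideal R))
    (h : ∀ (p : Ideal E) [p.IsPrime], p ∈ associatedPrimes E (E ⧸ Ideal.span {t}) →
      (∃ _ : IsDomain (Localization.AtPrime p), IsDiscreteValuationRing (Localization.AtPrime p)) ∧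
        IsReduced (R ⧸ p.map (algebraMap E R))) : IsReduced R := by
  classical
  let τ : R := algebraMap E R t
  have hτ : IsSMulRegular R τ := IsSMulRegular.of_flat (S := R) ht
  -- a nilpotent element lies in each localised `t R`
  have loc : ∀ (p : Ideal E) [p.IsPrime], t ∈ p → p ∈ associatedPrimes E (E ⧸ Ideal.span {t}) →
      ∀ x : R, IsNilpotent x → ∃ s, s ∉ p ∧ algebraMap E R s * x ∈ Ideal.span {τ} := by
    intro p _ htp hp x hx
    obtain ⟨⟨_, _⟩, hred⟩ := h p hp
    let Ep := Localization.AtPrime p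
    obtain ⟨π, hπreg, hπirr⟩ := exists_uniformizer ht p htp
    have hπR : IsSMulRegular R (algebraMap E R π) := IsSMulRegular.of_flat (S := R) hπreg
    -- `s p ⊆ (π)`
    have hmem : ∀ a ∈ p, ∃ s ∈ p.primeCompl, s * a ∈ Ideal.span {π} := by
      intro a ha
      rw [← IsLocalization.algebraMap_mem_map_algebraMap_iff p.primeCompl Ep, Ideal.map_span, Set.image_singleton,
        ← hπirr.maximalIdeal_eq, ← Localization.AtPrime.map_eq_maximalIdeal]
      exact Ideal.mem_map_of_mem _ ha
    obtain ⟨G, hG⟩ := (IsNoetherian.noetherian p : p.FG)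
    choose f hf hf' using fun g : G => hmem g.1 (hG ▸ Ideal.subset_span g.2)
    let s₁ := ∏ g, f g
    have hs₁ : s₁ ∈ p.primeCompl := Submonoid.prod_mem _ fun g _ => hf g
    have hs₁p : p ≤ (Ideal.span {π}).colon {s₁} := by
      rw [← hG]
      refine Ideal.span_le.2 fun g hg => ?_
      rw [SetLike.mem_coe, Submodule.mem_colon_singleton, smul_eq_mul]
      obtain ⟨c, hc⟩ := Finset.dvd_prod_of_mem f (Finset.mem_univ (⟨g, hg⟩ : G))
      rw [show g * s₁ = c * (f ⟨g, hg⟩ * g) by show g * (∏ g, f g) = _; rw [hc]; ring]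
      exact Ideal.mul_mem_left _ _ (hf' ⟨g, hg⟩)
    haveI := hred
    have div : ∀ y : R, IsNilpotent y → ∃ z : R, IsNilpotent z ∧ algebraMap E R s₁ * y = algebraMap E R π * z := by
      intro y hy
      have h1 : y ∈ p.map (algebraMap E R) := by
        rw [← Ideal.Quotient.eq_zero_iff_mem]
        exact (hy.map (Ideal.Quotient.mk (p.map (algebraMap E R)))).eq_zero
      have h2 : algebraMap E R s₁ * y ∈ (Ideal.span {π}).map (algebraMap E R) := by
        have h3 : algebraMap E R s₁ * y ∈ (Ideal.span {s₁} * p).map (algebraMap E R) := by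
          rw [Ideal.map_mul]
          exact Ideal.mul_mem_mul (Ideal.mem_map_of_mem _ (Ideal.mem_span_singleton_self _)) h1
        refine Ideal.map_mono (Ideal.mul_le.2 fun a ha b hb => ?_) h3
        obtain ⟨c, rfl⟩ := Ideal.mem_span_singleton'.mp ha
        have := hs₁p hb
        rw [Submodule.mem_colon_singleton, smul_eq_mul] at this
        rw [mul_assoc, mul_comm s₁ b]
        exact Ideal.mul_mem_left _ _ this
      rw [Ideal.map_span, Set.image_singleton] at h2
      obtain ⟨z, hz⟩ := Ideal.mem_span_singleton'.mp h2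
      refine ⟨z, ?_, by rw [← hz]; ring⟩
      obtain ⟨N, hN⟩ := hy
      refine ⟨N, ?_⟩
      refine (hπR.pow N).eq_iff.mp ?_
      rw [smul_zero, smul_eq_mul, ← mul_pow, mul_comm, hz, mul_pow, hN, mul_zero]
    have pw : ∀ (j : ℕ) (y : R), IsNilpotent y →
        ∃ z : R, IsNilpotent z ∧ algebraMap E R (s₁ ^ j) * y = algebraMap E R (π ^ j) * z := by
      intro j
      induction j with
      | zero => exact fun y hy => ⟨y, hy, by simp⟩
      | succ j ih =>
        intro y hy
        obtain ⟨z, hz, e⟩ := ih y hy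
        obtain ⟨w, hw, e'⟩ := div z hz
        refine ⟨w, hw, ?_⟩
        rw [pow_succ, pow_succ, map_mul, map_mul]
        calc algebraMap E R (s₁ ^ j) * algebraMap E R s₁ * y
            = algebraMap E R s₁ * (algebraMap E R (s₁ ^ j) * y) := by ring
          _ = algebraMap E R (π ^ j) * (algebraMap E R s₁ * z) := by rw [e]; ring
          _ = algebraMap E R (π ^ j) * algebraMap E R π * w := by rw [e']; ring
    have htne : algebraMap E Ep t ≠ 0 := fun h0 => by
      obtain ⟨⟨s, hs⟩, hs0⟩ := (IsLocalization.map_eq_zero_iff p.primeCompl Ep t).1 h0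
      have : s = 0 := ht (show t • s = t • 0 by rw [smul_zero, smul_eq_mul, mul_comm]; exact hs0)
      exact hs (this ▸ p.zero_mem)
    obtain ⟨m, hm⟩ := IsDiscreteValuationRing.associated_pow_irreducible htne hπirr
    have h4 : algebraMap E Ep (π ^ m) ∈ (Ideal.span {t}).map (algebraMap E Ep) := by
      rw [Ideal.map_span, Set.image_singleton, Ideal.mem_span_singleton, map_pow]
      exact hm.dvd
    obtain ⟨s₂, hs₂, hs₂'⟩ := (IsLocalization.algebraMap_mem_map_algebraMap_iff p.primeCompl Ep _ _).mp h4
    obtain ⟨c, hc⟩ := Ideal.mem_span_singleton'.mp hs₂'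
    obtain ⟨z, -, e⟩ := pw m x hx
    refine ⟨s₂ * s₁ ^ m, mul_mem hs₂ (pow_mem hs₁ m), Ideal.mem_span_singleton'.mpr ⟨algebraMap E R c * z, ?_⟩⟩
    have hc' : algebraMap E R c * τ = algebraMap E R s₂ * algebraMap E R (π ^ m) := by
      rw [← map_mul, ← map_mul, hc]
    calc algebraMap E R c * z * τ = (algebraMap E R c * τ) * z := by ring
      _ = algebraMap E R s₂ * (algebraMap E R (π ^ m) * z) := by rw [hc']; ring
      _ = algebraMap E R (s₂ * s₁ ^ m) * x := by rw [← e, map_mul]; ring
  -- so it lies in `t R`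
  have glob : ∀ x : R, IsNilpotent x → x ∈ Ideal.span {τ} := by
    intro x hx
    let I : Ideal E := Ideal.comap (algebraMap E R) ((Ideal.span {τ} : Ideal R).colon {x})
    have hI : ∀ p ∈ associatedPrimes E (E ⧸ Ideal.span {t}), ¬ (I ≤ p) := by
      intro p hp hle
      haveI := hp.isPrime
      have htp : t ∈ p := by
        obtain ⟨-, z, hz⟩ := Alg6.mem_ass_iff.1 hp
        refine (hz t).2 ?_
        obtain ⟨e, rfl⟩ := Ideal.Quotient.mk_surjective z
        rw [Algebra.smul_def, Ideal.Quotient.algebraMap_eq, ← map_mul, Ideal.Quotient.eq_zero_iff_mem]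
        exact Ideal.mul_mem_right _ _ (Ideal.mem_span_singleton_self t)
      obtain ⟨s, hs, hsx⟩ := loc p htp hp x hx
      refine hs (hle ?_)
      simp only [I, Ideal.mem_comap]
      rw [Submodule.mem_colon_singleton, smul_eq_mul]
      exact hsx
    have hfin := associatedPrimes.finite E (E ⧸ Ideal.span {t})
    obtain ⟨a, haI, ha⟩ : ∃ a ∈ I, ∀ p ∈ associatedPrimes E (E ⧸ Ideal.span {t}), a ∉ p := by
      by_contra hc
      push Not at hc
      have hsub : (I : Set E) ⊆ ⋃ p ∈ hfin.toFinset, (p : Set E) := fun a ha => by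
        obtain ⟨p, hp, hap⟩ := hc a ha
        exact Set.mem_iUnion₂.mpr ⟨p, hfin.mem_toFinset.mpr hp, hap⟩
      obtain ⟨p, hp, hle⟩ := (Ideal.subset_union_prime (f := id) ⊥ ⊥
        (fun p hp _ _ => (hfin.mem_toFinset.mp hp).isPrime)).mp hsub
      exact hI p (hfin.mem_toFinset.mp hp) hle
    have hareg : IsSMulRegular (E ⧸ Ideal.span {t}) a := by
      by_contra hr
      have : a ∈ ⋃ p ∈ associatedPrimes E (E ⧸ Ideal.span {t}), (p : Set E) := by
        rw [biUnion_associatedPrimes_eq_compl_regular]; exact hr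
      simp only [Set.mem_iUnion] at this
      obtain ⟨p, hp, hap⟩ := this
      exact ha p hp hap
    have hwr : RingTheory.Sequence.IsWeaklyRegular E [t, a] := by
      rw [RingTheory.Sequence.isWeaklyRegular_cons_iff, RingTheory.Sequence.isWeaklyRegular_singleton_iff]
      refine ⟨ht, ?_⟩
      have e : (QuotSMulTop t E) ≃ₗ[E] (E ⧸ Ideal.span {t}) :=
        Submodule.quotEquivOfEq _ _ (by rw [← Submodule.ideal_span_singleton_smul, smul_eq_mul, Ideal.mul_top])
      exact (e.isSMulRegular_congr a).mpr hareg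
    have hwR : RingTheory.Sequence.IsWeaklyRegular R [t, a] :=
      ((TensorProduct.rid E R).isWeaklyRegular_congr _).mp (hwr.isWeaklyRegular_lTensor (M₂ := R))
    rw [RingTheory.Sequence.isWeaklyRegular_cons_iff, RingTheory.Sequence.isWeaklyRegular_singleton_iff] at hwR
    have hax : algebraMap E R a * x ∈ Ideal.span {τ} := by
      have : algebraMap E R a ∈ (Ideal.span {τ}).colon {x} := haI
      rwa [Submodule.mem_colon_singleton, smul_eq_mul] at this
    obtain ⟨c, hc⟩ := Ideal.mem_span_singleton'.mp hax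
    have h5 : Submodule.Quotient.mk (p := (t • ⊤ : Submodule E R)) x = 0 := by
      refine (isSMulRegular_iff_right_eq_zero_of_smul.mp hwR.2) _ ?_
      rw [← Submodule.Quotient.mk_smul, Submodule.Quotient.mk_eq_zero, Algebra.smul_def, ← hc]
      exact (Submodule.mem_smul_pointwise_iff_exists ..).mpr ⟨c, Submodule.mem_top, by rw [Algebra.smul_def, mul_comm]⟩
    rw [Submodule.Quotient.mk_eq_zero, Submodule.mem_smul_pointwise_iff_exists] at h5
    obtain ⟨w, -, hw⟩ := h5
    exact Ideal.mem_span_singleton'.mpr ⟨w, by rw [← hw, Algebra.smul_def, mul_comm]⟩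
  -- Nakayama
  have hN : nilradical R ≤ Ideal.span {τ} • nilradical R := by
    intro x hx
    obtain ⟨y, rfl⟩ := Ideal.mem_span_singleton'.mp (glob x hx)
    obtain ⟨N, hN⟩ := hx
    refine smul_eq_mul (α := Ideal R) .. ▸ ?_
    rw [mul_comm y τ]
    refine Ideal.mul_mem_mul (Ideal.mem_span_singleton_self τ) ⟨N, ?_⟩
    refine (hτ.pow N).eq_iff.mp ?_
    rw [smul_zero, smul_eq_mul, ← mul_pow, mul_comm]
    exact hN
  have hbot := Submodule.eq_bot_of_le_smul_of_le_jacobson_bot (Ideal.span {τ}) (nilradical R)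
    (IsNoetherian.noetherian _) hN ((Ideal.span_singleton_le_iff_mem _).2 hjac)
  exact nilradical_eq_bot_iff.mp hbot

end Groth.Agent.CplFib6
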