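import Groth.Agent.S14359
import Groth.Agent.CplFib6.Step
import Groth.Agent.CplFib6.Quot
import Groth.Agent.CompleteNagata.Complete
import Groth.Agent.FlatLoc6.DomainModel

/-!
# Reduced fibres from a geometrically reduced closed fibre, over a local base with Japanese quotients
-/

namespace Groth.Agent.CplFib6

universe u

open IsLocalRing TensorProduct

theorem isReduced_quot_of_ker {R S : Type u} [CommRing R] [CommRing S] [IsReduced S] (f : R →+* S) (I : Ideal R)
    (h : RingHom.ker f = I) : IsReduced (R ⧸ I) := by
  subst h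
  exact isReduced_of_injective f.kerLift f.kerLift_injective

theorem isReduced_fractionTensor (E R L : Type u) [CommRing E] [CommRing R] [Algebra E R] [IsReduced R] [CommRing L]
    [Algebra E L] [IsFractionRing E L] : IsReduced (R ⊗[E] L) :=
  isReduced_localizationPreserves (Algebra.algebraMapSubmonoid R (nonZeroDivisors E)) _ inferInstance

/-- The local rings at the associated primes of a principal ideal of a normal domain are discrete valuation rings. -/
theorem isDVR_of_ass {E : Type u} [CommRing E] [IsDomain E] [IsNoetherianRing E] [IsIntegrallyClosed E] {t : E}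
    (ht0 : t ≠ 0) (p : Ideal E) [p.IsPrime] (hp : p ∈ associatedPrimes E (E ⧸ Ideal.span {t})) :
    ∃ _ : IsDomain (Localization.AtPrime p), IsDiscreteValuationRing (Localization.AtPrime p) := by
  haveI hdom : IsDomain (Localization.AtPrime p) :=
    IsLocalization.isDomain_localization p.primeCompl_le_nonZeroDivisors
  refine ⟨hdom, ?_⟩
  haveI : IsNoetherianRing (Localization.AtPrime p) := IsLocalization.isNoetherianRing p.primeCompl _ inferInstance
  haveI : IsIntegrallyClosed (Localization.AtPrime p) :=
    isIntegrallyClosed_of_isLocalization _ p.primeCompl p.primeCompl_le_nonZeroDivisors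
  have hdim : ringKrullDim (Localization.AtPrime p) = 1 := by
    rw [IsLocalization.AtPrime.ringKrullDim_eq_height p (Localization.AtPrime p), S14359.result E t ht0 p hp]; rfl
  haveI : Ring.KrullDimLE 1 (Localization.AtPrime p) := ⟨by rw [← ringKrullDim]; exact hdim.le⟩
  haveI : Ring.DimensionLEOne (Localization.AtPrime p) :=
    ⟨fun {q} hq0 hq => Ring.krullDimLE_one_iff_of_noZeroDivisors.mp ‹_› q hq0 hq⟩
  haveI : IsDedekindDomain (Localization.AtPrime p) := { }
  have hnf : ¬ IsField (Localization.AtPrime p) := fun hF => by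
    rw [ringKrullDim_eq_zero_of_isField hF] at hdim
    exact zero_ne_one hdim
  exact ((IsDiscreteValuationRing.TFAE (Localization.AtPrime p) hnf).out 2 0).mp
    (inferInstance : IsDedekindDomain (Localization.AtPrime p))

/-- A finite domain over a ring with Japanese quotients is Japanese. -/
theorem isN2_of_finite_domain {C : Type u} [CommRing C] [IsNoetherianRing C]
    (hN : ∀ (p : Ideal C) [p.IsPrime], CAlg.IsN2 (C ⧸ p))
    (E : Type u) [CommRing E] [IsDomain E] [Algebra C E] [Module.Finite C E] : CAlg.IsN2 E := by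
  haveI : (RingHom.ker (algebraMap C E)).IsPrime := RingHom.ker_isPrime _
  refine CompleteNagata.isN2_of_finite (algebraMap C E).kerLift (RingHom.kerLift_injective _) ?_
    (hN (RingHom.ker (algebraMap C E)))
  exact RingHom.Finite.of_comp_finite (f := Ideal.Quotient.mk _) (RingHom.finite_algebraMap.2 ‹_›)

/-- The quotients of a complete local ring are Japanese. -/
theorem isN2_quot_of_complete {C : Type u} [CommRing C] [IsLocalRing C] [IsNoetherianRing C]
    [IsAdicComplete (maximalIdeal C) C] (p : Ideal C) [p.IsPrime] : CAlg.IsN2 (C ⧸ p) := by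
  haveI : Nontrivial (C ⧸ p) := Ideal.Quotient.nontrivial_iff.2 ‹p.IsPrime›.ne_top
  haveI : IsLocalRing (C ⧸ p) := .of_surjective' _ Ideal.Quotient.mk_surjective
  haveI := isAdicComplete_quot p
  exact CompleteNagata.isN2_of_complete _

variable {C D : Type u} [CommRing C] [CommRing D] [Algebra C D] [IsLocalRing C] [IsNoetherianRing C]
  [IsNoetherianRing D] [Module.Flat C D]
variable (hN : ∀ (p : Ideal C) [p.IsPrime], CAlg.IsN2 (C ⧸ p))
  (hjac : (maximalIdeal C).map (algebraMap C D) ≤ Ideal.jacobson ⊥)
  (h0 : ∀ (L : Type u) [Field L] [Algebra C L], Module.Finite C L → IsReduced (L ⊗[C] D))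

omit [Module.Flat C D] in
include hjac in
/-- The image of the maximal ideal lies in the radical of every finite base change. -/
theorem tmul_mem_jacobson (E : Type u) [CommRing E] [Algebra C E] [Module.Finite C E] {c : C}
    (hc : c ∈ maximalIdeal C) :
    algebraMap E (E ⊗[C] D) (algebraMap C E c) ∈ Ideal.jacobson (⊥ : Ideal (E ⊗[C] D)) := by
  refine Ideal.mem_sInf.2 ?_
  rintro M ⟨-, hM⟩
  haveI := hM
  let ι : D →+* E ⊗[C] D := (Algebra.TensorProduct.includeRight : D →ₐ[C] E ⊗[C] D).toRingHom
  have hι : ι.Finite := by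
    have h1 : (algebraMap D (D ⊗[C] E)).Finite := RingHom.finite_algebraMap.2 inferInstance
    have e : ι = (Algebra.TensorProduct.comm C D E).toRingEquiv.toRingHom.comp (algebraMap D (D ⊗[C] E)) :=
      RingHom.ext fun d => by simp [ι]
    rw [e]
    exact (RingHom.Finite.of_surjective _ (Algebra.TensorProduct.comm C D E).surjective).comp h1
  have h1 : (M.comap ι).IsMaximal := Ideal.isMaximal_comap_of_isIntegral_of_isMaximal' ι hι.to_isIntegral M
  have h2 : algebraMap C D c ∈ M.comap ι :=
    (hjac.trans (sInf_le ⟨bot_le, h1⟩)) (Ideal.mem_map_of_mem _ hc)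
  rw [← IsScalarTower.algebraMap_apply, Algebra.TensorProduct.algebraMap_apply,
    show (algebraMap C E c) ⊗ₜ[C] (1 : D) = (1 : E) ⊗ₜ[C] algebraMap C D c by
      rw [Algebra.algebraMap_eq_smul_one, Algebra.algebraMap_eq_smul_one, TensorProduct.smul_tmul]]
  exact h2

include hN hjac h0 in
/-- The base change to every finite domain is reduced. -/
theorem isReduced_tensor_domain (n : ℕ) : ∀ (E : Type u) [CommRing E] [IsDomain E] [Algebra C E] [Module.Finite C E],
      ringKrullDim E ≤ n → IsReduced (E ⊗[C] D) := by
  induction n using Nat.strong_induction_on with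
  | _ n ih =>
  intro E _ _ _ _ hdim
  by_cases hz : ∀ c ∈ maximalIdeal C, algebraMap C E c = 0
  · haveI hker : (RingHom.ker (algebraMap C E)).IsMaximal :=
      le_antisymm (fun c hc => RingHom.mem_ker.2 (hz c hc)) (le_maximalIdeal (RingHom.ker_ne_top _)) ▸
        maximalIdeal.isMaximal C
    have hF : IsField E := by
      letI := Ideal.Quotient.field (RingHom.ker (algebraMap C E))
      letI : Algebra (C ⧸ RingHom.ker (algebraMap C E)) E := (algebraMap C E).kerLift.toAlgebra
      haveI : Algebra.IsIntegral (C ⧸ RingHom.ker (algebraMap C E)) E := by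
        haveI : IsScalarTower C (C ⧸ RingHom.ker (algebraMap C E)) E := IsScalarTower.of_algebraMap_eq fun _ => rfl
        exact Algebra.IsIntegral.tower_top (R := C)
      exact isField_of_isIntegral_of_isField' (R := C ⧸ RingHom.ker (algebraMap C E))
        (Ideal.Quotient.field _).toIsField
    letI := hF.toField
    exact h0 E inferInstance
  push Not at hz
  obtain ⟨c, hc, hc0⟩ := hz
  let N := integralClosure E (FractionRing E)
  haveI : IsNoetherianRing E := IsNoetherianRing.of_finite C E
  haveI : Module.Finite E N := isN2_of_finite_domain hN E (FractionRing E) inferInstance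
  haveI : IsNoetherianRing N := IsNoetherianRing.of_finite E N
  haveI : IsIntegrallyClosed N := integralClosure.isIntegrallyClosedOfFiniteExtension (FractionRing E)
  haveI : Module.Finite C N := Module.Finite.trans E N
  have hinj : Function.Injective (algebraMap E N) := fun a b h =>
    IsFractionRing.injective E (FractionRing E) (congrArg (fun z : N => (z : FractionRing E)) h)
  have hdimN : ringKrullDim N = ringKrullDim E := EGA41Lib.ringKrullDim_eq_of_integral (A := E) (B := N) hinj
  suffices hred : IsReduced (N ⊗[C] D) by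
    haveI := hred
    let g : E →ₐ[C] N := IsScalarTower.toAlgHom C E N
    have hg : Function.Injective (Algebra.TensorProduct.map g (AlgHom.id C D)) :=
      Module.Flat.rTensor_preserves_injective_linearMap (M := D) g.toLinearMap hinj
    exact isReduced_of_injective _ hg
  have ht0 : algebraMap C N c ≠ 0 := by
    rw [IsScalarTower.algebraMap_apply C E N]
    exact fun h => hc0 (hinj (h.trans (map_zero _).symm))
  haveI : IsNoetherianRing (D ⊗[C] N) := Algebra.EssFiniteType.isNoetherianRing D _
  haveI : IsNoetherianRing (N ⊗[C] D) :=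
    isNoetherianRing_of_ringEquiv _ (Algebra.TensorProduct.comm C D N).toRingEquiv
  refine isReduced_of_regular_element (t := algebraMap C N c) (fun u v h => mul_left_cancel₀ ht0 h)
    (tmul_mem_jacobson hjac N hc) fun p hp hass => ⟨isDVR_of_ass ht0 p hass, ?_⟩
  have htp : algebraMap C N c ∈ p := by
    obtain ⟨-, z, hz⟩ := Alg6.mem_ass_iff.1 hass
    refine (hz _).2 ?_
    obtain ⟨e, rfl⟩ := Ideal.Quotient.mk_surjective z
    rw [Algebra.smul_def, Ideal.Quotient.algebraMap_eq, ← map_mul, Ideal.Quotient.eq_zero_iff_mem]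
    exact Ideal.mul_mem_right _ _ (Ideal.mem_span_singleton_self _)
  have h1 := ringKrullDim_succ_le_of_surjective (Ideal.Quotient.mk p) Ideal.Quotient.mk_surjective
    (mem_nonZeroDivisors_of_ne_zero ht0) (Ideal.Quotient.eq_zero_iff_mem.2 htp)
  rw [hdimN] at h1
  have h2 : ringKrullDim (N ⧸ p) + 1 ≤ (n : WithBot ℕ∞) := h1.trans hdim
  haveI : Nontrivial (N ⧸ p) := Ideal.Quotient.nontrivial_iff.2 hp.ne_top
  have hpos : n ≠ 0 := by
    rintro rfl
    have h3 : (1 : WithBot ℕ∞) ≤ ringKrullDim (N ⧸ p) + 1 :=
      le_add_of_nonneg_left ringKrullDim_nonneg_of_nontrivial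
    have h4 := h3.trans h2
    rw [Nat.cast_zero] at h4
    exact absurd h4 (not_le_of_gt zero_lt_one)
  obtain ⟨m, rfl⟩ := Nat.exists_eq_succ_of_ne_zero hpos
  haveI := ih m (Nat.lt_succ_self m) (N ⧸ p)
    (ENat.WithBot.add_le_add_one_right_iff.mp (h2.trans (le_of_eq (by push_cast; rfl))))
  let q : N ⊗[C] D →ₐ[C] (N ⧸ p) ⊗[C] D := Algebra.TensorProduct.map (Ideal.Quotient.mkₐ C p) (AlgHom.id C D)
  have hker : RingHom.ker q.toRingHom = p.map (algebraMap N (N ⊗[C] D)) := by
    show RingHom.ker q = _
    rw [Algebra.TensorProduct.rTensor_ker _ Ideal.Quotient.mk_surjective,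
      show RingHom.ker (Ideal.Quotient.mkₐ C p) = p from Ideal.mk_ker]
    rfl
  exact isReduced_quot_of_ker q.toRingHom _ hker

include hN hjac h0 in
/-- The fibres are geometrically reduced. -/
theorem geomReduced_fibre_of_le_jacobson (P : Ideal C) [P.IsPrime] :
    Algebra.IsGeometricallyReduced P.ResidueField (P.Fiber D) := by
  refine FlatLoc6.geomReduced_of_finite fun L _ _ hL => ?_
  haveI := hL
  letI : Algebra C L := ((algebraMap P.ResidueField L).comp (algebraMap C P.ResidueField)).toAlgebra
  haveI : IsScalarTower C P.ResidueField L := IsScalarTower.of_algebraMap_eq' rfl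
  obtain ⟨E, hfin, hfrac⟩ := FlatLoc6.exists_domainModel P L
  haveI := hfin
  haveI := hfrac
  obtain ⟨n, hn⟩ : ∃ n : ℕ, ringKrullDim E ≤ n := by
    obtain ⟨n, hn⟩ := ENat.ne_top_iff_exists.mp (Ideal.height_ne_top (maximalIdeal.isMaximal C).ne_top)
    refine ⟨n, ?_⟩
    let g := (algebraMap C E).kerLift
    letI : Algebra (C ⧸ RingHom.ker (algebraMap C E)) E := g.toAlgebra
    haveI : IsScalarTower C (C ⧸ RingHom.ker (algebraMap C E)) E := IsScalarTower.of_algebraMap_eq fun _ => rfl
    haveI : Algebra.IsIntegral (C ⧸ RingHom.ker (algebraMap C E)) E := Algebra.IsIntegral.tower_top (R := C)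
    rw [EGA41Lib.ringKrullDim_eq_of_integral (A := C ⧸ RingHom.ker (algebraMap C E)) (B := E) (RingHom.kerLift_injective _)]
    refine (ringKrullDim_le_of_surjective (Ideal.Quotient.mk _) Ideal.Quotient.mk_surjective).trans ?_
    rw [← IsLocalRing.maximalIdeal_height_eq_ringKrullDim, ← hn]; rfl
  haveI := isReduced_tensor_domain hN hjac h0 n E hn
  haveI : IsReduced ((E ⊗[C] D) ⊗[E] L) := isReduced_fractionTensor E (E ⊗[C] D) L
  let e : L ⊗[P.ResidueField] P.Fiber D ≃+* (E ⊗[C] D) ⊗[E] L :=
    ((Algebra.TensorProduct.cancelBaseChange C P.ResidueField L L D).toRingEquiv.trans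
      (Algebra.TensorProduct.cancelBaseChange C E L L D).symm.toRingEquiv).trans
      (Algebra.TensorProduct.comm E L (E ⊗[C] D)).toRingEquiv
  exact isReduced_of_injective e e.injective

include hjac h0 in
/-- Over a reduced complete base the algebra is reduced. -/
theorem isReduced_of_reduced_base [IsAdicComplete (maximalIdeal C) C] [IsReduced C] : IsReduced D := by
  have h := FlatLoc6.isReduced_baseChange_noetherian (A := C) D
    (fun P _ => geomReduced_fibre_of_le_jacobson (fun p _ => isN2_quot_of_complete p) hjac h0 P) C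
  haveI := h
  exact isReduced_of_injective (Algebra.TensorProduct.rid C C D).symm (Algebra.TensorProduct.rid C C D).symm.injective

omit hjac in
include h0 in
/-- The case of a local algebra over a complete base. -/
theorem geomReduced_fibre [IsAdicComplete (maximalIdeal C) C] [IsLocalRing D] [IsLocalHom (algebraMap C D)]
    (P : Ideal C) [P.IsPrime] : Algebra.IsGeometricallyReduced P.ResidueField (P.Fiber D) :=
  geomReduced_fibre_of_le_jacobson (fun p _ => isN2_quot_of_complete p)
    ((map_maximalIdeal_le _).trans (maximalIdeal_le_jacobson ⊥)) h0 P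

end Groth.Agent.CplFib6
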