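import Groth.Agent.LC.Annihilator
import Groth.Agent.LC.PdRegular
import Groth.Agent.CAlgOdd.AuslanderBuchsbaum
import Groth.Agent.FormCat.Equidim
import Groth.Agent.RegLoc6.Pd
import Mathlib.RingTheory.Spectrum.Prime.FreeLocus

/-!
# Semicontinuity of depth and dimension over regular rings
-/

namespace Groth.Agent.CplFib6

universe u

open IsLocalRing Groth.Agent.RegLoc6

section Local

/-- In a local ring, a lower bound on the heights of the points of the support bounds the dimension. -/
theorem supportDim_add_le (R : Type u) [CommRing R] (M : Type u) [AddCommGroup M] [Module R M] (c : ℕ∞)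
    (h : ∀ P ∈ Module.support R M, c ≤ P.asIdeal.height) :
    Module.supportDim R M + (c : WithBot ℕ∞) ≤ ringKrullDim R := by
  rcases subsingleton_or_nontrivial M with hM | hM
  · rw [Module.supportDim_eq_bot_of_subsingleton, WithBot.bot_add]
    exact bot_le
  haveI : Nonempty (Module.support R M) := (Module.nonempty_support_iff.mpr hM).to_subtype
  rw [Module.supportDim, Order.krullDim_eq_iSup_length, ← WithBot.coe_add, ENat.iSup_add]
  rw [WithBot.coe_iSup (OrderTop.bddAbove _)]
  refine iSup_le fun l => ?_
  have key : ∀ i : Fin (l.length + 1), Order.height (l 0).1 + (i : ℕ) ≤ Order.height (l i).1 := by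
    intro i
    induction i using Fin.induction with
    | zero => simp
    | succ i ih =>
      refine le_trans ?_ (Order.height_add_one_le (show (l i.castSucc).1 < (l i.succ).1 from l.step i))
      rw [Fin.val_succ, Nat.cast_add, Nat.cast_one, ← add_assoc]
      exact add_le_add_left ih 1
  have h0 : c ≤ Order.height (l 0).1 := by
    rw [← PrimeSpectrum.height_eq_orderHeight]
    exact h _ (l 0).2
  refine le_trans (WithBot.coe_le_coe.mpr ?_) (Order.height_le_krullDim (l (Fin.last _)).1)
  calc (l.length : ℕ∞) + c ≤ Order.height (l 0).1 + ((Fin.last l.length : ℕ) : ℕ∞) := by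
        rw [Fin.val_last, add_comm]
        exact add_le_add_left h0 _
    _ ≤ _ := key _

/-- Over a regular local ring every point of the support has height at least the codimension. -/
theorem height_ge_of_mem_support (R : Type u) [CommRing R] [IsRegularLocalRing R] (M : Type u) [AddCommGroup M]
    [Module R M] [Module.Finite R M] {d D c : ℕ} (hd : ringKrullDim R = d) (hD : Module.supportDim R M = D)
    (hc : d ≤ D + c) (hc' : c + D ≤ d) (P : PrimeSpectrum R) (hP : P ∈ Module.support R M) :
    (c : ℕ∞) ≤ P.asIdeal.height := by
  have h1 := FormCat.height_add_ringKrullDim_quotient_regular R P.asIdeal P.2.ne_top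
  have h2 : ringKrullDim (R ⧸ P.asIdeal) ≤ Module.supportDim R M := by
    rw [Module.supportDim_eq_ringKrullDim_quotient_annihilator]
    rw [Module.support_eq_zeroLocus, PrimeSpectrum.mem_zeroLocus] at hP
    exact ringKrullDim_le_of_surjective (Ideal.Quotient.factor hP) (Ideal.Quotient.factor_surjective hP)
  rw [hd] at h1
  rw [hD] at h2
  generalize ringKrullDim (R ⧸ P.asIdeal) = a at h1 h2
  generalize P.asIdeal.height = b at h1
  induction a with
  | bot => simp at h1
  | coe a =>
    have h1' : a + b = (d : ℕ∞) := by exact_mod_cast h1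
    have h2' : a ≤ (D : ℕ∞) := by exact_mod_cast h2
    induction a using ENat.recTopCoe with
    | top => simp at h2'
    | coe a =>
      induction b using ENat.recTopCoe with
      | top => exact le_top
      | coe b =>
        have e1 : a + b = d := by exact_mod_cast h1'
        have e2 : a ≤ D := by exact_mod_cast h2'
        exact_mod_cast (show c ≤ b by omega)

/-- A projective dimension bound gives a depth bound. -/
theorem depth_add_ge (R : Type u) [CommRing R] [IsLocalRing R] [IsNoetherianRing R] (M : Type u)
    [AddCommGroup M] [Module R M] [Module.Finite R M] [Nontrivial M] (h : ℕ) (hp : PdLE R h M) :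
    LocCoh.depth R R ≤ LocCoh.depth R M + h := by
  classical
  have hex : ∃ e, PdLE R e M := ⟨h, hp⟩
  rw [← CAlgOdd.AB.depth_add_eq (Nat.find hex) M (Nat.find_spec hex) fun e' he' => Nat.find_min hex he']
  exact add_le_add le_rfl (Nat.cast_le.mpr (Nat.find_min' hex hp))

end Local

variable {R : Type u} [CommRing R] [IsNoetherianRing R]

/-- Bounds on the projective dimension spread out. -/
theorem pdLE_spread (h : ℕ) : ∀ (M : Type u) [AddCommGroup M] [Module R M] [Module.Finite R M]
    (p : Ideal R) [p.IsPrime], PdLE (Localization.AtPrime p) h (LocalizedModule p.primeCompl M) →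
    ∃ U : Set (PrimeSpectrum R), IsOpen U ∧ (⟨p, inferInstance⟩ : PrimeSpectrum R) ∈ U ∧
      ∀ q ∈ U, PdLE (Localization.AtPrime q.asIdeal) h (LocalizedModule q.asIdeal.primeCompl M) := by
  induction h with
  | zero =>
    intro M _ _ _ p _ hp
    haveI := Module.finitePresentation_of_finite R M
    refine ⟨Module.freeLocus R M, Module.isOpen_freeLocus, ?_, fun q hq => ?_⟩
    · rw [Module.mem_freeLocus]
      haveI : Module.Projective (Localization.AtPrime p) (LocalizedModule p.primeCompl M) := pdLE_zero_iff.1 hp
      exact Module.free_of_flat_of_isLocalRing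
    · rw [Module.mem_freeLocus] at hq
      exact pdLE_of_projective 0
  | succ h ih =>
    intro M _ _ _ p _ hp
    obtain ⟨n, g, hg⟩ := Module.Finite.exists_fin' R M
    have hiff : ∀ (q : Ideal R) [q.IsPrime],
        PdLE (Localization.AtPrime q) (h + 1) (LocalizedModule q.primeCompl M) ↔
          PdLE (Localization.AtPrime q) h (LocalizedModule q.primeCompl (LinearMap.ker g)) := by
      intro q _
      haveI : Module.Projective (Localization.AtPrime q) (LocalizedModule q.primeCompl (Fin n → R)) :=
        Module.projective_of_isLocalizedModule q.primeCompl (LocalizedModule.mkLinearMap q.primeCompl (Fin n → R))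
      let g' := LocalizedModule.map q.primeCompl g
      have hg' : Function.Surjective g' := LocalizedModule.map_surjective q.primeCompl g hg
      rw [pdLE_succ_iff g' hg']
      have hex : Function.Exact (LocalizedModule.map q.primeCompl (LinearMap.ker g).subtype) g' :=
        LocalizedModule.map_exact q.primeCompl _ _ (LinearMap.exact_subtype_ker_map g)
      let e : LocalizedModule q.primeCompl (LinearMap.ker g) ≃ₗ[Localization.AtPrime q] LinearMap.ker g' :=
        (LinearEquiv.ofInjective (LocalizedModule.map q.primeCompl (LinearMap.ker g).subtype)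
          (LocalizedModule.map_injective q.primeCompl _ (Submodule.injective_subtype _))) ≪≫ₗ
          LinearEquiv.ofEq _ _ hex.linearMap_ker_eq.symm
      exact ⟨fun hh => pdLE_of_equiv e.symm hh, fun hh => pdLE_of_equiv e hh⟩
    obtain ⟨U, hU, hpU, hUq⟩ := ih (LinearMap.ker g) p ((hiff p).1 hp)
    exact ⟨U, hU, hpU, fun q hq => (hiff q.asIdeal).2 (hUq q hq)⟩

/-- Over a regular ring, codepth is upper semicontinuous. -/
theorem exists_nhd_codepth_le [IsRegularRing R] (M : Type u) [AddCommGroup M] [Module R M] [Module.Finite R M]
    (n : ℕ) (p : Ideal R) [p.IsPrime]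
    (hp : Module.supportDim (Localization.AtPrime p) (LocalizedModule p.primeCompl M) ≤
        ((LocCoh.depth (Localization.AtPrime p) (LocalizedModule p.primeCompl M) : ℕ∞) : WithBot ℕ∞) + n) :
    ∃ U : Set (PrimeSpectrum R), IsOpen U ∧ (⟨p, inferInstance⟩ : PrimeSpectrum R) ∈ U ∧ ∀ q ∈ U,
      Module.supportDim (Localization.AtPrime q.asIdeal) (LocalizedModule q.asIdeal.primeCompl M) ≤
        ((LocCoh.depth (Localization.AtPrime q.asIdeal) (LocalizedModule q.asIdeal.primeCompl M) : ℕ∞) : WithBot ℕ∞) + n := by
  classical
  rcases subsingleton_or_nontrivial (LocalizedModule p.primeCompl M) with hs | hs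
  · refine ⟨(Module.support R M)ᶜ, (Module.isClosed_support (R := R) (M := M)).isOpen_compl, ?_, fun q hq => ?_⟩
    · exact Module.notMem_support_iff.mpr hs
    · haveI := Module.notMem_support_iff.mp hq
      rw [Module.supportDim_eq_bot_of_subsingleton]
      exact bot_le
  set S := Localization.AtPrime p
  haveI : IsRegularLocalRing S := IsRegularRing.isRegularLocalRing_localization p
  obtain ⟨d, hd⟩ : ∃ d : ℕ, ringKrullDim S = d := by
    obtain ⟨d, hd⟩ := ENat.ne_top_iff_exists.mp (Ideal.height_ne_top (I := p) (Ideal.IsPrime.ne_top inferInstance))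
    exact ⟨d, by rw [IsLocalization.AtPrime.ringKrullDim_eq_height p S, ← hd]; rfl⟩
  obtain ⟨D, hD⟩ : ∃ D : ℕ, Module.supportDim S (LocalizedModule p.primeCompl M) = D := by
    have h1 := Module.supportDim_ne_bot_of_nontrivial S (LocalizedModule p.primeCompl M)
    have h2 := (Module.supportDim_le_ringKrullDim S (LocalizedModule p.primeCompl M)).trans_eq hd
    generalize Module.supportDim S (LocalizedModule p.primeCompl M) = x at h1 h2
    induction x with
    | bot => exact absurd rfl h1
    | coe x =>
      have h2' : x ≤ (d : ℕ∞) := by exact_mod_cast h2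
      obtain ⟨m, rfl⟩ := ENat.ne_top_iff_exists.mp (h2'.trans_lt (ENat.natCast_lt_top d)).ne
      exact ⟨m, rfl⟩
  obtain ⟨a, ha⟩ := LC.exists_depth_eq_nat (R := S) (LocalizedModule p.primeCompl M)
  rw [hD, ha] at hp
  have hDa : D ≤ a + n := by exact_mod_cast hp
  have hDd : D ≤ d := by
    have := (Module.supportDim_le_ringKrullDim S (LocalizedModule p.primeCompl M))
    rw [hd, hD] at this
    exact_mod_cast this
  have hpd : PdLE S (d - a) (LocalizedModule p.primeCompl M) := by
    refine LC.pdLE_of_le_depth S d hd _ _ ?_
    rw [ha]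
    exact_mod_cast (show d ≤ a + (d - a) by omega)
  obtain ⟨U, hU, hpU, hUq⟩ := pdLE_spread (d - a) M p hpd
  have hfin := (Module.annihilator R M).finite_minimalPrimes_of_isNoetherianRing
  let T := {m : Ideal R | m ∈ (Module.annihilator R M).minimalPrimes ∧ ¬ m ≤ p}
  have hT : T.Finite := hfin.subset fun m hm => hm.1
  refine ⟨U ∩ ⋂ m ∈ T, (PrimeSpectrum.zeroLocus (m : Set R))ᶜ,
    hU.inter (hT.isOpen_biInter fun m _ => (PrimeSpectrum.isClosed_zeroLocus _).isOpen_compl),
    ⟨hpU, Set.mem_iInter₂.mpr fun m hm => hm.2⟩, fun q hq => ?_⟩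
  rcases subsingleton_or_nontrivial (LocalizedModule q.asIdeal.primeCompl M) with hqs | hqs
  · rw [Module.supportDim_eq_bot_of_subsingleton]
    exact bot_le
  set Q := Localization.AtPrime q.asIdeal
  haveI : IsRegularLocalRing Q := IsRegularRing.isRegularLocalRing_localization q.asIdeal
  have hheight : ∀ P ∈ Module.support Q (LocalizedModule q.asIdeal.primeCompl M),
      ((d - D : ℕ) : ℕ∞) ≤ P.asIdeal.height := by
    intro P hP
    have hann : Module.annihilator R M ≤ P.asIdeal.comap (algebraMap R Q) := by
      intro r hr
      rw [Module.support_eq_zeroLocus, PrimeSpectrum.mem_zeroLocus] at hP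
      refine hP (Module.mem_annihilator.mpr fun x => ?_)
      induction x using LocalizedModule.induction_on with
      | _ m s => rw [algebraMap_smul, LocalizedModule.smul'_mk, Module.mem_annihilator.mp hr, LocalizedModule.zero_mk]
    haveI := Ideal.comap_isPrime (algebraMap R Q) P.asIdeal
    obtain ⟨m, hm, hmP⟩ := Ideal.exists_minimalPrimes_le hann
    haveI := hm.1.1
    have hPq : P.asIdeal.comap (algebraMap R Q) ≤ q.asIdeal := by
      refine (Ideal.comap_mono (le_maximalIdeal P.2.ne_top)).trans_eq ?_
      exact IsLocalization.AtPrime.comap_maximalIdeal Q q.asIdeal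
    have hmp : m ≤ p := by
      by_contra hmp
      exact Set.mem_iInter₂.mp hq.2 m ⟨hm, hmp⟩ (hmP.trans hPq)
    have hdisj : Disjoint (p.primeCompl : Set R) m := Set.disjoint_left.mpr fun x hx hxm => hx (hmp hxm)
    haveI := IsLocalization.isPrime_of_isPrime_disjoint p.primeCompl S m inferInstance hdisj
    have hsupp : (⟨m.map (algebraMap R S), inferInstance⟩ : PrimeSpectrum S) ∈
        Module.support S (LocalizedModule p.primeCompl M) := by
      rw [Module.support_eq_zeroLocus, PrimeSpectrum.mem_zeroLocus]
      intro z hz
      obtain ⟨r, s, rfl⟩ := IsLocalization.exists_mk'_eq p.primeCompl z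
      refine IsLocalization.mk'_mem_iff.mpr (Ideal.mem_map_of_mem _ ?_)
      obtain ⟨σ, hσ⟩ := (Module.finite_def (R := R) (M := M)).mp inferInstance
      have hx : ∀ x : M, ∃ t : p.primeCompl, (t : R) • r • x = 0 := by
        intro x
        have h1 := Module.mem_annihilator.mp hz (LocalizedModule.mk x 1)
        rw [← Localization.mk_eq_mk', LocalizedModule.mk_smul_mk] at h1
        obtain ⟨t, ht⟩ := LocalizedModule.mk_eq.mp (h1.trans (LocalizedModule.zero_mk (1 : p.primeCompl)).symm)
        refine ⟨t, ?_⟩
        simpa [Submonoid.smul_def] using ht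
      choose t ht using hx
      have hT : (∏ x ∈ σ, (t x : R)) * r ∈ Module.annihilator R M := by
        rw [← Submodule.annihilator_top, ← hσ, Submodule.mem_annihilator_span]
        rintro ⟨x, hx⟩
        show ((∏ y ∈ σ, (t y : R)) * r) • x = 0
        rw [← Finset.prod_erase_mul σ _ (Finset.mem_coe.mp hx), mul_smul, mul_smul, ht, smul_zero]
      refine (‹m.IsPrime›.mem_or_mem (hm.1.2 hT)).resolve_left fun hmem => ?_
      obtain ⟨x, -, hx⟩ := Ideal.IsPrime.prod_mem_iff.mp hmem
      exact (t x).2 (hmp hx)
    have h3 := height_ge_of_mem_support S (LocalizedModule p.primeCompl M) hd hD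
      (show d ≤ D + (d - D) by omega) (show (d - D) + D ≤ d by omega) _ hsupp
    rw [← IsLocalization.height_under p.primeCompl, show (m.map (algebraMap R S)).under R = m from IsLocalization.comap_map_of_isPrime_disjoint p.primeCompl S inferInstance hdisj] at h3
    rw [← IsLocalization.height_under q.asIdeal.primeCompl P.asIdeal]
    exact h3.trans (Ideal.height_mono hmP)
  have h4 := supportDim_add_le Q (LocalizedModule q.asIdeal.primeCompl M) _ hheight
  have h5 := depth_add_ge Q (LocalizedModule q.asIdeal.primeCompl M) (d - a) (hUq q hq.1)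
  haveI := LC.gorenstein_of_isRegularLocalRing (R := Q)
  haveI := LC.isCohenMacaulayLocalRing_of_gorenstein (R := Q)
  rw [← Module.supportDim_self_eq_ringKrullDim, LocCoh.IsCohenMacaulayLocalRing.supportDim_eq_depth] at h4
  obtain ⟨b, hb⟩ := LC.exists_depth_eq_nat (R := Q) (LocalizedModule q.asIdeal.primeCompl M)
  obtain ⟨e, he⟩ := LC.exists_depth_eq_nat (R := Q) Q
  rw [hb, he] at h5
  rw [he] at h4
  rw [hb]
  have h5' : e ≤ b + (d - a) := by exact_mod_cast h5
  generalize Module.supportDim Q (LocalizedModule q.asIdeal.primeCompl M) = x at h4 ⊢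
  induction x with
  | bot => exact bot_le
  | coe x =>
    have h4' : x + ((d - D : ℕ) : ℕ∞) ≤ (e : ℕ∞) := by exact_mod_cast h4
    induction x using ENat.recTopCoe with
    | top => simp at h4'
    | coe x =>
      have h4'' : x + (d - D) ≤ e := by exact_mod_cast h4'
      exact_mod_cast (show x ≤ b + n by omega)

/-- Localized modules along a surjection of rings have the same dimension. -/
theorem supportDim_localized_comap {S R : Type u} [CommRing S] [CommRing R] [Algebra S R] {M : Type u}
    [AddCommGroup M] [Module R M] [Module S M] [IsScalarTower S R M] (hπ : Function.Surjective (algebraMap S R))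
    (p : Ideal R) [p.IsPrime] :
    Module.supportDim (Localization.AtPrime (p.comap (algebraMap S R)))
        (LocalizedModule (p.comap (algebraMap S R)).primeCompl M) =
      Module.supportDim (Localization.AtPrime p) (LocalizedModule p.primeCompl M) := by
  let P := p.comap (algebraMap S R)
  have := LC.isLocalizedModule_comap (M := M) hπ p
  let f := (LocalizedModule.mkLinearMap p.primeCompl M).restrictScalars S
  let e := IsLocalizedModule.iso P.primeCompl f
  let σ := Localization.localRingHom P p (algebraMap S R) rfl
  refine Alg6.supportDim_eq_of_semilinear σ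
    (RingHom.surjective_localRingHom_of_surjective (algebraMap S R) hπ p) e.toAddEquiv fun z x => ?_
  obtain ⟨⟨a, t⟩, hat⟩ := IsLocalization.surj P.primeCompl z
  have hu : IsUnit (algebraMap R (Localization.AtPrime p) (algebraMap S R (t : S))) :=
    IsLocalization.map_units (Localization.AtPrime p) (⟨algebraMap S R t, t.2⟩ : p.primeCompl)
  refine hu.smul_left_cancel.1 ?_
  have h1 : algebraMap R (Localization.AtPrime p) (algebraMap S R (t : S)) * σ z =
      algebraMap R (Localization.AtPrime p) (algebraMap S R a) := by
    rw [← Localization.localRingHom_to_map P p (algebraMap S R) rfl a,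
      ← Localization.localRingHom_to_map P p (algebraMap S R) rfl (t : S), ← map_mul, mul_comm _ z, hat]
  have h2 : (t : S) • z • x = a • x := by
    rw [← algebraMap_smul (Localization.AtPrime P) (t : S) (z • x), smul_smul, mul_comm]
    exact (congrArg (fun c => c • x) hat).trans (algebraMap_smul _ a x)
  rw [smul_smul, h1, algebraMap_smul, algebraMap_smul, algebraMap_smul, algebraMap_smul]
  show (t : S) • e (z • x) = a • e x
  rw [← map_smul, h2, map_smul]

/-- Over a quotient of a regular ring, the codepth loci are open. -/
theorem isOpen_codepth_le (R A : Type u) [CommRing R] [CommRing A] [IsRegularRing R] [Algebra R A]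
    (hs : Function.Surjective (algebraMap R A)) (M : Type u) [AddCommGroup M] [Module A M] [Module.Finite A M]
    (n : ℕ) : IsOpen {p : PrimeSpectrum A |
      Module.supportDim (Localization.AtPrime p.asIdeal) (LocalizedModule p.asIdeal.primeCompl M) ≤
        ((LocCoh.depth (Localization.AtPrime p.asIdeal) (LocalizedModule p.asIdeal.primeCompl M) : ℕ∞) : WithBot ℕ∞) + n} := by
  letI : Module R M := Module.compHom M (algebraMap R A)
  haveI : IsScalarTower R A M := IsScalarTower.of_algebraMap_smul fun _ _ => rfl
  haveI : Module.Finite R A := Module.Finite.of_surjective (Algebra.linearMap R A) hs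
  haveI : Module.Finite R M := Module.Finite.trans A M
  have key : ∀ (q : Ideal A) [q.IsPrime],
      (Module.supportDim (Localization.AtPrime (q.comap (algebraMap R A)))
          (LocalizedModule (q.comap (algebraMap R A)).primeCompl M) ≤
        ((LocCoh.depth (Localization.AtPrime (q.comap (algebraMap R A)))
          (LocalizedModule (q.comap (algebraMap R A)).primeCompl M) : ℕ∞) : WithBot ℕ∞) + n) ↔
      (Module.supportDim (Localization.AtPrime q) (LocalizedModule q.primeCompl M) ≤
        ((LocCoh.depth (Localization.AtPrime q) (LocalizedModule q.primeCompl M) : ℕ∞) : WithBot ℕ∞) + n) := by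
    intro q _
    rw [supportDim_localized_comap (M := M) hs q, LC.depth_localized_comap (M := M) hs q]
  rw [isOpen_iff_forall_mem_open]
  intro p hp
  obtain ⟨U, hU, hpU, hUq⟩ := exists_nhd_codepth_le M n (p.asIdeal.comap (algebraMap R A)) ((key p.asIdeal).2 hp)
  exact ⟨PrimeSpectrum.comap (algebraMap R A) ⁻¹' U,
    fun q hq => (key q.asIdeal).1 (hUq ⟨q.asIdeal.comap (algebraMap R A), inferInstance⟩ hq),
    hU.preimage (PrimeSpectrum.continuous_comap _), hpU⟩

end Groth.Agent.CplFib6
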