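import Groth.Agent.CplFib6.DerivTower
import Groth.Agent.RegLoc6.J2
import Groth.Agent.GeomReg.Basic
import Mathlib.RingTheory.Polynomial.SeparableDegree
import Mathlib.FieldTheory.IsAlgClosed.AlgebraicClosure

/-!
# Regular towers of roots
-/

namespace Groth.Agent.CplFib6

universe u

open Polynomial

attribute [local instance 10000] Ring.toIntAlgebra

theorem EnoughDer.of_ringEquiv {p : ℕ} {R S : Type u} [CommRing R] [CommRing S] (e : R ≃+* S)
    (h : EnoughDer p R) : EnoughDer p S := by
  intro c hc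
  obtain ⟨s, hs, a, ha⟩ := h (e.symm c) fun D => by
    let φ : S →+ S := (e.toAddMonoidHom.comp D.toLinearMap.toAddMonoidHom).comp e.symm.toAddMonoidHom
    let D' : Derivation ℤ S S := Derivation.mk' φ.toIntLinearMap fun x y => by
      show e (D (e.symm (x * y))) = x • e (D (e.symm y)) + y • e (D (e.symm x))
      simp [Derivation.leibniz]
    have h1 : e (D (e.symm c)) = 0 := hc D'
    simpa using h1
  refine ⟨e s, by simpa using hs, e a, ?_⟩
  have := congrArg e ha
  rwa [map_mul, map_pow, map_pow, e.apply_symm_apply] at this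

variable {B : Type u} [CommRing B] [IsDomain B] {Ω : Type u} [Field Ω] [Algebra B Ω] (p : ℕ)

/-- A member of the tower. -/
def Good (T : Subalgebra B Ω) : Prop := Algebra.FiniteType B T ∧ IsRegularRing T ∧ EnoughDer p T

/-- The fraction field of a member. -/
def InFrac (T : Subalgebra B Ω) (y : Ω) : Prop := ∃ a ∈ T, ∃ s ∈ T, s ≠ 0 ∧ s * y = a

omit [IsDomain B] in
theorem InFrac.mono {T T' : Subalgebra B Ω} (h : T ≤ T') {y : Ω} (hy : InFrac T y) : InFrac T' y := by
  obtain ⟨a, ha, s, hs, hs0, h1⟩ := hy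
  exact ⟨a, h ha, s, h hs, hs0, h1⟩

omit [IsDomain B] in
/-- An abstract member gives a subalgebra. -/
theorem good_range {S : Type u} [CommRing S] [Algebra B S] [Algebra.FiniteType B S] [IsRegularRing S]
    (hS : EnoughDer p S) (φ : S →ₐ[B] Ω) (hφ : Function.Injective φ) : Good p φ.range := by
  let e : S ≃ₐ[B] φ.range := AlgEquiv.ofInjective φ hφ
  exact ⟨Algebra.FiniteType.equiv ‹_› e, IsRegularRing.of_ringEquiv e.toRingEquiv, hS.of_ringEquiv e.toRingEquiv⟩

/-- A root of an element moved by a derivation generates freely. -/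
theorem injective_root_lift {R : Type u} [CommRing R] [IsDomain R] {L : Type u} [Field L] (p : ℕ)
    [Fact p.Prime] [CharP R p] (b : R) (D : Derivation ℤ R R) (hD : D b = 1) (ι : R →+* L)
    (hι : Function.Injective ι) (β : L) (hroot : Polynomial.eval₂ ι β (X ^ p - C b) = 0) :
    Function.Injective (AdjoinRoot.lift ι β hroot) := by
  have hp : p.Prime := Fact.out
  rw [injective_iff_map_eq_zero]
  intro z hz
  obtain ⟨q, rfl⟩ := AdjoinRoot.mk_surjective z
  rw [AdjoinRoot.lift_mk] at hz
  rw [AdjoinRoot.mk_eq_zero]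
  let K := FractionRing R
  let j : K →+* L := IsFractionRing.lift hι
  have hj : j.comp (algebraMap R K) = ι := RingHom.ext fun x => IsFractionRing.lift_algebraMap hι x
  haveI : CharP K p := charP_of_injective_algebraMap (IsFractionRing.injective R K) p
  have hirr : Irreducible (X ^ p - C (algebraMap R K b)) := by
    refine X_pow_sub_C_irreducible_of_prime hp fun z hzp => ?_
    obtain ⟨⟨a', s'⟩, hz'⟩ := IsLocalization.surj (nonZeroDivisors R) z
    have h1 : a' ^ p = (s' : R) ^ p * b := by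
      apply IsFractionRing.injective R K
      rw [map_pow, map_mul, map_pow, ← hz', mul_pow, hzp, mul_comm]
    have h2 := congrArg D h1
    rw [derivation_pow_char, Derivation.leibniz, derivation_pow_char, hD, smul_zero, add_zero, smul_eq_mul,
      mul_one] at h2
    exact nonZeroDivisors.coe_ne_zero s' ((pow_eq_zero_iff hp.ne_zero).mp h2.symm)
  letI : Algebra K L := j.toAlgebra
  rw [Polynomial.eval₂_sub, Polynomial.eval₂_X_pow, Polynomial.eval₂_C] at hroot
  have hmin : X ^ p - C (algebraMap R K b) = minpoly K β := by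
    refine minpoly.eq_of_irreducible_of_monic hirr ?_ (monic_X_pow_sub_C _ hp.ne_zero)
    rw [map_sub, map_pow, aeval_X, aeval_C]
    show β ^ p - j.comp (algebraMap R K) b = 0
    rw [hj, hroot]
  refine (Polynomial.map_dvd_map (algebraMap R K) (IsFractionRing.injective R K)
    (monic_X_pow_sub_C _ hp.ne_zero)).mp ?_
  rw [Polynomial.map_sub, Polynomial.map_pow, Polynomial.map_X, Polynomial.map_C, hmin]
  refine minpoly.dvd K _ ?_
  rw [Polynomial.aeval_def, Polynomial.eval₂_map]
  show Polynomial.eval₂ (j.comp (algebraMap R K)) β q = 0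
  rw [hj]
  exact hz

omit [IsDomain B] in
/-- Adjoining a `p`th root. -/
theorem exists_good_root [Fact p.Prime] [CharP Ω p] (T : Subalgebra B Ω) (hT : Good p T) (y : Ω)
    (hy : InFrac T (y ^ p)) : ∃ T', T ≤ T' ∧ Good p T' ∧ InFrac T' y := by
  obtain ⟨hft, hreg, hen⟩ := hT
  obtain ⟨a, ha, s, hs, hs0, hsy⟩ := hy
  have hp : p.Prime := Fact.out
  haveI := hft
  haveI := hreg
  haveI : CharP T p := by
    refine (CharP.charP_iff_prime_eq_zero hp).mpr (Subtype.ext ?_)
    show ((p : T) : Ω) = 0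
    exact (map_natCast T.val p).trans (CharP.cast_eq_zero Ω p)
  let b : T := ⟨a, ha⟩ * (⟨s, hs⟩ : T) ^ (p - 1)
  have hb : (b : Ω) = (s * y) ^ p := by
    show a * s ^ (p - 1) = _
    rw [← hsy, mul_pow, mul_right_comm, ← pow_succ', Nat.sub_add_cancel hp.pos]
  by_cases hD : ∀ D : Derivation ℤ T T, D b = 0
  · obtain ⟨t, ht, c, hc⟩ := hen b hD
    refine ⟨T, le_rfl, ⟨hft, hreg, hen⟩, c, c.2, t * s, mul_mem t.2 hs, mul_ne_zero (by simpa using ht) hs0, ?_⟩
    refine frobenius_inj Ω p ?_
    have h1 := congrArg (fun x : T => (x : Ω)) hc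
    simp only [MulMemClass.coe_mul, SubmonoidClass.coe_pow, hb] at h1
    show (t * s * y) ^ p = (c : Ω) ^ p
    rw [← h1]
    ring
  obtain ⟨D, hDb⟩ := not_forall.mp hD
  set e := D b
  let R := Localization.Away e
  have hinjR : Function.Injective (algebraMap T R) :=
    IsLocalization.injective _ (powers_le_nonZeroDivisors_of_noZeroDivisors hDb)
  haveI : IsDomain R := IsLocalization.isDomain_localization (powers_le_nonZeroDivisors_of_noZeroDivisors hDb)
  haveI : CharP R p := charP_of_injective_algebraMap hinjR p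
  haveI : IsRegularRing R := GeomReg.isRegularRing_of_isLocalization (Submonoid.powers e) R
  have henR : EnoughDer p R := enoughDer_away p hp.pos hen e hDb
  have hu : ∀ m : Submonoid.powers e, IsUnit (T.val.toRingHom m) := fun m => by
    obtain ⟨_, n, rfl⟩ := m
    show IsUnit ((e : Ω) ^ n)
    exact (isUnit_iff_ne_zero.mpr (by simpa using hDb)).pow n
  let ι : R →ₐ[B] Ω := IsLocalization.liftAlgHom (M := Submonoid.powers e) (f := T.val) (fun m => hu m)
  have hιT : ∀ x : T, ι (algebraMap T R x) = x := fun x => IsLocalization.lift_eq _ x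
  have hι : Function.Injective ι := by
    rw [injective_iff_map_eq_zero]
    intro z hz
    obtain ⟨x, m, rfl⟩ := IsLocalization.exists_mk'_eq (Submonoid.powers e) z
    have h1 := congrArg ι (IsLocalization.mk'_spec R x m)
    rw [map_mul ι, hz, zero_mul, hιT] at h1
    rw [show x = 0 from Subtype.ext h1.symm, IsLocalization.mk'_zero]
  obtain ⟨D', hD'⟩ := exists_derivation_localization (S := R) (Submonoid.powers e) D
  obtain ⟨u, hu'⟩ := IsLocalization.map_units R (⟨e, Submonoid.mem_powers e⟩ : Submonoid.powers e)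
  let D₁ : DerZ R := ((u⁻¹ : Rˣ) : R) • D'
  have hD₁ : D₁ (algebraMap T R b) = 1 := by
    show ((u⁻¹ : Rˣ) : R) * D' (algebraMap T R b) = 1
    rw [hD', show algebraMap T R (D b) = (u : R) from hu'.symm, Units.inv_mul]
  let f : R[X] := X ^ p - C (algebraMap T R b)
  haveI : Algebra.FiniteType B R := Algebra.FiniteType.trans (S := T) inferInstance inferInstance
  haveI : Algebra.FiniteType B (AdjoinRoot f) := Algebra.FiniteType.trans (S := R) inferInstance inferInstance
  haveI : IsRegularRing (AdjoinRoot f) := isRegularRing_root p _ D₁ hD₁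
  have henS : EnoughDer p (AdjoinRoot f) := enoughDer_root p henR _ D₁ hD₁
  have hroot : Polynomial.eval₂ ι.toRingHom (s * y) f = 0 := by
    show Polynomial.eval₂ _ _ (X ^ p - C (algebraMap T R b)) = 0
    rw [Polynomial.eval₂_sub, Polynomial.eval₂_X_pow, Polynomial.eval₂_C]
    show (s * y) ^ p - ι (algebraMap T R b) = 0
    rw [hιT, hb, sub_self]
  let φ : AdjoinRoot f →ₐ[B] Ω :=
    { AdjoinRoot.lift ι.toRingHom (s * y) hroot with
      commutes' := fun c => by
        show AdjoinRoot.lift ι.toRingHom (s * y) hroot (AdjoinRoot.of f (algebraMap B R c)) = _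
        rw [AdjoinRoot.lift_of]
        exact ι.commutes c }
  have hφ : Function.Injective φ :=
    injective_root_lift p (algebraMap T R b) D₁ hD₁ ι.toRingHom hι (s * y) hroot
  have hle : T ≤ φ.range := fun x hx => ⟨AdjoinRoot.of f (algebraMap T R ⟨x, hx⟩), by
    show AdjoinRoot.lift ι.toRingHom (s * y) hroot _ = x
    rw [AdjoinRoot.lift_of]
    exact hιT ⟨x, hx⟩⟩
  refine ⟨φ.range, hle, good_range p henS φ hφ, s * y, ⟨AdjoinRoot.root f, ?_⟩, s, hle hs, hs0, rfl⟩
  show AdjoinRoot.lift ι.toRingHom (s * y) hroot _ = s * y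
  rw [AdjoinRoot.lift_root]

omit [IsDomain B] in
/-- Adjoining iterated roots. -/
theorem exists_good_roots [Fact p.Prime] [CharP Ω p] (S : Finset Ω) (T : Subalgebra B Ω) (hT : Good p T)
    (hS : ∀ y ∈ S, ∃ m : ℕ, InFrac T (y ^ p ^ m)) : ∃ T', T ≤ T' ∧ Good p T' ∧ ∀ y ∈ S, InFrac T' y := by
  classical
  have key : ∀ (m : ℕ) (T : Subalgebra B Ω), Good p T → ∀ y, InFrac T (y ^ p ^ m) →
      ∃ T', T ≤ T' ∧ Good p T' ∧ InFrac T' y := by
    intro m
    induction m with
    | zero => intro T hT y hy; exact ⟨T, le_rfl, hT, by simpa using hy⟩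
    | succ m ih =>
      intro T hT y hy
      rw [pow_succ', pow_mul] at hy
      obtain ⟨T₁, h1, hT₁, hy₁⟩ := ih T hT (y ^ p) hy
      obtain ⟨T₂, h2, hT₂, hy₂⟩ := exists_good_root p T₁ hT₁ y hy₁
      exact ⟨T₂, h1.trans h2, hT₂, hy₂⟩
  induction S using Finset.induction_on with
  | empty => exact ⟨T, le_rfl, hT, by simp⟩
  | insert y S hy ih =>
    obtain ⟨T₁, h1, hT₁, hS₁⟩ := ih fun z hz => hS z (Finset.mem_insert_of_mem hz)
    obtain ⟨m, hm⟩ := hS y (Finset.mem_insert_self y S)
    obtain ⟨T₂, h2, hT₂, hy₂⟩ := key m T₁ hT₁ y (hm.mono h1)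
    refine ⟨T₂, h1.trans h2, hT₂, fun z hz => ?_⟩
    rcases Finset.mem_insert.mp hz with rfl | hz
    · exact hy₂
    · exact (hS₁ z hz).mono h2

/-- A finite domain over a regular ring with enough derivations is J-0. -/
theorem j0_of_enoughDer [IsNoetherianRing B] [IsRegularRing B] [Fact p.Prime] [CharP B p] (hB : EnoughDer p B)
    (A : Type u) [CommRing A] [IsDomain A] [Algebra B A] [Module.Finite B A] [FaithfulSMul B A] :
    RegLoc6.J0 A := by
  classical
  let Ω := AlgebraicClosure (FractionRing A)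
  have hAΩ : Function.Injective (algebraMap A Ω) := by
    rw [IsScalarTower.algebraMap_eq A (FractionRing A) Ω]
    exact (algebraMap (FractionRing A) Ω).injective.comp (IsFractionRing.injective A _)
  have hBΩ : Function.Injective (algebraMap B Ω) := by
    rw [IsScalarTower.algebraMap_eq B A Ω]
    exact hAΩ.comp (FaithfulSMul.algebraMap_injective B A)
  haveI : CharP Ω p := charP_of_injective_algebraMap hBΩ p
  haveI : FaithfulSMul B Ω := (faithfulSMul_iff_algebraMap_injective B Ω).mpr hBΩ
  let K := FractionRing B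
  letI : Algebra K Ω := (IsFractionRing.lift (g := algebraMap B Ω) hBΩ).toAlgebra
  haveI : IsScalarTower B K Ω := IsScalarTower.of_algebraMap_eq fun x =>
    (IsFractionRing.lift_algebraMap (g := algebraMap B Ω) hBΩ x).symm
  haveI : CharP K p := charP_of_injective_algebraMap (IsFractionRing.injective B K) p
  haveI : ExpChar K p := .prime Fact.out
  haveI : ExpChar Ω p := .prime Fact.out
  obtain ⟨G, hG⟩ := Algebra.FiniteType.out (R := B) (A := A)
  have hdata : ∀ g : A, ∃ (m : ℕ) (h₁ : Polynomial Ω), h₁.Separable ∧ h₁.eval (algebraMap A Ω g) = 0 ∧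
      ∀ i, ∃ x : K, (h₁.coeff i) ^ p ^ m = algebraMap K Ω x := by
    intro g
    have hint : IsIntegral K (algebraMap A Ω g) :=
      ((Algebra.IsIntegral.isIntegral (R := B) g).map (IsScalarTower.toAlgHom B A Ω)).tower_top
    obtain ⟨h₀, hsep, m, hexp⟩ := (minpoly.irreducible hint).hasSeparableContraction p
    have hF := (iterateFrobenius Ω p m)
    obtain ⟨h₁, hh₁⟩ : ∃ h₁ : Polynomial Ω, h₁.map (iterateFrobenius Ω p m) = h₀.map (algebraMap K Ω) :=
      Polynomial.map_surjective _ (fun z => by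
        obtain ⟨w, hw⟩ := IsAlgClosed.exists_pow_nat_eq z (pow_pos (Fact.out : p.Prime).pos m)
        exact ⟨w, by rw [iterateFrobenius_def, hw]⟩) _
    refine ⟨m, h₁, (Polynomial.separable_map (iterateFrobenius Ω p m)).mp
      (hh₁ ▸ (Polynomial.separable_map (algebraMap K Ω)).mpr hsep), ?_, fun i => ⟨h₀.coeff i, ?_⟩⟩
    · refine iterateFrobenius_inj Ω p m ?_
      rw [map_zero, ← Polynomial.eval₂_at_apply, ← Polynomial.eval_map, hh₁, iterateFrobenius_def,
        Polynomial.eval_map, ← Polynomial.aeval_def, ← Polynomial.expand_aeval, hexp, minpoly.aeval]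
    · have := congrArg (fun q : Polynomial Ω => q.coeff i) hh₁
      simp only [Polynomial.coeff_map] at this
      rwa [iterateFrobenius_def] at this
  choose m h₁ hsep hroot hcoef using hdata
  let S : Finset Ω := G.biUnion fun g => (h₁ g).support.image (h₁ g).coeff
  have h0 : Good p (Algebra.ofId B Ω).range := good_range p hB (Algebra.ofId B Ω) hBΩ
  obtain ⟨T, -, hT, hTS⟩ := exists_good_roots p S _ h0 (fun y hy => by
    obtain ⟨g, -, hy⟩ := Finset.mem_biUnion.mp hy
    obtain ⟨i, -, rfl⟩ := Finset.mem_image.mp hy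
    obtain ⟨x, hx⟩ := hcoef g i
    obtain ⟨⟨a, s⟩, hx'⟩ := IsLocalization.surj (nonZeroDivisors B) x
    refine ⟨m g, algebraMap B Ω a, ⟨a, rfl⟩, algebraMap B Ω s, ⟨s, rfl⟩,
      (map_ne_zero_iff _ hBΩ).mpr (nonZeroDivisors.coe_ne_zero s), ?_⟩
    rw [hx, IsScalarTower.algebraMap_apply B K Ω a, ← hx', map_mul, mul_comm, ← IsScalarTower.algebraMap_apply])
  haveI := hT.1
  haveI := hT.2.1
  haveI : FaithfulSMul T Ω := (faithfulSMul_iff_algebraMap_injective T Ω).mpr Subtype.val_injective
  refine RegLoc6.J0.descend (A := B) (B := T) (T := A) (Ω := Ω) hAΩ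
    ⟨1, one_ne_zero, fun Q _ _ => IsRegularRing.isRegularLocalRing_localization Q⟩ G hG fun g hg => ?_
  let j : FractionRing T →+* Ω := IsFractionRing.lift (FaithfulSMul.algebraMap_injective T Ω)
  obtain ⟨h, hh⟩ : ∃ h : (FractionRing T)[X], h.map j = h₁ g := by
    refine (Polynomial.mem_lifts _).mp ((Polynomial.lifts_iff_coeff_lifts _).mpr fun i => ?_)
    by_cases hi : i ∈ (h₁ g).support
    · obtain ⟨a, ha, s, hs, hs0, hsy⟩ := hTS _ (Finset.mem_biUnion.mpr ⟨g, hg, Finset.mem_image.mpr ⟨i, hi, rfl⟩⟩)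
      refine ⟨algebraMap T (FractionRing T) ⟨a, ha⟩ / algebraMap T (FractionRing T) ⟨s, hs⟩, ?_⟩
      rw [map_div₀, IsFractionRing.lift_algebraMap, IsFractionRing.lift_algebraMap]
      show a / s = _
      rw [← hsy, mul_div_cancel_left₀ _ hs0]
    · exact ⟨0, by rw [map_zero, Polynomial.notMem_support_iff.mp hi]⟩
  refine ⟨h, (Polynomial.separable_map j).mp (hh ▸ hsep g), ?_⟩
  show Polynomial.eval₂ j _ h = 0
  rw [← Polynomial.eval_map, hh]
  exact hroot g

end Groth.Agent.CplFib6
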