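import Groth.Agent.CplFib6.PSDeriv
import Groth.Agent.CplFib6.RegTower
import Groth.Agent.CplFib6.QuotReg
import Groth.Agent.CplFib6.Quot
import Groth.Agent.CompleteNagata.Complete
import Groth.Agent.RegLoc6.J2Crit

/-!
# Complete local rings are J-2
-/

namespace Groth.Agent.CplFib6

universe u

open IsLocalRing

attribute [local instance 10000] Ring.toIntAlgebra

/-- A finite domain over a characteristic zero regular domain is J-0. -/
theorem j0_of_charZero (B : Type u) [CommRing B] [IsDomain B] [IsNoetherianRing B] [IsRegularRing B] [CharZero B]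
    (A : Type u) [CommRing A] [IsDomain A] [Algebra B A] [Module.Finite B A] [FaithfulSMul B A] :
    RegLoc6.J0 A := by
  haveI : Algebra.IsIntegral B A := Algebra.IsIntegral.of_finite B A
  letI := FractionRing.liftAlgebra B (FractionRing A)
  haveI : CharZero (FractionRing B) := charZero_of_injective_algebraMap (IsFractionRing.injective B (FractionRing B))
  haveI : Algebra.IsAlgebraic B A := Algebra.IsIntegral.isAlgebraic
  haveI : Algebra.IsAlgebraic (FractionRing B) (FractionRing A) :=
    (IsFractionRing.isAlgebraic_iff' B A (FractionRing A)).mp inferInstance |> fun h => by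
      haveI := h
      exact (IsFractionRing.comap_isAlgebraic_iff (K := FractionRing B)).mp h
  haveI : Algebra.IsSeparable (FractionRing B) (FractionRing A) := Algebra.IsAlgebraic.isSeparable_of_perfectField
  exact RegLoc6.J0.of_separable (B := B) ⟨1, one_ne_zero, fun Q _ _ => inferInstance⟩

/-- A finite domain over a complete local domain is J-0. -/
theorem j0_of_complete (R : Type u) [CommRing R] [IsDomain R] [IsLocalRing R] [IsNoetherianRing R]
    [IsAdicComplete (maximalIdeal R) R] (A : Type u) [CommRing A] [IsDomain A] [Algebra R A] [Module.Finite R A]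
    [FaithfulSMul R A] : RegLoc6.J0 A := by
  obtain ⟨Λ, _, n, f, hΛ, hf, hfin, -⟩ := CohenLib.exists_finite_injective R
  haveI : IsDomain (MvPowerSeries (Fin n) Λ) := hf.isDomain
  obtain ⟨hN, hreg, -⟩ := CohenLib.isRegular_complete_mvPowerSeries hΛ n
  haveI := hN
  haveI := hreg
  haveI := isRegularRing_of_local (MvPowerSeries (Fin n) Λ)
  letI : Algebra (MvPowerSeries (Fin n) Λ) R := f.toAlgebra
  letI : Algebra (MvPowerSeries (Fin n) Λ) A := ((algebraMap R A).comp f).toAlgebra
  haveI : IsScalarTower (MvPowerSeries (Fin n) Λ) R A := IsScalarTower.of_algebraMap_eq fun _ => rfl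
  haveI : Module.Finite (MvPowerSeries (Fin n) Λ) R := hfin
  haveI : Module.Finite (MvPowerSeries (Fin n) Λ) A := Module.Finite.trans R A
  haveI : FaithfulSMul (MvPowerSeries (Fin n) Λ) A :=
    (faithfulSMul_iff_algebraMap_injective _ A).mpr ((FaithfulSMul.algebraMap_injective R A).comp hf)
  rcases hΛ with hF | hC
  · let := hF.toField
    obtain ⟨c, hc⟩ := CharP.exists Λ
    rcases CharP.char_is_prime_or_zero Λ c with hcp | rfl
    · haveI : Fact c.Prime := ⟨hcp⟩
      haveI : CharP (MvPowerSeries (Fin n) Λ) c := charP_of_injective_ringHom MvPowerSeries.C_injective c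
      exact j0_of_enoughDer c (enoughDer_mvPowerSeries Λ c n) A
    · haveI := CharP.charP_to_charZero Λ
      haveI : CharZero (MvPowerSeries (Fin n) Λ) := charZero_of_injective_ringHom MvPowerSeries.C_injective
      exact j0_of_charZero (MvPowerSeries (Fin n) Λ) A
  · obtain ⟨_, _, -, p, hp, hm⟩ := hC
    haveI : CharZero Λ := by
      obtain ⟨c, hc⟩ := CharP.exists Λ
      rcases CharP.char_is_prime_or_zero Λ c with hcp | rfl
      · exfalso
        refine IsDiscreteValuationRing.not_a_field Λ ?_
        rw [hm, Ideal.span_singleton_eq_bot]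
        by_contra hp0
        rcases eq_or_ne c p with rfl | hne
        · exact hp0 (CharP.cast_eq_zero Λ c)
        have hco : IsCoprime (c : ℤ) (p : ℤ) :=
          Nat.isCoprime_iff_coprime.mpr ((Nat.coprime_primes hcp hp).mpr hne)
        obtain ⟨a, b, hab⟩ := hco
        have h1 : (p : Λ) ∈ maximalIdeal Λ := hm ▸ Ideal.subset_span rfl
        refine (maximalIdeal.isMaximal Λ).ne_top ((Ideal.eq_top_iff_one _).mpr ?_)
        have h2 := congrArg (Int.cast : ℤ → Λ) hab
        push_cast at h2
        rw [CharP.cast_eq_zero, mul_zero, zero_add] at h2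
        exact h2 ▸ Ideal.mul_mem_left _ _ h1
      · exact CharP.charP_to_charZero Λ
    haveI : CharZero (MvPowerSeries (Fin n) Λ) := charZero_of_injective_ringHom MvPowerSeries.C_injective
    exact j0_of_charZero (MvPowerSeries (Fin n) Λ) A

/-- Complete Noetherian local rings are J-2. -/
theorem isOpen_regular_of_complete (A : Type u) [CommRing A] [IsLocalRing A] [IsNoetherianRing A]
    [IsAdicComplete (maximalIdeal A) A] (S : Type u) [CommRing S] [Algebra A S] [Algebra.FiniteType A S] :
    IsOpen {p : PrimeSpectrum S | IsRegularLocalRing (Localization.AtPrime p.asIdeal)} := by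
  refine RegLoc6.isOpen_regular_of_finite_j0 A (fun A' _ _ _ hfin => ?_) S
  haveI := hfin
  let P := RingHom.ker (algebraMap A A')
  haveI : P.IsPrime := RingHom.ker_isPrime _
  haveI : IsLocalRing (A ⧸ P) := IsLocalRing.of_surjective' (Ideal.Quotient.mk P) Ideal.Quotient.mk_surjective
  haveI := isAdicComplete_quot P
  letI : Algebra (A ⧸ P) A' := (RingHom.kerLift (algebraMap A A')).toAlgebra
  haveI : IsScalarTower A (A ⧸ P) A' := IsScalarTower.of_algebraMap_eq fun _ => rfl
  haveI : Module.Finite (A ⧸ P) A' := Module.Finite.of_restrictScalars_finite A _ _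
  haveI : FaithfulSMul (A ⧸ P) A' := (faithfulSMul_iff_algebraMap_injective _ A').mpr (RingHom.kerLift_injective _)
  exact j0_of_complete (A ⧸ P) A'

end Groth.Agent.CplFib6
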