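import Groth.Agent.CplFib6.DerivTower

/-!
# Enough derivations extending along a ring map
-/

namespace Groth.Agent.CplFib6

universe u

open Polynomial

attribute [local instance 10000] Ring.toIntAlgebra

/-- A derivation extends along a ring map. -/
def Ext {S U : Type u} [CommRing S] [CommRing U] (φ : S →+* U) (D : Derivation ℤ S S) : Prop :=
  ∃ E : DerZ U, ∀ x, E (φ x) = φ (D x)

/-- Enough derivations extending along a ring map. -/
def EnoughExt (p : ℕ) {S U : Type u} [CommRing S] [CommRing U] (φ : S →+* U) : Prop :=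
  ∀ c : S, (∀ D : Derivation ℤ S S, Ext φ D → D c = 0) → ∃ s : S, s ≠ 0 ∧ ∃ a : S, s ^ p * c = a ^ p

section Ext

variable {S U : Type u} [CommRing S] [CommRing U] {φ : S →+* U} {D D₁ : Derivation ℤ S S}

theorem Ext.smul (h : Ext φ D) (a : S) : Ext φ (a • D) := by
  obtain ⟨E, hE⟩ := h
  exact ⟨φ a • E, fun x => by simp [hE]⟩

theorem Ext.sub (h : Ext φ D) (h₁ : Ext φ D₁) : Ext φ (D - D₁) := by
  obtain ⟨E, hE⟩ := h
  obtain ⟨E₁, hE₁⟩ := h₁
  exact ⟨E - E₁, fun x => by simp [hE, hE₁]⟩

theorem Ext.commutator (h : Ext φ D) (h₁ : Ext φ D₁) : Ext φ ⁅D, D₁⁆ := by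
  obtain ⟨E, hE⟩ := h
  obtain ⟨E₁, hE₁⟩ := h₁
  exact ⟨⁅E, E₁⁆, fun x => by simp [Derivation.commutator_apply, hE, hE₁]⟩

theorem Ext.iterate (h : Ext φ D) (p : ℕ) [Fact p.Prime] [CharP S p] {D' : Derivation ℤ S S}
    (hD' : ∀ x, D' x = (⇑D)^[p] x) : Ext φ D' := by
  obtain ⟨E, hE⟩ := h
  rcases subsingleton_or_nontrivial U with hU | hU
  · exact ⟨0, fun x => Subsingleton.elim _ _⟩
  haveI : CharP U p := (CharP.charP_iff_prime_eq_zero (Fact.out : p.Prime)).mpr (by
    rw [← map_natCast φ, CharP.cast_eq_zero, map_zero])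
  obtain ⟨E', hE'⟩ := exists_derivation_iterate p E
  have key : ∀ (n : ℕ) (x : S), (⇑E)^[n] (φ x) = φ ((⇑D)^[n] x) := by
    intro n
    induction n with
    | zero => exact fun x => rfl
    | succ n ih => intro x; rw [Function.iterate_succ_apply', ih, hE, Function.iterate_succ_apply']
  exact ⟨E', fun x => by rw [hE', key, hD']⟩

/-- The elements where two derivations agree form a subring. -/
def agreeSubring (φ : S →+* U) (D : Derivation ℤ S S) (E : Derivation ℤ U U) : Subring S where
  carrier := {x | E (φ x) = φ (D x)}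
  mul_mem' {x y} hx hy := by
    simp only [Set.mem_ofPred_eq] at hx hy ⊢
    simp [map_mul, Derivation.leibniz, hx, hy]
  one_mem' := by simp
  add_mem' {x y} hx hy := by
    simp only [Set.mem_ofPred_eq] at hx hy ⊢
    simp [map_add, hx, hy]
  zero_mem' := by simp
  neg_mem' {x} hx := by
    simp only [Set.mem_ofPred_eq] at hx ⊢
    simp [map_neg, hx]

/-- Transport along an isomorphism of the target. -/
theorem EnoughExt.congr {p : ℕ} {U' : Type u} [CommRing U'] (h : EnoughExt p φ) (e : U ≃+* U')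
    (φ' : S →+* U') (hφ : ∀ x, e (φ x) = φ' x) : EnoughExt p φ' := by
  refine fun c hc => h c fun D hD => hc D ?_
  obtain ⟨E, hE⟩ := hD
  let ψ : U' →+ U' := (e.toAddMonoidHom.comp E.toLinearMap.toAddMonoidHom).comp e.symm.toAddMonoidHom
  refine ⟨Derivation.mk' ψ.toIntLinearMap fun x y => ?_, fun x => ?_⟩
  · show e (E (e.symm (x * y))) = x • e (E (e.symm y)) + y • e (E (e.symm x))
    simp [Derivation.leibniz]
  · show e (E (e.symm (φ' x))) = φ' (D x)
    rw [← hφ, e.symm_apply_apply, hE, hφ]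

end Ext

/-- Enough derivations pass to localizations. -/
theorem enoughExt_away {T U : Type u} [CommRing T] [IsDomain T] [CommRing U] (p : ℕ) [CharP T p] (hp : 0 < p)
    (φ : T →+* U) (h : EnoughExt p φ) (e : T) (he : e ≠ 0) (U' : Type u) [CommRing U'] [Algebra U U']
    [IsLocalization ((Submonoid.powers e).map φ) U'] (φ' : Localization.Away e →+* U')
    (hφ' : ∀ x, φ' (algebraMap T (Localization.Away e) x) = algebraMap U U' (φ x)) :
    EnoughExt p φ' := by
  intro c hc
  obtain ⟨a, ⟨_, n, rfl⟩, rfl⟩ := IsLocalization.exists_mk'_eq (Submonoid.powers e) c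
  have hinj : Function.Injective (algebraMap T (Localization.Away e)) :=
    IsLocalization.injective _ (powers_le_nonZeroDivisors_of_noZeroDivisors he)
  haveI : CharP (Localization.Away e) p := charP_of_injective_algebraMap hinj p
  set z := IsLocalization.mk' (Localization.Away e) a (⟨e ^ n, n, rfl⟩ : Submonoid.powers e)
  have hz : algebraMap T (Localization.Away e) ((e ^ n) ^ (p - 1) * a) =
      algebraMap T (Localization.Away e) (e ^ n) ^ p * z := by
    rw [map_mul, map_pow _ (e ^ n) (p - 1), ← IsLocalization.mk'_spec' (Localization.Away e) a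
      (⟨e ^ n, n, rfl⟩ : Submonoid.powers e), ← mul_assoc, ← pow_succ, Nat.sub_add_cancel hp]
  obtain ⟨s, hs, a', ha'⟩ := h ((e ^ n) ^ (p - 1) * a) fun D hD => by
    obtain ⟨D', hD'⟩ := exists_derivation_localization (S := Localization.Away e) (Submonoid.powers e) D
    obtain ⟨E, hE⟩ := hD
    obtain ⟨E', hE'⟩ := exists_derivation_localization (S := U') ((Submonoid.powers e).map φ) E
    have hext : Ext φ' D' := by
      refine ⟨E', fun w => ?_⟩
      obtain ⟨⟨x, m⟩, hxm⟩ := IsLocalization.surj (Submonoid.powers e) w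
      have hT : ∀ t : T, E' (φ' (algebraMap T (Localization.Away e) t)) = φ' (D' (algebraMap T (Localization.Away e) t)) := fun t => by
        rw [hφ', hE', hE, hD', hφ']
      have hu : IsUnit (φ' (algebraMap T (Localization.Away e) m)) :=
        (IsLocalization.map_units (Localization.Away e) m).map φ'
      have h1 := hT x
      rw [← hxm, map_mul φ', Derivation.leibniz, Derivation.leibniz, map_add, smul_eq_mul, smul_eq_mul,
        smul_eq_mul, smul_eq_mul, map_mul, map_mul, hT m] at h1
      exact hu.mul_left_cancel (by linear_combination h1)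
    apply hinj
    refine (hD' _).symm.trans ((congrArg D' hz).trans ?_)
    rw [Derivation.leibniz, derivation_pow_char p D', hc D' hext, map_zero, smul_zero, smul_zero, add_zero]
  refine ⟨algebraMap T (Localization.Away e) (s * e ^ n), fun h0 => ?_, algebraMap T _ a', ?_⟩
  · exact mul_ne_zero hs (pow_ne_zero n he) ((map_eq_zero_iff _ hinj).mp h0)
  · rw [map_mul, mul_pow, mul_assoc, ← hz, ← map_pow, ← map_mul, ha', map_pow]

section Step

variable {T : Type u} [CommRing T] [IsDomain T] (p : ℕ) [Fact p.Prime] [CharP T p]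

/-- An element killed by the derivations killing `b` becomes a `p`th power once `b` is. -/
theorem exists_pow_of_kill_ext {U : Type u} [CommRing U] (φ : T →+* U) (h : EnoughExt p φ) (b : T)
    (D₀ : Derivation ℤ T T) (hE₀ : Ext φ D₀) (hD₀ : D₀ b = 1)
    {S : Type u} [CommRing S] [Algebra T S] (β : S) (hβ : β ^ p = algebraMap T S b)
    (c : T) (hc : ∀ D : Derivation ℤ T T, Ext φ D → D b = 0 → D c = 0) :
    ∃ s : T, s ≠ 0 ∧ ∃ d : S, algebraMap T S (s ^ p * c) = d ^ p := by
  classical
  -- being proportional to `b`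
  let P : T → Prop := fun x => ∀ D : Derivation ℤ T T, Ext φ D → D x = D b * D₀ x
  have hPc : P c := fun D hD => by
    have := hc (D - D b • D₀) (hD.sub (hE₀.smul _)) (by simp [hD₀])
    simpa [sub_eq_zero] using this
  have hPD : ∀ x, P x → P (D₀ x) := fun x hx D hD => by
    have h1 : ⁅D, D₀⁆ x = ⁅D, D₀⁆ b * D₀ x := hx _ (hD.commutator hE₀)
    rw [Derivation.commutator_apply, Derivation.commutator_apply, hx D hD, hD₀, Derivation.map_one_eq_zero,
      Derivation.leibniz, smul_eq_mul, smul_eq_mul] at h1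
    linear_combination h1
  have hPiter : ∀ (n : ℕ) (x : T), P x → P ((⇑D₀)^[n] x) := by
    intro n
    induction n with
    | zero => exact fun x hx => hx
    | succ n ih =>
      intro x hx
      rw [Function.iterate_succ_apply']
      exact hPD _ (ih x hx)
  have hPconst : ∀ a : T, P (a ^ p) := fun a D _ => by
    rw [derivation_pow_char, derivation_pow_char, mul_zero]
  have hPb : ∀ n : ℕ, P (b ^ n) := fun n D _ => by
    rw [Derivation.leibniz_pow, Derivation.leibniz_pow, hD₀, nsmul_eq_mul, nsmul_eq_mul, smul_eq_mul, smul_eq_mul]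
    ring
  have hPsub : ∀ x y, P x → P y → P (x - y) := fun x y hx hy D hD => by
    rw [map_sub, map_sub, hx D hD, hy D hD, mul_sub]
  have hPmul : ∀ a x, P x → P (a ^ p * x) := fun a x hx D hD => by
    rw [Derivation.leibniz, derivation_pow_char, Derivation.leibniz, derivation_pow_char, hx D hD]
    simp only [smul_eq_mul]
    ring
  have hlin : ∀ (a x : T) (n : ℕ), (⇑D₀)^[n] (a ^ p * x) = a ^ p * (⇑D₀)^[n] x := by
    intro a x n
    induction n with
    | zero => rfl
    | succ n ih =>
      rw [Function.iterate_succ_apply', ih, Derivation.leibniz, derivation_pow_char, smul_zero, add_zero,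
        smul_eq_mul, Function.iterate_succ_apply']
  have hbpow : ∀ n : ℕ, (⇑D₀)^[n] (b ^ n) = (n.factorial : T) := by
    intro n
    induction n with
    | zero => simp
    | succ n ih =>
      have : D₀ (b ^ (n + 1)) = (n + 1 : ℕ) • b ^ n := by
        rw [Derivation.leibniz_pow, hD₀, Nat.add_sub_cancel, smul_eq_mul, mul_one]
      rw [Function.iterate_succ_apply, this, iterate_map_nsmul, ih, nsmul_eq_mul, Nat.factorial_succ,
        Nat.cast_mul]
  suffices key : ∀ n ≤ p, ∀ x, P x → (⇑D₀)^[n] x = 0 →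
      ∃ s : T, s ≠ 0 ∧ ∃ d : S, algebraMap T S (s ^ p * x) = d ^ p by
    refine key p le_rfl c hPc ?_
    obtain ⟨D', hD'⟩ := exists_derivation_iterate p D₀
    have hb0 : D' b = 0 := by
      rw [hD', show p = p - 2 + 1 + 1 by have := (Fact.out : p.Prime).two_le; omega,
        Function.iterate_succ_apply, hD₀, Function.iterate_succ_apply, Derivation.map_one_eq_zero,
        iterate_map_zero]
    rw [← hD']
    exact hc D' (hE₀.iterate p hD') hb0
  intro n
  induction n with
  | zero =>
    intro _ x _ hx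
    rw [Function.iterate_zero_apply] at hx
    exact ⟨1, one_ne_zero, 0, by rw [hx, mul_zero, map_zero, zero_pow (Fact.out : p.Prime).ne_zero]⟩
  | succ n ih =>
    intro hn x hx h0
    set e := (⇑D₀)^[n] x with he
    have hDe : ∀ D : Derivation ℤ T T, Ext φ D → D e = 0 := fun D hD => by
      rw [hPiter n x hx D hD, show D₀ e = 0 by rw [he, ← Function.iterate_succ_apply' (⇑D₀) n x, h0], mul_zero]
    obtain ⟨s, hs, a, ha⟩ := h e hDe
    obtain ⟨m, hm⟩ : ∃ m : ℕ, ((m * n.factorial : ℕ) : ZMod p) = 1 := by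
      have hne : (n.factorial : ZMod p) ≠ 0 := by
        rw [Ne, CharP.cast_eq_zero_iff (ZMod p) p]
        intro hdvd
        exact absurd ((Nat.Prime.dvd_factorial (Fact.out : p.Prime)).mp hdvd) (by omega)
      exact ⟨((n.factorial : ZMod p)⁻¹).val, by
        rw [Nat.cast_mul, ZMod.natCast_zmod_val]
        exact ZMod.inv_mul_of_unit _ ((ZMod.isUnit_iff_coprime _ _).mpr (((Fact.out : p.Prime).coprime_iff_not_dvd.mpr fun hd => hne ((CharP.cast_eq_zero_iff (ZMod p) p _).mpr hd)).symm))⟩
    let y := s ^ p * x - (m : T) ^ p * (a ^ p * b ^ n)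
    have hy0 : (⇑D₀)^[n] y = 0 := by
      have hfac : ((m : T)) * (n.factorial : T) = 1 := by
        have := congrArg (ZMod.castHom (dvd_refl p) T) hm
        rwa [map_natCast, map_one, Nat.cast_mul] at this
      have hmp : (m : T) ^ p = m := by rw [← frobenius_def, map_natCast]
      rw [show (⇑D₀)^[n] y = (⇑D₀)^[n] (s ^ p * x) - (⇑D₀)^[n] ((m : T) ^ p * (a ^ p * b ^ n)) from
        iterate_map_sub D₀ n _ _, hlin, hlin, hlin, hbpow, ← he, ha, hmp]
      linear_combination (-(a ^ p)) * hfac
    obtain ⟨s', hs', d, hd⟩ := ih (by omega) y (hPsub _ _ (hPmul _ _ hx) (hPmul _ _ (hPmul _ _ (hPb n)))) hy0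
    refine ⟨s' * s, mul_ne_zero hs' hs,
      d + algebraMap T S (s' * (m : T) * a) * β ^ n, ?_⟩
    haveI : CharP S p ∨ Subsingleton S := by
      rcases subsingleton_or_nontrivial S with h' | h'
      · exact Or.inr h'
      · refine Or.inl ((CharP.charP_iff_prime_eq_zero (Fact.out : p.Prime)).mpr ?_)
        rw [← map_natCast (algebraMap T S), CharP.cast_eq_zero, map_zero]
    rcases this with hS | hS
    · haveI := hS
      have h1 : (algebraMap T S (s' * (m : T) * a) * β ^ n) ^ p =
          algebraMap T S ((s' * (m : T) * a) ^ p * b ^ n) := by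
        rw [mul_pow, ← pow_mul, mul_comm n p, pow_mul, hβ, map_mul (algebraMap T S) (_ ^ p) (b ^ n),
          map_pow, map_pow]
      rw [add_pow_char, ← hd, h1, ← map_add]
      congr 1
      show (s' * s) ^ p * x = s' ^ p * (s ^ p * x - (m : T) ^ p * (a ^ p * b ^ n)) + (s' * (m : T) * a) ^ p * b ^ n
      ring
    · exact Subsingleton.elim _ _

/-- Derivations extending along a map extend along its root extension. -/
theorem ext_root {T U : Type u} [CommRing T] [CommRing U] (p : ℕ) [Fact p.Prime] [CharP T p] (φ : T →+* U) (b : T)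
    (D : Derivation ℤ T T) (hD : Ext φ D) (hDb : D b = 0)
    (v : AdjoinRoot (X ^ p - C b)) (hdvd : X ^ p - C (φ b) ∣ (X ^ p - C b).map φ) :
    ∃ D' : DerZ (AdjoinRoot (X ^ p - C b)), D' (AdjoinRoot.root _) = v ∧
      (∀ a, D' (AdjoinRoot.of _ a) = AdjoinRoot.of _ (D a)) ∧
      Ext (AdjoinRoot.map φ (X ^ p - C b) (X ^ p - C (φ b)) hdvd) D' := by
  obtain ⟨D', hr, ho⟩ := exists_derivation_root p b D hDb v
  refine ⟨D', hr, ho, ?_⟩
  set ψ := AdjoinRoot.map φ (X ^ p - C b) (X ^ p - C (φ b)) hdvd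
  rcases subsingleton_or_nontrivial (AdjoinRoot (X ^ p - C (φ b))) with hU | hU
  · exact ⟨0, fun x => Subsingleton.elim _ _⟩
  haveI : Nontrivial U := (AdjoinRoot.of (X ^ p - C (φ b))).domain_nontrivial
  haveI : CharP U p := (CharP.charP_iff_prime_eq_zero (Fact.out : p.Prime)).mpr (by
    rw [← map_natCast φ, CharP.cast_eq_zero, map_zero])
  obtain ⟨E, hE⟩ := hD
  obtain ⟨E', hr', ho'⟩ := exists_derivation_root p (φ b) E (by rw [hE, hDb, map_zero]) (ψ v)
  refine ⟨E', fun x => ?_⟩
  obtain ⟨q, rfl⟩ := AdjoinRoot.mk_surjective x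
  show AdjoinRoot.mk _ q ∈ agreeSubring ψ D' E'
  induction q using Polynomial.induction_on' with
  | add q r hq hr => rw [map_add]; exact add_mem hq hr
  | monomial n a =>
    rw [← C_mul_X_pow_eq_monomial, map_mul, map_pow, AdjoinRoot.mk_C, AdjoinRoot.mk_X]
    refine mul_mem ?_ (pow_mem ?_ n)
    · show E' (ψ (AdjoinRoot.of _ a)) = ψ (D' (AdjoinRoot.of _ a))
      rw [ho, AdjoinRoot.map_of, AdjoinRoot.map_of, ho', hE]
    · show E' (ψ (AdjoinRoot.root _)) = ψ (D' (AdjoinRoot.root _))
      rw [hr, AdjoinRoot.map_root, hr']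

/-- Having enough derivations passes to a `p`th root. -/
theorem enoughExt_root {U : Type u} [CommRing U] (φ : T →+* U) (h : EnoughExt p φ) (b : T)
    (D₀ : Derivation ℤ T T) (hE₀ : Ext φ D₀) (hD₀ : D₀ b = 1)
    (hdvd : X ^ p - C (φ b) ∣ (X ^ p - C b).map φ) :
    EnoughExt p (AdjoinRoot.map φ (X ^ p - C b) (X ^ p - C (φ b)) hdvd) := by
  classical
  have hp : p.Prime := Fact.out
  have hmon : (X ^ p - C b).Monic := monic_X_pow_sub_C b hp.ne_zero
  have hdeg : (X ^ p - C b).natDegree = p := natDegree_X_pow_sub_C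
  intro c hc
  obtain ⟨g, rfl⟩ := AdjoinRoot.mk_surjective c
  obtain ⟨g, hg, hgdeg⟩ : ∃ g' : T[X], AdjoinRoot.mk (X ^ p - C b) g' = AdjoinRoot.mk (X ^ p - C b) g ∧
      g'.natDegree < p :=
    ⟨g %ₘ (X ^ p - C b), by
      rw [AdjoinRoot.mk_eq_mk]
      exact ⟨-(g /ₘ (X ^ p - C b)), by linear_combination (modByMonic_add_div g (X ^ p - C b))⟩,
      hdeg ▸ natDegree_modByMonic_lt g hmon (fun h1 => hp.ne_zero (by
        rw [← hdeg, h1, natDegree_one]))⟩
  rw [← hg] at hc ⊢
  -- the derivative with respect to the root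
  obtain ⟨D', hD'r, hD'o, hD'e⟩ := ext_root p φ b 0 ⟨0, fun x => by simp⟩ rfl (1 : AdjoinRoot (X ^ p - C b)) hdvd
  have hker : ∀ i, 1 ≤ i → g.coeff i = 0 := by
    have hder : ∀ q : T[X], D' (AdjoinRoot.mk _ q) = AdjoinRoot.mk (X ^ p - C b) (derivative q) := by
      intro q
      induction q using Polynomial.induction_on' with
      | add q r hq hr => simp only [map_add, hq, hr]
      | monomial n a =>
        rw [← C_mul_X_pow_eq_monomial, derivative_C_mul_X_pow,
          map_mul (AdjoinRoot.mk (X ^ p - C b)), map_mul (AdjoinRoot.mk (X ^ p - C b)),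
          map_pow (AdjoinRoot.mk (X ^ p - C b)), map_pow (AdjoinRoot.mk (X ^ p - C b)),
          AdjoinRoot.mk_C, AdjoinRoot.mk_X, AdjoinRoot.mk_C, Derivation.leibniz, Derivation.leibniz_pow,
          hD'r, hD'o]
        simp [smul_eq_mul, nsmul_eq_mul, mul_assoc]
    have h1 : derivative g = 0 := by
      have h2 := (hder g).symm.trans (hc D' hD'e)
      rw [AdjoinRoot.mk_eq_zero] at h2
      refine eq_zero_of_dvd_of_degree_lt h2 ?_
      refine lt_of_le_of_lt (degree_derivative_le) ?_
      rw [degree_X_pow_sub_C hp.pos]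
      exact degree_le_natDegree.trans_lt (by exact_mod_cast hgdeg)
    intro i hi
    by_cases hip : p ≤ i
    · exact coeff_eq_zero_of_natDegree_lt (lt_of_lt_of_le hgdeg hip)
    have h3 := congrArg (fun q : T[X] => q.coeff (i - 1)) h1
    simp only [coeff_derivative, coeff_zero] at h3
    rw [Nat.sub_add_cancel hi] at h3
    refine (mul_eq_zero.mp h3).resolve_right fun h0 => ?_
    have h4 : ((i : ℕ) : T) = 0 := by
      rw [← h0, show ((i - 1 : ℕ) : T) + 1 = ((i - 1 + 1 : ℕ) : T) by push_cast; ring, Nat.sub_add_cancel hi]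
    rw [CharP.cast_eq_zero_iff T p] at h4
    exact hip (Nat.le_of_dvd (by omega) h4)
  have hg0 : g = C (g.coeff 0) := by
    ext i
    rcases Nat.eq_zero_or_pos i with rfl | hi
    · rw [coeff_C_zero]
    · rw [hker i hi, coeff_C_ne_zero (by omega)]
  have hgC : AdjoinRoot.mk (X ^ p - C b) g = AdjoinRoot.of _ (g.coeff 0) :=
    (congrArg (AdjoinRoot.mk (X ^ p - C b)) hg0).trans (AdjoinRoot.mk_C _)
  have hinj : Function.Injective (AdjoinRoot.of (X ^ p - C b)) := AdjoinRoot.of.injective_of_degree_ne_zero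
    (by rw [degree_X_pow_sub_C hp.pos]; exact_mod_cast hp.ne_zero)
  obtain ⟨s, hs, d, hd⟩ := exists_pow_of_kill_ext p φ h b D₀ hE₀ hD₀ (S := AdjoinRoot (X ^ p - C b))
    (AdjoinRoot.root _) (root_pow_eq p b) (g.coeff 0) fun D hDe hD => by
      obtain ⟨E, -, hE, hEe⟩ := ext_root p φ b D hDe hD 0 hdvd
      refine hinj ?_
      rw [map_zero, ← hE]
      exact (congrArg E hgC.symm).trans (hc E hEe)
  refine ⟨AdjoinRoot.of _ s, (map_ne_zero_iff _ hinj).mpr hs, d, ?_⟩
  rw [hgC, ← map_pow, ← map_mul]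
  exact hd


end Step

/-- A root extension of a regular ring along a derivation is regular. -/
theorem isRegularRing_root_ext {T : Type u} [CommRing T] (p : ℕ) [IsRegularRing T] (b : T) (D₀ : Derivation ℤ T T) (hD₀ : D₀ b = 1) :
    IsRegularRing (AdjoinRoot (X ^ p - C b)) := by
  set f : T[X] := X ^ p - C b with hf
  show IsRegularRing (T[X] ⧸ Ideal.span {f})
  haveI : IsNoetherianRing (T[X] ⧸ Ideal.span {f}) := inferInstance
  refine { isRegularLocalRing_localization := fun Q _ => ?_ }
  let P : Ideal T[X] := Q.comap (Ideal.Quotient.mk (Ideal.span {f}))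
  haveI : P.IsPrime := Ideal.comap_isPrime _ _
  have hfP : f ∈ P := by
    rw [Ideal.mem_comap, Ideal.Quotient.eq_zero_iff_mem.mpr (Ideal.mem_span_singleton_self f)]
    exact Q.zero_mem
  obtain ⟨e⟩ := RegLoc6.exists_quotLocalEquiv (Ideal.span {f}) P Q rfl
  haveI : IsRegularLocalRing (Localization.AtPrime P) := IsRegularRing.isRegularLocalRing_localization P
  obtain ⟨D', hX, hC⟩ := exists_derivation_polynomial D₀
  have hDf : D' f = -1 := by
    rw [hf, map_sub, Derivation.leibniz_pow, hX, smul_zero, smul_zero, hC, hD₀, map_one, zero_sub]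
  have hsq : algebraMap T[X] (Localization.AtPrime P) f ∉
      IsLocalRing.maximalIdeal (Localization.AtPrime P) ^ 2 := by
    intro hmem
    rw [← Localization.AtPrime.map_eq_maximalIdeal, ← Ideal.map_pow,
      IsLocalization.algebraMap_mem_map_algebraMap_iff P.primeCompl] at hmem
    obtain ⟨s, hs, hsf⟩ := hmem
    have hDP : ∀ z ∈ P ^ 2, D' z ∈ P := by
      intro z hz
      rw [pow_two] at hz
      refine Submodule.mul_induction_on hz (fun x hx y hy => ?_) fun x y hx hy => by
        rw [map_add]; exact add_mem hx hy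
      rw [Derivation.leibniz]
      exact add_mem (P.mul_mem_right _ hx) (P.mul_mem_right _ hy)
    have h1 := hDP _ hsf
    rw [Derivation.leibniz, hDf, smul_eq_mul, smul_eq_mul] at h1
    refine hs ?_
    have h2 := sub_mem (P.mul_mem_right (D' s) hfP) h1
    simpa using h2
  haveI := (RegLoc6.isRegularLocalRing_quot_and (by
    rw [← Localization.AtPrime.map_eq_maximalIdeal]; exact Ideal.mem_map_of_mem _ hfP) hsq).1
  exact IsRegularLocalRing.of_ringEquiv ((Ideal.quotEquivOfEq (by rw [Ideal.map_span, Set.image_singleton])).trans e)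

end Groth.Agent.CplFib6
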