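import Groth.Agent.RegLoc6.Open
import Groth.Agent.RegLoc6.Basic
import Mathlib.RingTheory.Derivation.Lie
import Mathlib.Algebra.CharP.Lemmas
import Mathlib.Algebra.CharP.Algebra
import Mathlib.Data.Nat.Prime.Factorial
import Mathlib.Algebra.TrivSqZeroExt.Basic
import Mathlib.RingTheory.AdjoinRoot
import Mathlib.FieldTheory.KummerPolynomial
import Mathlib.RingTheory.RegularLocalRing.Polynomial

/-!
# Rings with enough derivations
-/

namespace Groth.Agent.CplFib6

universe u

open Polynomial

attribute [local instance 10000] Ring.toIntAlgebra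

/-- Absolute derivations of a ring. -/
abbrev DerZ (T : Type u) [CommRing T] := Derivation ℤ T T

/-- An element killed by all derivations is a `p`th power in the fraction field. -/
def EnoughDer (p : ℕ) (T : Type u) [CommRing T] : Prop :=
  ∀ c : T, (∀ D : Derivation ℤ T T, D c = 0) → ∃ s : T, s ≠ 0 ∧ ∃ a : T, s ^ p * c = a ^ p

/-- A section of the projection from dual numbers is a derivation. -/
theorem exists_derivation_of_hom {S : Type u} [CommRing S] (χ : S →+* TrivSqZeroExt S S)
    (h : ∀ x, (χ x).fst = x) : ∃ D : Derivation ℤ S S, ∀ x, D x = (χ x).snd := by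
  refine ⟨Derivation.mk' ((TrivSqZeroExt.sndHom S S).toAddMonoidHom.comp χ.toAddMonoidHom).toIntLinearMap
    fun a b => ?_, fun x => rfl⟩
  show (χ (a * b)).snd = a • (χ b).snd + b • (χ a).snd
  rw [map_mul, TrivSqZeroExt.snd_mul, h, h, op_smul_eq_smul]

/-- The ring map attached to a derivation. -/
def homOfDerivation {T S : Type u} [CommRing T] [CommRing S] (f : T →+* S) (D : Derivation ℤ T T) :
    T →+* TrivSqZeroExt S S where
  toFun a := TrivSqZeroExt.inl (f a) + TrivSqZeroExt.inr (f (D a))
  map_one' := by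
    rw [map_one, Derivation.map_one_eq_zero, map_zero, TrivSqZeroExt.inr_zero, add_zero, TrivSqZeroExt.inl_one]
  map_zero' := by simp
  map_add' a b := by rw [map_add, TrivSqZeroExt.inl_add, map_add, map_add, TrivSqZeroExt.inr_add]; abel
  map_mul' a b := by
    refine TrivSqZeroExt.ext ?_ ?_
    · simp
    · simp [Derivation.leibniz]
      ring

@[simp] theorem fst_homOfDerivation {T S : Type u} [CommRing T] [CommRing S] (f : T →+* S)
    (D : Derivation ℤ T T) (a : T) : (homOfDerivation f D a).fst = f a := by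
  simp [homOfDerivation]

@[simp] theorem snd_homOfDerivation {T S : Type u} [CommRing T] [CommRing S] (f : T →+* S)
    (D : Derivation ℤ T T) (a : T) : (homOfDerivation f D a).snd = f (D a) := by
  simp [homOfDerivation]

/-- Derivations extend to localizations. -/
theorem exists_derivation_localization {T S : Type u} [CommRing T] [CommRing S] [Algebra T S]
    (M : Submonoid T) [IsLocalization M S] (D : Derivation ℤ T T) :
    ∃ D' : DerZ S, ∀ a, D' (algebraMap T S a) = algebraMap T S (D a) := by
  let ψ := homOfDerivation (algebraMap T S) D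
  have hu : ∀ m : M, IsUnit (ψ m) := fun m => by
    rw [TrivSqZeroExt.isUnit_iff_isUnit_fst, fst_homOfDerivation]
    exact IsLocalization.map_units S m
  let χ : S →+* TrivSqZeroExt S S := IsLocalization.lift hu
  have h : ∀ x, (χ x).fst = x := by
    intro x
    have : ((TrivSqZeroExt.fstHom S S S).toRingHom.comp χ) = RingHom.id S :=
      IsLocalization.ringHom_ext M (RingHom.ext fun a => by
        show (χ (algebraMap T S a)).fst = algebraMap T S a
        rw [IsLocalization.lift_eq, fst_homOfDerivation])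
    exact RingHom.congr_fun this x
  obtain ⟨D', hD'⟩ := exists_derivation_of_hom χ h
  exact ⟨D', fun a => by rw [hD', IsLocalization.lift_eq, snd_homOfDerivation]⟩

/-- Derivations extend to polynomials. -/
theorem exists_derivation_polynomial {T : Type u} [CommRing T] (D : Derivation ℤ T T) :
    ∃ D' : DerZ T[X], D' X = 0 ∧ ∀ a, D' (C a) = C (D a) := by
  let χ : T[X] →+* TrivSqZeroExt T[X] T[X] :=
    Polynomial.eval₂RingHom (homOfDerivation C D) (TrivSqZeroExt.inl X)
  have h : ∀ x, (χ x).fst = x := by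
    intro x
    have : ((TrivSqZeroExt.fstHom T[X] T[X] T[X]).toRingHom.comp χ) = RingHom.id T[X] :=
      Polynomial.ringHom_ext (fun a => by
        show (χ (C a)).fst = C a
        simp [χ]) (by
        show (χ X).fst = X
        simp [χ])
    exact RingHom.congr_fun this x
  obtain ⟨D', hD'⟩ := exists_derivation_of_hom χ h
  exact ⟨D', (hD' X).trans (by simp [χ]), fun a => (hD' (C a)).trans (by simp [χ])⟩

/-- Derivations extend to a `p`th root with prescribed value. -/
theorem exists_derivation_root {T : Type u} [CommRing T] (p : ℕ) [CharP T p] (b : T) (D : Derivation ℤ T T)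
    (hDb : D b = 0) (v₀ : AdjoinRoot (X ^ p - C b)) :
    ∃ D' : DerZ (AdjoinRoot (X ^ p - C b)),
      D' (AdjoinRoot.root _) = v₀ ∧ ∀ a, D' (AdjoinRoot.of _ a) = AdjoinRoot.of _ (D a) := by
  let f : T[X] := X ^ p - C b
  let e : TrivSqZeroExt (AdjoinRoot f) (AdjoinRoot f) :=
    TrivSqZeroExt.inl (AdjoinRoot.root f) + TrivSqZeroExt.inr v₀
  have hroot : (AdjoinRoot.root f) ^ p = AdjoinRoot.of f b := by
    have : Polynomial.eval₂ (AdjoinRoot.of f) (AdjoinRoot.root f) (X ^ p - C b) = 0 := AdjoinRoot.eval₂_root f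
    rwa [Polynomial.eval₂_sub, Polynomial.eval₂_X_pow, Polynomial.eval₂_C, sub_eq_zero] at this
  have hp0 : (p : AdjoinRoot f) = 0 := by
    rw [← map_natCast (AdjoinRoot.of f), CharP.cast_eq_zero, map_zero]
  have he : Polynomial.eval₂ (homOfDerivation (AdjoinRoot.of f) D) e f = 0 := by
    show Polynomial.eval₂ _ e (X ^ p - C b) = 0
    rw [Polynomial.eval₂_sub, Polynomial.eval₂_X_pow, Polynomial.eval₂_C, sub_eq_zero]
    refine TrivSqZeroExt.ext ?_ ?_
    · simp [e, hroot]
    · rw [TrivSqZeroExt.snd_pow, snd_homOfDerivation, hDb, map_zero, nsmul_eq_mul, hp0, zero_mul]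
  let χ : AdjoinRoot f →+* TrivSqZeroExt (AdjoinRoot f) (AdjoinRoot f) := AdjoinRoot.lift _ e he
  have h : ∀ x, (χ x).fst = x := by
    intro x
    have : ((TrivSqZeroExt.fstHom (AdjoinRoot f) (AdjoinRoot f) (AdjoinRoot f)).toRingHom.comp χ).comp
        (AdjoinRoot.mk f) = AdjoinRoot.mk f :=
      Polynomial.ringHom_ext (fun a => by
        show (χ (AdjoinRoot.mk f (C a))).fst = AdjoinRoot.mk f (C a)
        simp [χ]) (by
        show (χ (AdjoinRoot.mk f X)).fst = AdjoinRoot.mk f X
        simp [χ, e])
    obtain ⟨q, rfl⟩ := AdjoinRoot.mk_surjective x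
    exact RingHom.congr_fun this q
  obtain ⟨D', hD'⟩ := exists_derivation_of_hom χ h
  exact ⟨D', (hD' (AdjoinRoot.root f)).trans (by simp [χ, e]), fun a => (hD' (AdjoinRoot.of f a)).trans (by simp [χ]; rfl)⟩

/-- In characteristic `p` the `p`th iterate of a derivation is a derivation. -/
theorem iterate_char_leibniz {T : Type u} [CommRing T] (p : ℕ) [Fact p.Prime] [CharP T p]
    (D : Derivation ℤ T T) (x y : T) :
    (⇑D)^[p] (x * y) = x * (⇑D)^[p] y + y * (⇑D)^[p] x := by
  classical
  let E := Module.End ℤ T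
  let d : E := D.toLinearMap
  let L : T → E := fun z => LinearMap.mulLeft ℤ z
  haveI : Nontrivial T := CharP.nontrivial_of_char_ne_one (v := p) (Fact.out : p.Prime).ne_one
  haveI : Nontrivial E := inferInstanceAs (Nontrivial (T →ₗ[ℤ] T))
  haveI : Nontrivial (Module.End ℤ E) := inferInstanceAs (Nontrivial (E →ₗ[ℤ] E))
  haveI hE : CharP E p := by
    refine (CharP.charP_iff_prime_eq_zero (Fact.out : p.Prime)).mpr (LinearMap.ext fun z => ?_)
    rw [Module.End.natCast_apply, nsmul_eq_mul, CharP.cast_eq_zero, zero_mul]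
    rfl
  haveI : CharP (Module.End ℤ E) p := by
    refine (CharP.charP_iff_prime_eq_zero (Fact.out : p.Prime)).mpr (LinearMap.ext fun z => ?_)
    rw [Module.End.natCast_apply, nsmul_eq_mul, CharP.cast_eq_zero, zero_mul]
    rfl
  haveI : ExpChar (Module.End ℤ E) p := .prime (Fact.out : p.Prime)
  have key : ∀ (n : ℕ) (z : T), ((LinearMap.mulLeft ℤ d - LinearMap.mulRight ℤ d) ^ n : Module.End ℤ E) (L z) =
      L ((⇑D)^[n] z) := by
    intro n
    induction n with
    | zero => intro z; rfl
    | succ n ih =>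
      intro z
      rw [pow_succ', Module.End.mul_apply, ih, Function.iterate_succ_apply']
      refine LinearMap.ext fun w => ?_
      show D ((⇑D)^[n] z * w) - (⇑D)^[n] z * D w = D ((⇑D)^[n] z) * w
      rw [Derivation.leibniz, smul_eq_mul, smul_eq_mul]
      ring
  have h1 := key p x
  rw [sub_pow_expChar_of_commute (p := p) (LinearMap.commute_mulLeft_right d d), LinearMap.pow_mulLeft,
    LinearMap.pow_mulRight] at h1
  have h2 := LinearMap.congr_fun h1 y
  have hd : ∀ (n : ℕ) (z : T), (d ^ n) z = (⇑D)^[n] z := fun n z => by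
    rw [Module.End.coe_pow]; rfl
  simp only [LinearMap.sub_apply, LinearMap.mulLeft_apply, LinearMap.mulRight_apply, L,
    Module.End.mul_apply, hd] at h2
  change (d ^ p) (x * y) - x * (d ^ p) y = _ at h2
  rw [hd, hd] at h2
  linear_combination h2

/-- The iterate as a derivation. -/
theorem exists_derivation_iterate {T : Type u} [CommRing T] (p : ℕ) [Fact p.Prime] [CharP T p]
    (D : Derivation ℤ T T) : ∃ D' : Derivation ℤ T T, ∀ x, D' x = (⇑D)^[p] x :=
  ⟨Derivation.mk' ((D.toLinearMap : Module.End ℤ T) ^ p) fun a b => by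
    rw [Module.End.coe_pow]
    exact iterate_char_leibniz p D a b, fun x => congrFun (Module.End.coe_pow (D.toLinearMap : Module.End ℤ T) p) x⟩

section Step

variable {T : Type u} [CommRing T] [IsDomain T] (p : ℕ) [Fact p.Prime] [CharP T p]

omit [IsDomain T] [Fact p.Prime] in
/-- Derivations kill `p`th powers. -/
theorem derivation_pow_char (D : Derivation ℤ T T) (a : T) : D (a ^ p) = 0 := by
  rw [Derivation.leibniz_pow, nsmul_eq_mul, CharP.cast_eq_zero, zero_mul]

omit [Fact p.Prime] in
/-- Having enough derivations passes to a localization. -/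
theorem enoughDer_away (hp : 0 < p) (h : EnoughDer p T) (e : T) (he : e ≠ 0) :
    EnoughDer p (Localization.Away e) := by
  intro c hc
  obtain ⟨a, ⟨_, n, rfl⟩, rfl⟩ := IsLocalization.exists_mk'_eq (Submonoid.powers e) c
  have hinj : Function.Injective (algebraMap T (Localization.Away e)) :=
    IsLocalization.injective _ (powers_le_nonZeroDivisors_of_noZeroDivisors he)
  haveI : CharP (Localization.Away e) p := charP_of_injective_algebraMap hinj p
  set z := IsLocalization.mk' (Localization.Away e) a (⟨e ^ n, n, rfl⟩ : Submonoid.powers e)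
  have hz : algebraMap T (Localization.Away e) ((e ^ n) ^ (p - 1) * a) =
      algebraMap T (Localization.Away e) (e ^ n) ^ p * z := by
    rw [map_mul, map_pow _ (e ^ n) (p - 1), ← IsLocalization.mk'_spec' (Localization.Away e) a
      (⟨e ^ n, n, rfl⟩ : Submonoid.powers e), ← mul_assoc, ← pow_succ, Nat.sub_add_cancel hp]
  obtain ⟨s, hs, a', ha'⟩ := h ((e ^ n) ^ (p - 1) * a) fun D => by
    obtain ⟨D', hD'⟩ := exists_derivation_localization (S := Localization.Away e) (Submonoid.powers e) D
    apply hinj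
    refine (hD' _).symm.trans ((congrArg D' hz).trans ?_)
    rw [Derivation.leibniz, derivation_pow_char p D', hc, map_zero, smul_zero, smul_zero, add_zero]
  refine ⟨algebraMap T (Localization.Away e) (s * e ^ n), fun h0 => ?_, algebraMap T _ a', ?_⟩
  · exact mul_ne_zero hs (pow_ne_zero n he) ((map_eq_zero_iff _ hinj).mp h0)
  · rw [map_mul, mul_pow, mul_assoc, ← hz, ← map_pow, ← map_mul, ha', map_pow]

/-- An element killed by the derivations killing `b` becomes a `p`th power once `b` is. -/
theorem exists_pow_of_kill (h : EnoughDer p T) (b : T) (D₀ : Derivation ℤ T T) (hD₀ : D₀ b = 1)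
    {S : Type u} [CommRing S] [Algebra T S] (β : S) (hβ : β ^ p = algebraMap T S b)
    (c : T) (hc : ∀ D : Derivation ℤ T T, D b = 0 → D c = 0) :
    ∃ s : T, s ≠ 0 ∧ ∃ d : S, algebraMap T S (s ^ p * c) = d ^ p := by
  classical
  -- being proportional to `b`
  let P : T → Prop := fun x => ∀ D : Derivation ℤ T T, D x = D b * D₀ x
  have hPc : P c := fun D => by
    have := hc (D - D b • D₀) (by simp [hD₀])
    simpa [sub_eq_zero] using this
  have hPD : ∀ x, P x → P (D₀ x) := fun x hx D => by
    have h1 : ⁅D, D₀⁆ x = ⁅D, D₀⁆ b * D₀ x := hx _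
    rw [Derivation.commutator_apply, Derivation.commutator_apply, hx D, hD₀, Derivation.map_one_eq_zero,
      Derivation.leibniz, smul_eq_mul, smul_eq_mul] at h1
    linear_combination h1
  have hPiter : ∀ (n : ℕ) (x : T), P x → P ((⇑D₀)^[n] x) := by
    intro n
    induction n with
    | zero => exact fun x hx => hx
    | succ n ih =>
      intro x hx
      rw [Function.iterate_succ_apply']
      exact hPD _ (ih x hx)
  have hPconst : ∀ a : T, P (a ^ p) := fun a D => by
    rw [derivation_pow_char, derivation_pow_char, mul_zero]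
  have hPb : ∀ n : ℕ, P (b ^ n) := fun n D => by
    rw [Derivation.leibniz_pow, Derivation.leibniz_pow, hD₀, nsmul_eq_mul, nsmul_eq_mul, smul_eq_mul, smul_eq_mul]
    ring
  have hPsub : ∀ x y, P x → P y → P (x - y) := fun x y hx hy D => by
    rw [map_sub, map_sub, hx D, hy D, mul_sub]
  have hPmul : ∀ a x, P x → P (a ^ p * x) := fun a x hx D => by
    rw [Derivation.leibniz, derivation_pow_char, Derivation.leibniz, derivation_pow_char, hx D]
    simp only [smul_eq_mul]
    ring
  have hlin : ∀ (a x : T) (n : ℕ), (⇑D₀)^[n] (a ^ p * x) = a ^ p * (⇑D₀)^[n] x := by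
    intro a x n
    induction n with
    | zero => rfl
    | succ n ih =>
      rw [Function.iterate_succ_apply', ih, Derivation.leibniz, derivation_pow_char, smul_zero, add_zero,
        smul_eq_mul, Function.iterate_succ_apply']
  have hbpow : ∀ n : ℕ, (⇑D₀)^[n] (b ^ n) = (n.factorial : T) := by
    intro n
    induction n with
    | zero => simp
    | succ n ih =>
      have : D₀ (b ^ (n + 1)) = (n + 1 : ℕ) • b ^ n := by
        rw [Derivation.leibniz_pow, hD₀, Nat.add_sub_cancel, smul_eq_mul, mul_one]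
      rw [Function.iterate_succ_apply, this, iterate_map_nsmul, ih, nsmul_eq_mul, Nat.factorial_succ,
        Nat.cast_mul]
  suffices key : ∀ n ≤ p, ∀ x, P x → (⇑D₀)^[n] x = 0 →
      ∃ s : T, s ≠ 0 ∧ ∃ d : S, algebraMap T S (s ^ p * x) = d ^ p by
    refine key p le_rfl c hPc ?_
    obtain ⟨D', hD'⟩ := exists_derivation_iterate p D₀
    have hb0 : D' b = 0 := by
      rw [hD', show p = p - 2 + 1 + 1 by have := (Fact.out : p.Prime).two_le; omega,
        Function.iterate_succ_apply, hD₀, Function.iterate_succ_apply, Derivation.map_one_eq_zero,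
        iterate_map_zero]
    rw [← hD']
    exact hc D' hb0
  intro n
  induction n with
  | zero =>
    intro _ x _ hx
    rw [Function.iterate_zero_apply] at hx
    exact ⟨1, one_ne_zero, 0, by rw [hx, mul_zero, map_zero, zero_pow (Fact.out : p.Prime).ne_zero]⟩
  | succ n ih =>
    intro hn x hx h0
    set e := (⇑D₀)^[n] x with he
    have hDe : ∀ D : Derivation ℤ T T, D e = 0 := fun D => by
      rw [hPiter n x hx D, show D₀ e = 0 by rw [he, ← Function.iterate_succ_apply' (⇑D₀) n x, h0], mul_zero]
    obtain ⟨s, hs, a, ha⟩ := h e hDe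
    obtain ⟨m, hm⟩ : ∃ m : ℕ, ((m * n.factorial : ℕ) : ZMod p) = 1 := by
      have hne : (n.factorial : ZMod p) ≠ 0 := by
        rw [Ne, CharP.cast_eq_zero_iff (ZMod p) p]
        intro hdvd
        exact absurd ((Nat.Prime.dvd_factorial (Fact.out : p.Prime)).mp hdvd) (by omega)
      exact ⟨((n.factorial : ZMod p)⁻¹).val, by
        rw [Nat.cast_mul, ZMod.natCast_zmod_val]
        exact ZMod.inv_mul_of_unit _ ((ZMod.isUnit_iff_coprime _ _).mpr (((Fact.out : p.Prime).coprime_iff_not_dvd.mpr fun hd => hne ((CharP.cast_eq_zero_iff (ZMod p) p _).mpr hd)).symm))⟩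
    let y := s ^ p * x - (m : T) ^ p * (a ^ p * b ^ n)
    have hy0 : (⇑D₀)^[n] y = 0 := by
      have hfac : ((m : T)) * (n.factorial : T) = 1 := by
        have := congrArg (ZMod.castHom (dvd_refl p) T) hm
        rwa [map_natCast, map_one, Nat.cast_mul] at this
      have hmp : (m : T) ^ p = m := by rw [← frobenius_def, map_natCast]
      rw [show (⇑D₀)^[n] y = (⇑D₀)^[n] (s ^ p * x) - (⇑D₀)^[n] ((m : T) ^ p * (a ^ p * b ^ n)) from
        iterate_map_sub D₀ n _ _, hlin, hlin, hlin, hbpow, ← he, ha, hmp]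
      linear_combination (-(a ^ p)) * hfac
    obtain ⟨s', hs', d, hd⟩ := ih (by omega) y (hPsub _ _ (hPmul _ _ hx) (hPmul _ _ (hPmul _ _ (hPb n)))) hy0
    refine ⟨s' * s, mul_ne_zero hs' hs,
      d + algebraMap T S (s' * (m : T) * a) * β ^ n, ?_⟩
    haveI : CharP S p ∨ Subsingleton S := by
      rcases subsingleton_or_nontrivial S with h' | h'
      · exact Or.inr h'
      · refine Or.inl ((CharP.charP_iff_prime_eq_zero (Fact.out : p.Prime)).mpr ?_)
        rw [← map_natCast (algebraMap T S), CharP.cast_eq_zero, map_zero]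
    rcases this with hS | hS
    · haveI := hS
      have h1 : (algebraMap T S (s' * (m : T) * a) * β ^ n) ^ p =
          algebraMap T S ((s' * (m : T) * a) ^ p * b ^ n) := by
        rw [mul_pow, ← pow_mul, mul_comm n p, pow_mul, hβ, map_mul (algebraMap T S) (_ ^ p) (b ^ n),
          map_pow, map_pow]
      rw [add_pow_char, ← hd, h1, ← map_add]
      congr 1
      show (s' * s) ^ p * x = s' ^ p * (s ^ p * x - (m : T) ^ p * (a ^ p * b ^ n)) + (s' * (m : T) * a) ^ p * b ^ n
      ring
    · exact Subsingleton.elim _ _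

omit [IsDomain T] [Fact p.Prime] in
theorem root_pow_eq (b : T) : (AdjoinRoot.root (X ^ p - C b)) ^ p = AdjoinRoot.of (X ^ p - C b) b := by
  have : Polynomial.eval₂ (AdjoinRoot.of (X ^ p - C b)) (AdjoinRoot.root (X ^ p - C b)) (X ^ p - C b) = 0 :=
    AdjoinRoot.eval₂_root _
  rwa [Polynomial.eval₂_sub, Polynomial.eval₂_X_pow, Polynomial.eval₂_C, sub_eq_zero] at this

/-- Having enough derivations passes to a `p`th root. -/
theorem enoughDer_root (h : EnoughDer p T) (b : T) (D₀ : Derivation ℤ T T) (hD₀ : D₀ b = 1) :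
    EnoughDer p (AdjoinRoot (X ^ p - C b)) := by
  classical
  have hp : p.Prime := Fact.out
  have hmon : (X ^ p - C b).Monic := monic_X_pow_sub_C b hp.ne_zero
  have hdeg : (X ^ p - C b).natDegree = p := natDegree_X_pow_sub_C
  intro c hc
  obtain ⟨g, rfl⟩ := AdjoinRoot.mk_surjective c
  obtain ⟨g, hg, hgdeg⟩ : ∃ g' : T[X], AdjoinRoot.mk (X ^ p - C b) g' = AdjoinRoot.mk (X ^ p - C b) g ∧
      g'.natDegree < p :=
    ⟨g %ₘ (X ^ p - C b), by
      rw [AdjoinRoot.mk_eq_mk]
      exact ⟨-(g /ₘ (X ^ p - C b)), by linear_combination (modByMonic_add_div g (X ^ p - C b))⟩,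
      hdeg ▸ natDegree_modByMonic_lt g hmon (fun h1 => hp.ne_zero (by
        rw [← hdeg, h1, natDegree_one]))⟩
  rw [← hg] at hc ⊢
  -- the derivative with respect to the root
  obtain ⟨D', hD'r, hD'o⟩ := exists_derivation_root p b 0 rfl (1 : AdjoinRoot (X ^ p - C b))
  have hker : ∀ i, 1 ≤ i → g.coeff i = 0 := by
    have hder : ∀ q : T[X], D' (AdjoinRoot.mk _ q) = AdjoinRoot.mk (X ^ p - C b) (derivative q) := by
      intro q
      induction q using Polynomial.induction_on' with
      | add q r hq hr => simp only [map_add, hq, hr]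
      | monomial n a =>
        rw [← C_mul_X_pow_eq_monomial, derivative_C_mul_X_pow,
          map_mul (AdjoinRoot.mk (X ^ p - C b)), map_mul (AdjoinRoot.mk (X ^ p - C b)),
          map_pow (AdjoinRoot.mk (X ^ p - C b)), map_pow (AdjoinRoot.mk (X ^ p - C b)),
          AdjoinRoot.mk_C, AdjoinRoot.mk_X, AdjoinRoot.mk_C, Derivation.leibniz, Derivation.leibniz_pow,
          hD'r, hD'o]
        simp [smul_eq_mul, nsmul_eq_mul, mul_assoc]
    have h1 : derivative g = 0 := by
      have h2 := (hder g).symm.trans (hc D')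
      rw [AdjoinRoot.mk_eq_zero] at h2
      refine eq_zero_of_dvd_of_degree_lt h2 ?_
      refine lt_of_le_of_lt (degree_derivative_le) ?_
      rw [degree_X_pow_sub_C hp.pos]
      exact degree_le_natDegree.trans_lt (by exact_mod_cast hgdeg)
    intro i hi
    by_cases hip : p ≤ i
    · exact coeff_eq_zero_of_natDegree_lt (lt_of_lt_of_le hgdeg hip)
    have h3 := congrArg (fun q : T[X] => q.coeff (i - 1)) h1
    simp only [coeff_derivative, coeff_zero] at h3
    rw [Nat.sub_add_cancel hi] at h3
    refine (mul_eq_zero.mp h3).resolve_right fun h0 => ?_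
    have h4 : ((i : ℕ) : T) = 0 := by
      rw [← h0, show ((i - 1 : ℕ) : T) + 1 = ((i - 1 + 1 : ℕ) : T) by push_cast; ring, Nat.sub_add_cancel hi]
    rw [CharP.cast_eq_zero_iff T p] at h4
    exact hip (Nat.le_of_dvd (by omega) h4)
  have hg0 : g = C (g.coeff 0) := by
    ext i
    rcases Nat.eq_zero_or_pos i with rfl | hi
    · rw [coeff_C_zero]
    · rw [hker i hi, coeff_C_ne_zero (by omega)]
  have hgC : AdjoinRoot.mk (X ^ p - C b) g = AdjoinRoot.of _ (g.coeff 0) :=
    (congrArg (AdjoinRoot.mk (X ^ p - C b)) hg0).trans (AdjoinRoot.mk_C _)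
  have hinj : Function.Injective (AdjoinRoot.of (X ^ p - C b)) := AdjoinRoot.of.injective_of_degree_ne_zero
    (by rw [degree_X_pow_sub_C hp.pos]; exact_mod_cast hp.ne_zero)
  obtain ⟨s, hs, d, hd⟩ := exists_pow_of_kill p h b D₀ hD₀ (S := AdjoinRoot (X ^ p - C b))
    (AdjoinRoot.root _) (root_pow_eq p b) (g.coeff 0) fun D hD => by
      obtain ⟨E, -, hE⟩ := exists_derivation_root p b D hD 0
      refine hinj ?_
      rw [map_zero, ← hE]
      exact (congrArg E hgC.symm).trans (hc E)
  refine ⟨AdjoinRoot.of _ s, (map_ne_zero_iff _ hinj).mpr hs, d, ?_⟩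
  rw [hgC, ← map_pow, ← map_mul]
  exact hd

omit [Fact p.Prime] in
/-- A root extension of a regular ring along a derivation is regular. -/
theorem isRegularRing_root [IsRegularRing T] (b : T) (D₀ : Derivation ℤ T T) (hD₀ : D₀ b = 1) :
    IsRegularRing (AdjoinRoot (X ^ p - C b)) := by
  set f : T[X] := X ^ p - C b with hf
  show IsRegularRing (T[X] ⧸ Ideal.span {f})
  haveI : IsNoetherianRing (T[X] ⧸ Ideal.span {f}) := inferInstance
  refine { isRegularLocalRing_localization := fun Q _ => ?_ }
  let P : Ideal T[X] := Q.comap (Ideal.Quotient.mk (Ideal.span {f}))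
  haveI : P.IsPrime := Ideal.comap_isPrime _ _
  have hfP : f ∈ P := by
    rw [Ideal.mem_comap, Ideal.Quotient.eq_zero_iff_mem.mpr (Ideal.mem_span_singleton_self f)]
    exact Q.zero_mem
  obtain ⟨e⟩ := RegLoc6.exists_quotLocalEquiv (Ideal.span {f}) P Q rfl
  haveI : IsRegularLocalRing (Localization.AtPrime P) := IsRegularRing.isRegularLocalRing_localization P
  obtain ⟨D', hX, hC⟩ := exists_derivation_polynomial D₀
  have hDf : D' f = -1 := by
    rw [hf, map_sub, Derivation.leibniz_pow, hX, smul_zero, smul_zero, hC, hD₀, map_one, zero_sub]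
  have hsq : algebraMap T[X] (Localization.AtPrime P) f ∉
      IsLocalRing.maximalIdeal (Localization.AtPrime P) ^ 2 := by
    intro hmem
    rw [← Localization.AtPrime.map_eq_maximalIdeal, ← Ideal.map_pow,
      IsLocalization.algebraMap_mem_map_algebraMap_iff P.primeCompl] at hmem
    obtain ⟨s, hs, hsf⟩ := hmem
    have hDP : ∀ z ∈ P ^ 2, D' z ∈ P := by
      intro z hz
      rw [pow_two] at hz
      refine Submodule.mul_induction_on hz (fun x hx y hy => ?_) fun x y hx hy => by
        rw [map_add]; exact add_mem hx hy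
      rw [Derivation.leibniz]
      exact add_mem (P.mul_mem_right _ hx) (P.mul_mem_right _ hy)
    have h1 := hDP _ hsf
    rw [Derivation.leibniz, hDf, smul_eq_mul, smul_eq_mul] at h1
    refine hs ?_
    have h2 := sub_mem (P.mul_mem_right (D' s) hfP) h1
    simpa using h2
  haveI := (RegLoc6.isRegularLocalRing_quot_and (by
    rw [← Localization.AtPrime.map_eq_maximalIdeal]; exact Ideal.mem_map_of_mem _ hfP) hsq).1
  exact IsRegularLocalRing.of_ringEquiv ((Ideal.quotEquivOfEq (by rw [Ideal.map_span, Set.image_singleton])).trans e)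

end Step

end Groth.Agent.CplFib6
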