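import Groth.Agent.CplFib6.GenericFibre
import Groth.Agent.CplFib6.CompleteJ0
import Groth.Agent.FlatLoc6.BaseChangeEss
import Mathlib.FieldTheory.IsAlgClosed.AlgebraicClosure
import Mathlib.RingTheory.Etale.Field
import Mathlib.FieldTheory.SeparableClosure

/-!
# Generic fibres stay regular after finite extensions
-/

namespace Groth.Agent.CplFib6

universe u

open TensorProduct

attribute [local instance 10000] Ring.toIntAlgebra

variable {C : Type u} [CommRing C] (T0 : Type u) [CommRing T0] [Algebra C T0]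

/-- A finite separable extension keeps regularity. -/
theorem regular_tensor_separable (K : Type u) [Field K] [Algebra C K] [IsRegularRing (T0 ⊗[C] K)]
    (L : Type u) [Field L] [Algebra C L] [Algebra K L] [IsScalarTower C K L] [Module.Finite K L]
    [Algebra.IsSeparable K L] : IsRegularRing (L ⊗[C] T0) := by
  haveI : IsRegularRing (K ⊗[C] T0) :=
    IsRegularRing.of_ringEquiv (Algebra.TensorProduct.comm C T0 K).toRingEquiv
  haveI : Algebra.FormallyEtale K L := Algebra.FormallyEtale.of_isSeparable K L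
  haveI : Algebra.FinitePresentation K L := Algebra.FinitePresentation.of_finiteType.mp inferInstance
  haveI : Algebra.Smooth K L := {}
  haveI := GeomReg.isRegularRing_of_smooth (K ⊗[C] T0) ((K ⊗[C] T0) ⊗[K] L)
  exact IsRegularRing.of_ringEquiv (R := (K ⊗[C] T0) ⊗[K] L)
    ((Algebra.TensorProduct.comm K (K ⊗[C] T0) L).toRingEquiv.trans
      (Algebra.TensorProduct.cancelBaseChange C K L L T0).toRingEquiv)

/-- Regularity descends to a subfield. -/
theorem regular_tensor_descend [IsNoetherianRing T0] (L L' : Type u) [Field L] [Field L'] [Algebra C L]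
    [Algebra C L'] [Algebra L L'] [IsScalarTower C L L'] [Algebra.EssFiniteType C L]
    [IsRegularRing (L' ⊗[C] T0)] : IsRegularRing (L ⊗[C] T0) := by
  haveI := FlatLoc6.isNoetherianRing_baseChange_ess C T0 L
  haveI : IsRegularRing ((L ⊗[C] T0) ⊗[L] L') := IsRegularRing.of_ringEquiv (R := L' ⊗[C] T0)
    ((Algebra.TensorProduct.cancelBaseChange C L L' L' T0).symm.toRingEquiv.trans
      (Algebra.TensorProduct.comm L L' (L ⊗[C] T0)).toRingEquiv)
  rw [isRegularRing_iff]
  intro P _
  obtain ⟨⟨Q, _⟩, hQ⟩ := PrimeSpectrum.comap_surjective_of_faithfullyFlat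
    (A := L ⊗[C] T0) (B := (L ⊗[C] T0) ⊗[L] L') ⟨P, inferInstance⟩
  exact RegLoc6.regular_under_of_flat Q P (congrArg PrimeSpectrum.asIdeal hQ)
    (IsRegularRing.isRegularLocalRing_localization Q)

/-- Regularity of the extension generated by separable elements over a member. -/
theorem regular_tensor_of_member [IsNoetherianRing T0] {Ω : Type u} [Field Ω] (K L : Type u) [Field K] [Field L]
    [Algebra C K] [IsFractionRing C K] [Algebra C L] [Algebra K L] [IsScalarTower C K L] [Algebra.EssFiniteType C L]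
    [Algebra L Ω] [Algebra C Ω] [IsScalarTower C L Ω]
    (T : Type u) [CommRing T] [IsDomain T] [Algebra C T] [Algebra T Ω] [IsScalarTower C T Ω] [FaithfulSMul T Ω]
    [IsRegularRing (T0 ⊗[C] T)] (G : Finset L) (hG : Submodule.span K (G : Set L) = ⊤)
    (hsep : ∀ g ∈ G, ∃ h : Polynomial Ω, h.Separable ∧ h.eval (algebraMap L Ω g) = 0 ∧
      ∀ i ∈ h.support, ∃ a s : T, algebraMap T Ω s ≠ 0 ∧ algebraMap T Ω s * h.coeff i = algebraMap T Ω a) :
    IsRegularRing (L ⊗[C] T0) := by
  classical
  let K' := FractionRing T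
  letI : Algebra K' Ω := FractionRing.liftAlgebra T Ω
  haveI : IsScalarTower T K' Ω := FractionRing.isScalarTower_liftAlgebra T Ω
  haveI : IsScalarTower C K' Ω := IsScalarTower.of_algebraMap_eq fun c => by
    rw [IsScalarTower.algebraMap_apply C T K', ← IsScalarTower.algebraMap_apply T K' Ω,
      ← IsScalarTower.algebraMap_apply C T Ω]
  obtain ⟨hregK', -⟩ := regular_enough_away (C := C) T0 T K' (nonZeroDivisors T)
  haveI := hregK'
  let L' := IntermediateField.adjoin K' ((G.image (algebraMap L Ω) : Finset Ω) : Set Ω)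
  have hsepG : ∀ x ∈ ((G.image (algebraMap L Ω) : Finset Ω) : Set Ω), IsSeparable K' x := by
    intro x hx
    obtain ⟨g, hg, rfl⟩ := Finset.mem_image.mp hx
    obtain ⟨h₁, hs₁, hroot, hcoef⟩ := hsep g hg
    obtain ⟨h, hh⟩ : ∃ h : Polynomial K', h.map (algebraMap K' Ω) = h₁ := by
      refine (Polynomial.mem_lifts _).mp ((Polynomial.lifts_iff_coeff_lifts _).mpr fun i => ?_)
      by_cases hi : i ∈ h₁.support
      · obtain ⟨a, s, hs0, hsy⟩ := hcoef i hi
        refine ⟨algebraMap T K' a / algebraMap T K' s, ?_⟩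
        rw [map_div₀, ← IsScalarTower.algebraMap_apply, ← IsScalarTower.algebraMap_apply, ← hsy,
          mul_div_cancel_left₀ _ hs0]
      · exact ⟨0, by rw [map_zero, Polynomial.notMem_support_iff.mp hi]⟩
    have hsep' : h.Separable := (Polynomial.separable_map (algebraMap K' Ω)).mp (hh ▸ hs₁)
    refine hsep'.of_dvd (minpoly.dvd K' _ ?_)
    rw [Polynomial.aeval_def, ← Polynomial.eval_map, hh]
    exact hroot
  haveI : FiniteDimensional K' L' := IntermediateField.finiteDimensional_adjoin fun x hx =>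
    (hsepG x hx).isIntegral
  haveI : Algebra.IsSeparable K' L' := (IntermediateField.isSeparable_adjoin_iff_isSeparable K' Ω).mpr hsepG
  have hC : ∀ c : C, algebraMap L Ω (algebraMap C L c) ∈ L' := fun c => by
    rw [← IsScalarTower.algebraMap_apply, IsScalarTower.algebraMap_apply C K' Ω]
    exact L'.algebraMap_mem _
  have hLL : ∀ x : L, algebraMap L Ω x ∈ L' := fun x => by
    have hx : x ∈ Submodule.span K (G : Set L) := hG ▸ Submodule.mem_top
    induction hx using Submodule.span_induction with
    | mem y hy => exact IntermediateField.subset_adjoin _ _ (Finset.mem_image_of_mem _ hy)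
    | zero => rw [map_zero]; exact L'.zero_mem
    | add y z _ _ hy hz => rw [map_add]; exact L'.add_mem hy hz
    | smul c y _ hy =>
      obtain ⟨a, s, -, rfl⟩ := IsFractionRing.div_surjective C c
      rw [Algebra.smul_def, map_mul, map_div₀ (algebraMap K L), ← IsScalarTower.algebraMap_apply,
        ← IsScalarTower.algebraMap_apply, map_div₀]
      exact L'.mul_mem (L'.div_mem (hC a) (hC s)) hy
  haveI : IsRegularRing (L' ⊗[C] T0) := regular_tensor_separable T0 K' L'
  letI : Algebra L L' := ((algebraMap L Ω).codRestrict L'.toSubfield hLL).toAlgebra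
  haveI : IsScalarTower C L L' := IsScalarTower.of_algebraMap_eq fun c => Subtype.ext <| by
    show algebraMap C Ω c = algebraMap L Ω (algebraMap C L c)
    rw [← IsScalarTower.algebraMap_apply]
  exact regular_tensor_descend T0 L L'

/-- The generic fibre of a map along which derivations extend is geometrically regular. -/
theorem regular_tensor_field [IsDomain C] [IsNoetherianRing T0] [IsRegularRing T0]
    (hExt : ∀ D : Derivation ℤ C C, Ext (algebraMap C T0) D)
    (hC : CharZero C ∨ ∃ p : ℕ, p.Prime ∧ CharP C p ∧ EnoughDer p C)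
    (L : Type u) [Field L] [Algebra C L] [FaithfulSMul C L] [Algebra.IsAlgebraic C L]
    [Algebra.EssFiniteType C L] : IsRegularRing (L ⊗[C] T0) := by
  classical
  haveI hTC : IsRegularRing (T0 ⊗[C] C) :=
    IsRegularRing.of_ringEquiv (Algebra.TensorProduct.rid C C T0).symm.toRingEquiv
  let K := FractionRing C
  letI := FractionRing.liftAlgebra C L
  haveI : Algebra.IsAlgebraic K L := (IsFractionRing.comap_isAlgebraic_iff (K := K)).mp ‹_›
  haveI : Algebra.EssFiniteType K L := Algebra.EssFiniteType.of_comp C K L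
  haveI : Module.Finite K L := Algebra.finite_of_essFiniteType_of_isAlgebraic
  obtain ⟨hregK, -⟩ := regular_enough_away (C := C) T0 C K (nonZeroDivisors C)
  rcases hC with hC0 | ⟨p, hp, hCp, hEnough⟩
  · haveI := hC0
    haveI : CharZero K := charZero_of_injective_algebraMap (IsFractionRing.injective C K)
    haveI : Algebra.IsSeparable K L := Algebra.IsAlgebraic.isSeparable_of_perfectField
    haveI := hregK
    exact regular_tensor_separable T0 K L
  haveI : Fact p.Prime := ⟨hp⟩
  let Ω := AlgebraicClosure L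
  haveI : CharP K p := charP_of_injective_algebraMap (IsFractionRing.injective C K) p
  haveI : CharP Ω p := charP_of_injective_algebraMap (algebraMap K Ω).injective p
  haveI : ExpChar K p := .prime hp
  haveI : ExpChar Ω p := .prime hp
  have hCΩ : Function.Injective (algebraMap C Ω) := by
    rw [IsScalarTower.algebraMap_eq C L Ω]
    exact (algebraMap L Ω).injective.comp (FaithfulSMul.algebraMap_injective C L)
  haveI : IsScalarTower C K Ω := IsScalarTower.of_algebraMap_eq fun c => by
    rw [IsScalarTower.algebraMap_apply K L Ω, ← IsScalarTower.algebraMap_apply C K L,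
      ← IsScalarTower.algebraMap_apply]
  have hbase : GoodExt T0 p (Algebra.ofId C Ω).range := by
    have h1 : EnoughExt p (algebraMap C T0) := fun c hc => hEnough c fun D => hc D (hExt D)
    refine goodExt_range T0 p (h1.congr (Algebra.TensorProduct.rid C C T0).symm.toRingEquiv (incl C T0 C) fun c => ?_)
      (Algebra.ofId C Ω) hCΩ
    show algebraMap C T0 c ⊗ₜ[C] (1 : C) = (1 : T0) ⊗ₜ[C] c
    rw [Algebra.algebraMap_eq_smul_one, smul_tmul, smul_eq_mul, mul_one]
  obtain ⟨G, hG⟩ := (Module.finite_def (R := K) (M := L)).mp ‹_›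
  have hdata : ∀ g : L, ∃ (m : ℕ) (h₁ : Polynomial Ω), h₁.Separable ∧ h₁.eval (algebraMap L Ω g) = 0 ∧
      ∀ i, ∃ x : K, (h₁.coeff i) ^ p ^ m = algebraMap K Ω x := by
    intro g
    have hint : IsIntegral K (algebraMap L Ω g) := (Algebra.IsIntegral.isIntegral (R := K) g).algebraMap
    obtain ⟨h₀, hsep, m, hexp⟩ := (minpoly.irreducible hint).hasSeparableContraction p
    obtain ⟨h₁, hh₁⟩ : ∃ h₁ : Polynomial Ω, h₁.map (iterateFrobenius Ω p m) = h₀.map (algebraMap K Ω) :=
      Polynomial.map_surjective _ (fun z => by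
        obtain ⟨w, hw⟩ := IsAlgClosed.exists_pow_nat_eq z (pow_pos hp.pos m)
        exact ⟨w, by rw [iterateFrobenius_def, hw]⟩) _
    refine ⟨m, h₁, (Polynomial.separable_map (iterateFrobenius Ω p m)).mp
      (hh₁ ▸ (Polynomial.separable_map (algebraMap K Ω)).mpr hsep), ?_, fun i => ⟨h₀.coeff i, ?_⟩⟩
    · refine iterateFrobenius_inj Ω p m ?_
      rw [map_zero, ← Polynomial.eval₂_at_apply, ← Polynomial.eval_map, hh₁, iterateFrobenius_def,
        Polynomial.eval_map, ← Polynomial.aeval_def, ← Polynomial.expand_aeval, hexp, minpoly.aeval]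
    · have := congrArg (fun q : Polynomial Ω => q.coeff i) hh₁
      simp only [Polynomial.coeff_map] at this
      rwa [iterateFrobenius_def] at this
  choose m h₁ hsep hroot hcoef using hdata
  let S : Finset Ω := G.biUnion fun g => (h₁ g).support.image (h₁ g).coeff
  obtain ⟨T, -, hT, hTS⟩ := exists_goodExt_roots T0 p S _ hbase (fun y hy => by
    obtain ⟨g, -, hy⟩ := Finset.mem_biUnion.mp hy
    obtain ⟨i, -, rfl⟩ := Finset.mem_image.mp hy
    obtain ⟨x, hx⟩ := hcoef g i
    obtain ⟨⟨a, s⟩, hx'⟩ := IsLocalization.surj (nonZeroDivisors C) x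
    refine ⟨m g, algebraMap C Ω a, ⟨a, rfl⟩, algebraMap C Ω s, ⟨s, rfl⟩,
      (map_ne_zero_iff _ hCΩ).mpr (nonZeroDivisors.coe_ne_zero s), ?_⟩
    rw [hx, IsScalarTower.algebraMap_apply C K Ω a, ← hx', map_mul, mul_comm, ← IsScalarTower.algebraMap_apply])
  haveI := hT.2.1
  haveI : FaithfulSMul T Ω := (faithfulSMul_iff_algebraMap_injective T Ω).mpr Subtype.val_injective
  refine regular_tensor_of_member T0 K L T G hG fun g hg => ⟨h₁ g, hsep g, hroot g, fun i hi => ?_⟩
  obtain ⟨a, ha, s, hs, hs0, hsy⟩ := hTS _ (Finset.mem_biUnion.mpr ⟨g, hg, Finset.mem_image.mpr ⟨i, hi, rfl⟩⟩)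
  exact ⟨⟨a, ha⟩, ⟨s, hs⟩, hs0, hsy⟩

end Groth.Agent.CplFib6
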