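import Groth.Agent.CplFib6.DerivExt
import Groth.Agent.CplFib6.RegTower
import Groth.Agent.GeomReg.Basic
import Groth.Agent.RegLoc6.FlatDescent
import Mathlib.RingTheory.Etale.Field
import Mathlib.RingTheory.Localization.BaseChange

/-!
# Regularity of generic fibres
-/

namespace Groth.Agent.CplFib6

universe u

open Polynomial TensorProduct

attribute [local instance 10000] Ring.toIntAlgebra

/-- Transport along isomorphisms of source and target. -/
theorem EnoughExt.congr' {p : ℕ} {S U S' U' : Type u} [CommRing S] [CommRing U] [CommRing S'] [CommRing U']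
    {φ : S →+* U} (h : EnoughExt p φ) (es : S ≃+* S') (e : U ≃+* U') (φ' : S' →+* U')
    (hφ : ∀ x, e (φ x) = φ' (es x)) : EnoughExt p φ' := by
  intro c hc
  obtain ⟨s, hs, a, ha⟩ := h.congr e (φ'.comp es.toRingHom) hφ (es.symm c) fun D hD => by
    obtain ⟨E, hE⟩ := hD
    let ψ : S' →+ S' := (es.toAddMonoidHom.comp D.toLinearMap.toAddMonoidHom).comp es.symm.toAddMonoidHom
    let D' : Derivation ℤ S' S' := Derivation.mk' ψ.toIntLinearMap fun x y => by
      show es (D (es.symm (x * y))) = x • es (D (es.symm y)) + y • es (D (es.symm x))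
      simp [Derivation.leibniz]
    have h1 : es (D (es.symm c)) = 0 := hc D' ⟨E, fun x => by
      show E (φ' x) = φ' (es (D (es.symm x)))
      have := hE (es.symm x)
      simpa using this⟩
    simpa using h1
  refine ⟨es s, by simpa using hs, es a, ?_⟩
  have := congrArg es ha
  rwa [map_mul, map_pow, map_pow, es.apply_symm_apply] at this

/-- A derivation extending along a map extends along its localization. -/
theorem ext_localization {T U R U' : Type u} [CommRing T] [CommRing U] [CommRing R] [CommRing U'] [Algebra T R]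
    [Algebra U U'] (M : Submonoid T) [IsLocalization M R] (φ : T →+* U) [IsLocalization (M.map φ) U']
    (φ' : R →+* U') (hφ' : ∀ x, φ' (algebraMap T R x) = algebraMap U U' (φ x))
    (D : Derivation ℤ T T) (hD : Ext φ D) :
    ∃ D' : DerZ R, (∀ a, D' (algebraMap T R a) = algebraMap T R (D a)) ∧ Ext φ' D' := by
  obtain ⟨D', hD'⟩ := exists_derivation_localization (S := R) M D
  obtain ⟨E, hE⟩ := hD
  obtain ⟨E', hE'⟩ := exists_derivation_localization (S := U') (M.map φ) E
  refine ⟨D', hD', E', fun w => ?_⟩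
  obtain ⟨⟨x, m⟩, hxm⟩ := IsLocalization.surj M w
  have hT : ∀ t : T, E' (φ' (algebraMap T R t)) = φ' (D' (algebraMap T R t)) := fun t => by
    rw [hφ', hE', hE, hD', hφ']
  have hu : IsUnit (φ' (algebraMap T R m)) := (IsLocalization.map_units R m).map φ'
  have h1 := hT x
  rw [← hxm, map_mul φ', Derivation.leibniz, Derivation.leibniz, map_add, smul_eq_mul, smul_eq_mul,
    smul_eq_mul, smul_eq_mul, map_mul, map_mul, hT m] at h1
  exact hu.mul_left_cancel (by linear_combination h1)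

variable {C : Type u} [CommRing C] (T0 : Type u) [CommRing T0] [Algebra C T0] [IsNoetherianRing T0]
  {Ω : Type u} [Field Ω] [Algebra C Ω] (p : ℕ)

/-- The map into the base change. -/
noncomputable abbrev incl (C : Type u) [CommRing C] (T0 : Type u) [CommRing T0] [Algebra C T0]
    (S : Type u) [CommRing S] [Algebra C S] : S →+* T0 ⊗[C] S :=
  (Algebra.TensorProduct.includeRight : S →ₐ[C] T0 ⊗[C] S).toRingHom

/-- A member of the tower. -/
def GoodExt (T : Subalgebra C Ω) : Prop :=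
  Algebra.FiniteType C T ∧ IsRegularRing (T0 ⊗[C] T) ∧ EnoughExt p (incl C T0 T)

omit [IsNoetherianRing T0] in
theorem goodExt_range {S : Type u} [CommRing S] [Algebra C S] [Algebra.FiniteType C S] [IsRegularRing (T0 ⊗[C] S)]
    (hS : EnoughExt p (incl C T0 S)) (φ : S →ₐ[C] Ω) (hφ : Function.Injective φ) : GoodExt T0 p φ.range := by
  let e : S ≃ₐ[C] φ.range := AlgEquiv.ofInjective φ hφ
  let e' := Algebra.TensorProduct.congr (AlgEquiv.refl (R := C) (A₁ := T0)) e
  exact ⟨Algebra.FiniteType.equiv ‹_› e, IsRegularRing.of_ringEquiv e'.toRingEquiv,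
    hS.congr' e.toRingEquiv e'.toRingEquiv _ fun x => by simp [incl, e']⟩

omit [IsNoetherianRing T0] in
/-- The away step. -/
theorem regular_enough_away (T R : Type u) [CommRing T] [IsDomain T] [Algebra C T] [CommRing R] [Algebra C R]
    [Algebra T R] [IsScalarTower C T R] (M : Submonoid T) [IsLocalization M R] [IsRegularRing (T0 ⊗[C] T)] :
    IsRegularRing (T0 ⊗[C] R) ∧ ∃ _ : Algebra (T0 ⊗[C] T) (T0 ⊗[C] R),
      IsLocalization (M.map (incl C T0 T)) (T0 ⊗[C] R) ∧
      ∀ x, incl C T0 R (algebraMap T R x) = algebraMap (T0 ⊗[C] T) (T0 ⊗[C] R) (incl C T0 T x) := by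
  let ψ : T0 ⊗[C] T →ₐ[C] T0 ⊗[C] R := Algebra.TensorProduct.map (AlgHom.id C T0) (IsScalarTower.toAlgHom C T R)
  letI : Algebra (T0 ⊗[C] T) (T0 ⊗[C] R) := ψ.toRingHom.toAlgebra
  haveI : IsScalarTower T0 (T0 ⊗[C] T) (T0 ⊗[C] R) := IsScalarTower.of_algebraMap_eq fun x => by
    show _ = ψ (x ⊗ₜ 1)
    simp [ψ]
  haveI hloc : IsLocalization (M.map (Algebra.TensorProduct.includeRight (R := C) (A := T0) (B := T)))
      (T0 ⊗[C] R) := IsLocalization.tensorProduct_tensorProduct_right C T0 M R (RingHom.ext fun x => by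
    show ψ (1 ⊗ₜ x) = 1 ⊗ₜ algebraMap T R x
    simp [ψ])
  exact ⟨GeomReg.isRegularRing_of_isLocalization
    (M.map (Algebra.TensorProduct.includeRight (R := C) (A := T0) (B := T))) _, inferInstance, hloc, fun x => by
    show (1 : T0) ⊗ₜ[C] algebraMap T R x = ψ (1 ⊗ₜ x)
    simp [ψ]⟩

omit [IsNoetherianRing T0] in
/-- The root step. -/
theorem regular_enough_root [Fact p.Prime] (R : Type u) [CommRing R] [IsDomain R] [CharP R p] [Algebra C R]
    [IsRegularRing (T0 ⊗[C] R)] (h : EnoughExt p (incl C T0 R)) (b : R) (D : Derivation ℤ R R)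
    (hDe : Ext (incl C T0 R) D) (hD : D b = 1) :
    IsRegularRing (T0 ⊗[C] AdjoinRoot (X ^ p - Polynomial.C b)) ∧
      EnoughExt p (incl C T0 (AdjoinRoot (X ^ p - Polynomial.C b))) := by
  set φ := incl C T0 R
  have hq : (X ^ p - Polynomial.C b).map φ = X ^ p - Polynomial.C (φ b) := by
    rw [Polynomial.map_sub, Polynomial.map_pow, Polynomial.map_X, Polynomial.map_C]
  let e := AdjoinRoot.tensorAlgEquiv (R := C) (T := T0) (X ^ p - Polynomial.C b) (X ^ p - Polynomial.C (φ b)) hq
  obtain ⟨E, hE⟩ := hDe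
  haveI := isRegularRing_root_ext p (φ b) E (by rw [hE, hD, map_one])
  refine ⟨IsRegularRing.of_ringEquiv e.symm.toRingEquiv, ?_⟩
  have h2 := enoughExt_root p φ h b D ⟨E, hE⟩ hD hq.symm.dvd
  refine h2.congr e.symm.toRingEquiv _ fun x => ?_
  show e.symm _ = (1 : T0) ⊗ₜ[C] x
  rw [AlgEquiv.symm_apply_eq]
  obtain ⟨q, rfl⟩ := AdjoinRoot.mk_surjective x
  induction q using Polynomial.induction_on' with
  | add q r hq hr => rw [map_add, map_add, hq, hr, TensorProduct.tmul_add, map_add]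
  | monomial n a =>
    have h3 : ∀ (x y : AdjoinRoot (X ^ p - Polynomial.C b)),
        e ((1 : T0) ⊗ₜ[C] (x * y)) = e (1 ⊗ₜ x) * e (1 ⊗ₜ y) := fun x y => by
      rw [← map_mul e, Algebra.TensorProduct.tmul_mul_tmul, mul_one]
    have h4 : ∀ (x : AdjoinRoot (X ^ p - Polynomial.C b)) (k : ℕ),
        e ((1 : T0) ⊗ₜ[C] (x ^ k)) = e (1 ⊗ₜ x) ^ k := fun x k => by
      rw [← map_pow e, Algebra.TensorProduct.tmul_pow, one_pow]
    rw [← C_mul_X_pow_eq_monomial, map_mul (AdjoinRoot.mk _), map_pow (AdjoinRoot.mk _), AdjoinRoot.mk_C,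
      AdjoinRoot.mk_X, map_mul, map_pow, AdjoinRoot.map_of, AdjoinRoot.map_root, h3, h4,
      AdjoinRoot.tensorAlgEquiv_of, AdjoinRoot.tensorAlgEquiv_root]
    rfl

set_option maxHeartbeats 1000000 in
omit [IsNoetherianRing T0] in
/-- Adjoining a `p`th root. -/
theorem exists_goodExt_root [Fact p.Prime] [CharP Ω p] (T : Subalgebra C Ω) (hT : GoodExt T0 p T) (y : Ω)
    (hy : InFrac T (y ^ p)) : ∃ T', T ≤ T' ∧ GoodExt T0 p T' ∧ InFrac T' y := by
  obtain ⟨hft, hreg, hen⟩ := hT
  obtain ⟨a, ha, s, hs, hs0, hsy⟩ := hy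
  have hp : p.Prime := Fact.out
  haveI := hft
  haveI := hreg
  haveI : CharP T p := by
    refine (CharP.charP_iff_prime_eq_zero hp).mpr (Subtype.ext ?_)
    show ((p : T) : Ω) = 0
    exact (map_natCast T.val p).trans (CharP.cast_eq_zero Ω p)
  let b : T := ⟨a, ha⟩ * (⟨s, hs⟩ : T) ^ (p - 1)
  have hb : (b : Ω) = (s * y) ^ p := by
    show a * s ^ (p - 1) = _
    rw [← hsy, mul_pow, mul_right_comm, ← pow_succ', Nat.sub_add_cancel hp.pos]
  by_cases hD : ∀ D : Derivation ℤ T T, Ext (incl C T0 T) D → D b = 0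
  · obtain ⟨t, ht, c, hc⟩ := hen b hD
    refine ⟨T, le_rfl, ⟨hft, hreg, hen⟩, c, c.2, t * s, mul_mem t.2 hs, mul_ne_zero (by simpa using ht) hs0, ?_⟩
    refine frobenius_inj Ω p ?_
    have h1 := congrArg (fun x : T => (x : Ω)) hc
    simp only [MulMemClass.coe_mul, SubmonoidClass.coe_pow, hb] at h1
    show (t * s * y) ^ p = (c : Ω) ^ p
    rw [← h1]
    ring
  push Not at hD
  obtain ⟨D, hDext, hDb⟩ := hD
  set e := D b
  let R := Localization.Away e
  have hinjR : Function.Injective (algebraMap T R) :=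
    IsLocalization.injective _ (powers_le_nonZeroDivisors_of_noZeroDivisors hDb)
  haveI : IsDomain R := IsLocalization.isDomain_localization (powers_le_nonZeroDivisors_of_noZeroDivisors hDb)
  haveI : CharP R p := charP_of_injective_algebraMap hinjR p
  obtain ⟨hregR, _, hlocR, hcommR⟩ := regular_enough_away (C := C) T0 T R (Submonoid.powers e)
  haveI := hregR
  haveI := hlocR
  have henR : EnoughExt p (incl C T0 R) := enoughExt_away p hp.pos (incl C T0 T) hen e hDb _ (incl C T0 R) hcommR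
  have hu : ∀ m : Submonoid.powers e, IsUnit (T.val.toRingHom m) := fun m => by
    obtain ⟨_, n, rfl⟩ := m
    show IsUnit ((e : Ω) ^ n)
    exact (isUnit_iff_ne_zero.mpr (by simpa using hDb)).pow n
  let ι : R →ₐ[C] Ω := IsLocalization.liftAlgHom (M := Submonoid.powers e) (f := T.val) (fun m => hu m)
  have hιT : ∀ x : T, ι (algebraMap T R x) = x := fun x => IsLocalization.lift_eq _ x
  have hι : Function.Injective ι := by
    rw [injective_iff_map_eq_zero]
    intro z hz
    obtain ⟨x, m, rfl⟩ := IsLocalization.exists_mk'_eq (Submonoid.powers e) z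
    have h1 := congrArg ι (IsLocalization.mk'_spec R x m)
    rw [map_mul ι, hz, zero_mul, hιT] at h1
    rw [show x = 0 from Subtype.ext h1.symm, IsLocalization.mk'_zero]
  obtain ⟨D', hD', hD'e⟩ := ext_localization (R := R) (Submonoid.powers e) (incl C T0 T) (incl C T0 R) hcommR D hDext
  obtain ⟨u, hu'⟩ := IsLocalization.map_units R (⟨e, Submonoid.mem_powers e⟩ : Submonoid.powers e)
  let D₁ : DerZ R := ((u⁻¹ : Rˣ) : R) • D'
  have hD₁ : D₁ (algebraMap T R b) = 1 := by
    show ((u⁻¹ : Rˣ) : R) * D' (algebraMap T R b) = 1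
    rw [hD', show algebraMap T R (D b) = (u : R) from hu'.symm, Units.inv_mul]
  obtain ⟨hregS, henS⟩ := regular_enough_root T0 p R henR _ D₁ (hD'e.smul _) hD₁
  haveI : Algebra.FiniteType C R := Algebra.FiniteType.trans (S := T) inferInstance inferInstance
  haveI : Algebra.FiniteType C (AdjoinRoot (X ^ p - Polynomial.C (algebraMap T R b))) := Algebra.FiniteType.trans (S := R) inferInstance inferInstance
  haveI := hregS
  have hroot : Polynomial.eval₂ ι.toRingHom (s * y) (X ^ p - Polynomial.C (algebraMap T R b)) = 0 := by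
    show Polynomial.eval₂ _ _ (X ^ p - Polynomial.C (algebraMap T R b)) = 0
    rw [Polynomial.eval₂_sub, Polynomial.eval₂_X_pow, Polynomial.eval₂_C]
    show (s * y) ^ p - ι (algebraMap T R b) = 0
    rw [hιT, hb, sub_self]
  let φ : AdjoinRoot (X ^ p - Polynomial.C (algebraMap T R b)) →ₐ[C] Ω :=
    { AdjoinRoot.lift ι.toRingHom (s * y) hroot with
      commutes' := fun c => by
        show AdjoinRoot.lift ι.toRingHom (s * y) hroot (AdjoinRoot.of (X ^ p - Polynomial.C (algebraMap T R b)) (algebraMap C R c)) = _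
        rw [AdjoinRoot.lift_of]
        exact ι.commutes c }
  have hφ : Function.Injective φ :=
    injective_root_lift p (algebraMap T R b) D₁ hD₁ ι.toRingHom hι (s * y) hroot
  have hle : T ≤ φ.range := fun x hx => ⟨AdjoinRoot.of (X ^ p - Polynomial.C (algebraMap T R b)) (algebraMap T R ⟨x, hx⟩), by
    show AdjoinRoot.lift ι.toRingHom (s * y) hroot _ = x
    rw [AdjoinRoot.lift_of]
    exact hιT ⟨x, hx⟩⟩
  refine ⟨φ.range, hle, goodExt_range T0 p henS φ hφ, s * y, ⟨AdjoinRoot.root (X ^ p - Polynomial.C (algebraMap T R b)), ?_⟩, s, hle hs, hs0, rfl⟩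
  show AdjoinRoot.lift ι.toRingHom (s * y) hroot _ = s * y
  rw [AdjoinRoot.lift_root]

omit [IsNoetherianRing T0] in
/-- Adjoining iterated roots. -/
theorem exists_goodExt_roots [Fact p.Prime] [CharP Ω p] (S : Finset Ω) (T : Subalgebra C Ω) (hT : GoodExt T0 p T)
    (hS : ∀ y ∈ S, ∃ m : ℕ, InFrac T (y ^ p ^ m)) : ∃ T', T ≤ T' ∧ GoodExt T0 p T' ∧ ∀ y ∈ S, InFrac T' y := by
  classical
  have key : ∀ (m : ℕ) (T : Subalgebra C Ω), GoodExt T0 p T → ∀ y, InFrac T (y ^ p ^ m) →
      ∃ T', T ≤ T' ∧ GoodExt T0 p T' ∧ InFrac T' y := by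
    intro m
    induction m with
    | zero => intro T hT y hy; exact ⟨T, le_rfl, hT, by simpa using hy⟩
    | succ m ih =>
      intro T hT y hy
      rw [pow_succ', pow_mul] at hy
      obtain ⟨T₁, h1, hT₁, hy₁⟩ := ih T hT (y ^ p) hy
      obtain ⟨T₂, h2, hT₂, hy₂⟩ := exists_goodExt_root T0 p T₁ hT₁ y hy₁
      exact ⟨T₂, h1.trans h2, hT₂, hy₂⟩
  induction S using Finset.induction_on with
  | empty => exact ⟨T, le_rfl, hT, by simp⟩
  | insert y S hy ih =>
    obtain ⟨T₁, h1, hT₁, hS₁⟩ := ih fun z hz => hS z (Finset.mem_insert_of_mem hz)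
    obtain ⟨m, hm⟩ := hS y (Finset.mem_insert_self y S)
    obtain ⟨T₂, h2, hT₂, hy₂⟩ := key m T₁ hT₁ y (hm.mono h1)
    refine ⟨T₂, h1.trans h2, hT₂, fun z hz => ?_⟩
    rcases Finset.mem_insert.mp hz with rfl | hz
    · exact hy₂
    · exact (hS₁ z hz).mono h2

end Groth.Agent.CplFib6
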