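import Groth.Agent.CplFib6.Reduced
import Groth.Agent.CplFib6.Setup
import Groth.Agent.FlatLoc6.GeomRed

/-!
# Formal fibres of local rings with Japanese quotients
-/

namespace Groth.Agent.CplFib6

universe u

open IsLocalRing TensorProduct

/-- A Noetherian local ring with Japanese quotient domains has geometrically reduced formal fibres. -/
theorem hasGeomReducedFormalFibres_of_isN2 (A : Type u) [CommRing A] [IsNoetherianRing A] [IsLocalRing A]
    (hN : ∀ (p : Ideal A) [p.IsPrime], CAlg.IsN2 (A ⧸ p)) : EGA4.HasGeomReducedFormalFibres A := by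
  haveI := FlatLoc6.isNoetherianRing_cpl A
  haveI := FlatLoc6.isLocalRing_cpl A
  haveI := FlatLoc6.faithfullyFlat_cpl A
  have hmax := AdicCompletion.maximalIdeal_eq_map_of_fg (IsNoetherian.noetherian (maximalIdeal A))
  intro p _
  refine geomReduced_fibre_of_le_jacobson hN (hmax.ge.trans (maximalIdeal_le_jacobson ⊥)) (fun L _ _ hL => ?_) p
  haveI := hL
  have hker : RingHom.ker (algebraMap A L) = maximalIdeal A :=
    eq_maximalIdeal (by
      have h := Ideal.isMaximal_comap_of_isIntegral_of_isMaximal' (algebraMap A L)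
        (algebraMap_isIntegral_iff.mpr (Algebra.IsIntegral.of_finite A L)) ⊥
      rwa [← RingHom.ker_eq_comap_bot] at h)
  have hkill : (maximalIdeal A).map (algebraMap A (EGA4.Cpl A)) ≤
      RingHom.ker (Algebra.TensorProduct.includeRight : EGA4.Cpl A →ₐ[A] L ⊗[A] EGA4.Cpl A) :=
    Ideal.map_le_iff_le_comap.2 fun a ha => by
      rw [Ideal.mem_comap, RingHom.mem_ker, AlgHom.commutes, Algebra.TensorProduct.algebraMap_apply,
        RingHom.mem_ker.1 (hker.ge ha), TensorProduct.zero_tmul]
  have hsurj : Function.Surjective (algebraMap L (L ⊗[A] EGA4.Cpl A)) := by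
    intro z
    induction z using TensorProduct.induction_on with
    | zero => exact ⟨0, map_zero _⟩
    | add x y hx hy =>
      obtain ⟨a, rfl⟩ := hx; obtain ⟨b, rfl⟩ := hy
      exact ⟨a + b, map_add _ _ _⟩
    | tmul l x =>
      obtain ⟨a, ha⟩ := exists_sub_mem A x
      rw [hmax] at ha
      have h1 := RingHom.mem_ker.1 (hkill ha)
      rw [map_sub, sub_eq_zero, AlgHom.commutes, Algebra.TensorProduct.algebraMap_apply] at h1
      refine ⟨l * algebraMap A L a, ?_⟩
      rw [Algebra.TensorProduct.algebraMap_apply, Algebra.algebraMap_self, RingHom.id_apply]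
      calc (l * algebraMap A L a) ⊗ₜ[A] (1 : EGA4.Cpl A) = (l ⊗ₜ[A] (1 : EGA4.Cpl A)) * (algebraMap A L a ⊗ₜ[A] 1) := by
            rw [Algebra.TensorProduct.tmul_mul_tmul, mul_one]
        _ = (l ⊗ₜ[A] (1 : EGA4.Cpl A)) * ((1 : L) ⊗ₜ[A] x) := by rw [← h1]; rfl
        _ = l ⊗ₜ[A] x := by rw [Algebra.TensorProduct.tmul_mul_tmul, mul_one, one_mul]
  rcases subsingleton_or_nontrivial (L ⊗[A] EGA4.Cpl A) with h | h
  · exact ⟨fun x _ => Subsingleton.elim x 0⟩
  · let e := RingEquiv.ofBijective (algebraMap L (L ⊗[A] EGA4.Cpl A)) ⟨RingHom.injective _, hsurj⟩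
    exact isReduced_of_injective e.symm e.symm.injective

end Groth.Agent.CplFib6
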