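import Groth.Agent.RegLoc6.NormalOpen
import Groth.Prelude.Def_EGA4b
import Groth.Prelude.Def_Found

/-!
# Finite normalization and the normal locus
-/

namespace Groth.Agent.CplFib6

universe u

open RegLoc6

/-- A finite normalization has a common denominator. -/
theorem exists_denominator (D : Type u) [CommRing D] [IsDomain D]
    (h : Module.Finite D (integralClosure D (FractionRing D))) :
    ∃ s : D, s ≠ 0 ∧ ∀ x : FractionRing D, IsIntegral D x →
      ∃ a : D, algebraMap D (FractionRing D) a = algebraMap D (FractionRing D) s * x := by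
  classical
  obtain ⟨σ, hσ⟩ := h.1
  obtain ⟨s, hs⟩ := IsLocalization.exist_integer_multiples_of_finset (nonZeroDivisors D)
    (σ.image (fun y : integralClosure D (FractionRing D) => (y : FractionRing D)))
  refine ⟨s, nonZeroDivisors.coe_ne_zero s, fun x hx => ?_⟩
  have hmem : (⟨x, hx⟩ : integralClosure D (FractionRing D)) ∈
      Submodule.span D (σ : Set (integralClosure D (FractionRing D))) := hσ ▸ Submodule.mem_top
  suffices key : ∀ y : integralClosure D (FractionRing D),
      y ∈ Submodule.span D (σ : Set (integralClosure D (FractionRing D))) →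
      ∃ a : D, algebraMap D (FractionRing D) a = algebraMap D (FractionRing D) s * (y : FractionRing D) from
    key _ hmem
  intro y hy
  induction hy using Submodule.span_induction with
  | mem y hy =>
    obtain ⟨a, ha⟩ := hs y (Finset.mem_image_of_mem _ hy)
    exact ⟨a, by rw [ha, Algebra.smul_def]⟩
  | zero => exact ⟨0, by simp⟩
  | add y z _ _ hy hz =>
    obtain ⟨a, ha⟩ := hy
    obtain ⟨b, hb⟩ := hz
    exact ⟨a + b, by rw [map_add, ha, hb, ← mul_add]; rfl⟩
  | smul c y _ hy =>
    obtain ⟨a, ha⟩ := hy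
    exact ⟨c * a, by rw [map_mul, ha, SetLike.val_smul, Algebra.smul_def]; ring⟩

/-- Away from a common denominator of the normalization the ring is normal. -/
theorem isIntegrallyClosed_of_denominator (D : Type u) [CommRing D] [IsDomain D] (s : D)
    (hs : ∀ x : FractionRing D, IsIntegral D x →
      ∃ a : D, algebraMap D (FractionRing D) a = algebraMap D (FractionRing D) s * x)
    (Q : Ideal D) [Q.IsPrime] (hQ : s ∉ Q) : IsIntegrallyClosed (Localization.AtPrime Q) := by
  let K := FractionRing D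
  letI : Algebra (Localization.AtPrime Q) K :=
    IsLocalization.localizationAlgebraOfSubmonoidLe (Localization.AtPrime Q) K
      Q.primeCompl (nonZeroDivisors D) Q.primeCompl_le_nonZeroDivisors
  haveI : IsScalarTower D (Localization.AtPrime Q) K :=
    IsLocalization.localization_isScalarTower_of_submonoid_le _ _ _ _
      Q.primeCompl_le_nonZeroDivisors
  haveI : IsFractionRing (Localization.AtPrime Q) K :=
    IsFractionRing.isFractionRing_of_isDomain_of_isLocalization Q.primeCompl _ _
  rw [isIntegrallyClosed_iff K]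
  intro z hz
  obtain ⟨⟨t, ht⟩, hw⟩ := IsIntegral.exists_multiple_integral_of_isLocalization Q.primeCompl z hz
  obtain ⟨a, ha⟩ := hs _ hw
  refine (mem_range_atPrime_iff Q z).mpr ⟨s * t, fun h => (‹Q.IsPrime›.mem_or_mem h).elim hQ ht, a, ?_⟩
  rw [ha, map_mul, mul_assoc, Submonoid.smul_def, Algebra.smul_def]

/-- If the minimal primes have finite normalization then the normal locus is open. -/
theorem isOpen_norLocus_of_N1 (A : Type u) [CommRing A] [IsNoetherianRing A]
    (hN : ∀ (q : Ideal A) [q.IsPrime], q ∈ minimalPrimes A →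
      Module.Finite (A ⧸ q) (integralClosure (A ⧸ q) (FractionRing (A ⧸ q)))) :
    IsOpen (EGA4.norLocus A) := by
  classical
  refine isOpen_normal fun q hq hn => ?_
  haveI := hn.1
  obtain ⟨s, hs0, hs⟩ := exists_denominator (A ⧸ q.asIdeal) (hN q.asIdeal hq)
  obtain ⟨s, rfl⟩ := Ideal.Quotient.mk_surjective s
  have hq0 : q.asIdeal.map (algebraMap A (Localization.AtPrime q.asIdeal)) = ⊥ := by
    rw [Ideal.map_eq_bot_iff_le_ker]
    exact hq.2 ⟨RingHom.ker_isPrime _, bot_le⟩ (fun a ha => by
      obtain ⟨⟨t, ht⟩, h⟩ := (IsLocalization.map_eq_zero_iff q.asIdeal.primeCompl _ a).mp ha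
      exact (q.isPrime.mem_or_mem (h ▸ q.asIdeal.zero_mem : t * a ∈ q.asIdeal)).resolve_left ht)
  obtain ⟨σ, hσ⟩ := q.asIdeal.fg_of_isNoetherianRing
  have hex : ∀ a ∈ σ, ∃ t ∉ q.asIdeal, t * a = 0 := by
    intro a ha
    have : algebraMap A (Localization.AtPrime q.asIdeal) a = 0 :=
      (Submodule.eq_bot_iff _).mp hq0 _ (Ideal.mem_map_of_mem _ (hσ ▸ Submodule.subset_span ha))
    obtain ⟨⟨t, ht⟩, h⟩ := (IsLocalization.map_eq_zero_iff q.asIdeal.primeCompl _ _).mp this
    exact ⟨t, ht, h⟩
  choose! t ht1 ht2 using hex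
  let f₀ := ∏ a ∈ σ, t a
  have hf₀ : f₀ ∉ q.asIdeal := show _ ∈ q.asIdeal.primeCompl from prod_mem fun a ha => ht1 a ha
  have hkill : ∀ a ∈ σ, f₀ * a = 0 := fun a ha => by
    obtain ⟨c, hc⟩ := Finset.dvd_prod_of_mem t ha
    show (∏ b ∈ σ, t b) * a = 0
    rw [hc, mul_comm (t a), mul_assoc, ht2 a ha, mul_zero]
  have hsq : s ∉ q.asIdeal := fun h => hs0 (Ideal.Quotient.eq_zero_iff_mem.mpr h)
  refine ⟨f₀ * s, fun h => (q.isPrime.mem_or_mem h).elim hf₀ hsq, fun y hy => ?_⟩
  have hfy : f₀ ∉ y.asIdeal := fun h => hy (y.asIdeal.mul_mem_right _ h)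
  have hsy : s ∉ y.asIdeal := fun h => hy (y.asIdeal.mul_mem_left _ h)
  have hqy : q.asIdeal ≤ y.asIdeal := by
    rw [← hσ, Ideal.span_le]
    exact fun a ha => (y.isPrime.mem_or_mem (hkill a ha ▸ y.asIdeal.zero_mem)).resolve_left hfy
  haveI := Ideal.map_isPrime_of_surjective (f := Ideal.Quotient.mk q.asIdeal) (I := y.asIdeal)
    Ideal.Quotient.mk_surjective (by rw [Ideal.mk_ker]; exact hqy)
  have hy' : (y.asIdeal.map (Ideal.Quotient.mk q.asIdeal)).comap (Ideal.Quotient.mk q.asIdeal) = y.asIdeal := by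
    rw [Ideal.comap_map_of_surjective _ Ideal.Quotient.mk_surjective, ← RingHom.ker_eq_comap_bot,
      Ideal.mk_ker, sup_eq_left.mpr hqy]
  obtain ⟨e⟩ := exists_quotLocalEquiv q.asIdeal y.asIdeal _ hy'
  have hy0 : q.asIdeal.map (algebraMap A (Localization.AtPrime y.asIdeal)) = ⊥ := by
    rw [← hσ, Ideal.map_span, Submodule.span_eq_bot]
    rintro _ ⟨a, ha, rfl⟩
    exact (IsLocalization.map_eq_zero_iff y.asIdeal.primeCompl _ _).mpr ⟨⟨_, hfy⟩, hkill a ha⟩
  refine normalAt_of_ringEquiv (((RingEquiv.quotientBot _).symm.trans (Ideal.quotEquivOfEq hy0.symm)).trans e).symm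
    ⟨IsLocalization.isDomain_localization (Ideal.primeCompl_le_nonZeroDivisors _),
      isIntegrallyClosed_of_denominator _ _ hs _ fun h => hsy (hy'.le h)⟩

/-- Nagata rings have open normal locus. -/
theorem isOpen_norLocus_of_isNagata (A : Type u) [CommRing A] (hA : CAlg.IsNagata A) :
    IsOpen (EGA4.norLocus A) := by
  haveI := hA.1
  refine isOpen_norLocus_of_N1 A fun q _ _ => ?_
  exact hA.2 q (FractionRing (A ⧸ q)) inferInstance

end Groth.Agent.CplFib6
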