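import Groth.Agent.CplFib6.PolyFibre

/-!
# Polynomial rings over complete local rings have regular formal fibres
-/

namespace Groth.Agent.CplFib6

universe u

open TensorProduct Polynomial

attribute [local instance 10000] Ring.toIntAlgebra
attribute [local instance] Polynomial.algebra

/-- The core: a complete local domain, a prime of its polynomial ring, a field over it. -/
theorem regular_tensor_poly_cpl (R : Type u) [CommRing R] [IsDomain R] [IsLocalRing R] [IsNoetherianRing R]
    [IsAdicComplete (IsLocalRing.maximalIdeal R) R] (P : Ideal R[X]) [P.IsPrime] (κ L : Type u) [Field κ] [Field L]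
    [Algebra R[X] κ] [Algebra R[X] L] [Algebra κ L] [IsScalarTower R[X] κ L] [Module.Finite κ L]
    [Algebra.EssFiniteType R[X] κ] (hinj : Function.Injective fun r : R => algebraMap R[X] κ (C r))
    (hker : RingHom.ker (algebraMap R[X] κ) ≤ P)
    (hdiv : ∀ z : κ, ∃ a b : R[X], z = algebraMap R[X] κ a / algebraMap R[X] κ b) :
    IsRegularRing (L ⊗[R[X]] EGA4.Cpl (Localization.AtPrime P)) := by
  obtain ⟨C₀, _, _, _, _, hfin, hfs, hC⟩ := exists_regular_enough_base R
  haveI := hfin
  haveI := hfs
  haveI : Module.Finite C₀[X] R[X] :=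
    Module.Finite.equiv (Algebra.IsPushout.equiv C₀ C₀[X] R R[X]).toLinearEquiv
  letI : Algebra C₀ κ := ((algebraMap R[X] κ).comp (algebraMap C₀ R[X])).toAlgebra
  letI : Algebra C₀ L := ((algebraMap R[X] L).comp (algebraMap C₀ R[X])).toAlgebra
  haveI : IsScalarTower C₀ R[X] κ := IsScalarTower.of_algebraMap_eq' rfl
  haveI : IsScalarTower C₀ R[X] L := IsScalarTower.of_algebraMap_eq' rfl
  haveI : IsScalarTower C₀ κ L := IsScalarTower.of_algebraMap_eq fun c => by
    show algebraMap R[X] L _ = _
    rw [IsScalarTower.algebraMap_apply R[X] κ L]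
    rfl
  letI : Algebra C₀[X] κ := ((algebraMap R[X] κ).comp (algebraMap C₀[X] R[X])).toAlgebra
  letI : Algebra C₀[X] L := ((algebraMap R[X] L).comp (algebraMap C₀[X] R[X])).toAlgebra
  haveI : IsScalarTower C₀[X] R[X] κ := IsScalarTower.of_algebraMap_eq' rfl
  haveI : IsScalarTower C₀[X] R[X] L := IsScalarTower.of_algebraMap_eq' rfl
  haveI : IsScalarTower C₀[X] κ L := IsScalarTower.of_algebraMap_eq fun c => by
    show algebraMap R[X] L _ = _
    rw [IsScalarTower.algebraMap_apply R[X] κ L]
    rfl
  haveI : IsScalarTower C₀ C₀[X] κ := IsScalarTower.of_algebraMap_eq fun c => by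
    show algebraMap R[X] κ (algebraMap C₀ R[X] c) = algebraMap R[X] κ (algebraMap C₀[X] R[X] (algebraMap C₀ C₀[X] c))
    rw [← IsScalarTower.algebraMap_apply C₀ C₀[X] R[X]]
  haveI : IsScalarTower C₀ C₀[X] L := IsScalarTower.of_algebraMap_eq fun c => by
    show algebraMap R[X] L (algebraMap C₀ R[X] c) = algebraMap R[X] L (algebraMap C₀[X] R[X] (algebraMap C₀ C₀[X] c))
    rw [← IsScalarTower.algebraMap_apply C₀ C₀[X] R[X]]
  haveI : Algebra.IsIntegral C₀[X] R[X] := Algebra.IsIntegral.of_finite _ _
  haveI : Algebra.EssFiniteType C₀[X] κ := Algebra.EssFiniteType.comp C₀[X] R[X] κ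
  haveI : Algebra.EssFiniteType C₀[X] L := Algebra.EssFiniteType.comp C₀[X] κ L
  haveI : IsRegularRing C₀[X] := IsRegularRing.of_ringEquiv (MvPolynomial.uniqueAlgEquiv.{_, 0} C₀ PUnit).toRingEquiv
  by_cases hT : Function.Injective (algebraMap C₀[X] κ)
  · haveI : FaithfulSMul C₀[X] κ := (faithfulSMul_iff_algebraMap_injective _ _).mpr hT
    haveI : FaithfulSMul C₀[X] L := (faithfulSMul_iff_algebraMap_injective _ _).mpr (by
      rw [IsScalarTower.algebraMap_eq C₀[X] κ L]
      exact (algebraMap κ L).injective.comp hT)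
    haveI : Algebra.IsAlgebraic C₀[X] κ := isAlgebraic_of_div (algebraMap R[X] κ)
      (fun s => ((Algebra.IsIntegral.isIntegral (R := C₀[X]) s).map (IsScalarTower.toAlgHom C₀[X] R[X] κ)).isAlgebraic) hdiv
    haveI : Algebra.IsAlgebraic C₀[X] L := Algebra.IsAlgebraic.trans C₀[X] κ L
    refine regular_tensor_cpl_of_finite C₀[X] ?_ R[X] P L
    rcases hC with h0 | ⟨p, hp, hcp, hE⟩
    · haveI := h0
      exact Or.inl (charZero_of_injective_ringHom C_injective)
    · haveI := hcp
      haveI : Fact p.Prime := ⟨hp⟩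
      exact Or.inr ⟨p, hp, charP_of_injective_ringHom C_injective p, hE.polynomial p⟩
  have hCκ : Function.Injective (algebraMap C₀ κ) := by
    show Function.Injective fun c => algebraMap R[X] κ (algebraMap C₀ R[X] c)
    exact hinj.comp (FaithfulSMul.algebraMap_injective C₀ R)
  haveI : FaithfulSMul C₀ κ := (faithfulSMul_iff_algebraMap_injective _ _).mpr hCκ
  haveI : FaithfulSMul C₀ L := (faithfulSMul_iff_algebraMap_injective _ _).mpr (by
    rw [IsScalarTower.algebraMap_eq C₀ κ L]
    exact (algebraMap κ L).injective.comp hCκ)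
  haveI : Algebra.IsAlgebraic C₀ κ := by
    obtain ⟨g, hg0, hgne⟩ : ∃ g, algebraMap C₀[X] κ g = 0 ∧ g ≠ 0 := by
      rw [injective_iff_map_eq_zero] at hT
      push Not at hT
      exact hT
    have hX : IsAlgebraic C₀ (algebraMap R[X] κ X) := ⟨g, hgne, by
      have h1 : Polynomial.aeval (algebraMap R[X] κ X) g = algebraMap C₀[X] κ g := by
        rw [show algebraMap R[X] κ X = IsScalarTower.toAlgHom C₀ C₀[X] κ X by
          show _ = algebraMap R[X] κ (algebraMap C₀[X] R[X] X)
          simp, Polynomial.aeval_algHom_apply, Polynomial.aeval_X_left_apply]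
        rfl
      rw [h1, hg0]⟩
    haveI : Algebra.IsIntegral C₀ R := Algebra.IsIntegral.of_finite C₀ R
    refine isAlgebraic_of_div (algebraMap R[X] κ) (fun s => ?_) hdiv
    induction s using Polynomial.induction_on' with
    | add a b ha hb => rw [map_add]; exact ha.add hb
    | monomial n a =>
      rw [← C_mul_X_pow_eq_monomial, map_mul, map_pow]
      exact (((Algebra.IsIntegral.isIntegral (R := C₀) a).map
        ((IsScalarTower.toAlgHom C₀ R[X] κ).comp ((Polynomial.CAlgHom (R := R) (A := R)).restrictScalars C₀))).isAlgebraic).mul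
        (hX.pow n)
  haveI : Algebra.IsAlgebraic C₀ L := Algebra.IsAlgebraic.trans C₀ κ L
  haveI : Algebra.EssFiniteType C₀ L := Algebra.EssFiniteType.comp C₀ C₀[X] L
  let pc := P.comap (algebraMap C₀[X] R[X])
  let A := Localization.AtPrime pc
  haveI : IsRegularLocalRing A := IsRegularRing.isRegularLocalRing_localization pc
  haveI : IsRegularLocalRing (EGA4.Cpl A) := (S0548.result A).1 inferInstance
  haveI := isRegularRing_of_local (EGA4.Cpl A)
  refine regular_tensor_cpl_of_base C₀[X] R[X] P L (fun c hc h0 => ?_) ?_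
  · apply hc
    refine hker ?_
    rw [RingHom.mem_ker]
    refine (algebraMap κ L).injective ?_
    rw [map_zero, ← IsScalarTower.algebraMap_apply R[X] κ L]
    exact h0
  have hExt : ∀ D : Derivation ℤ C₀ C₀, Ext (algebraMap C₀ (EGA4.Cpl A)) D := fun D => by
    obtain ⟨D', -, hD'⟩ := exists_derivation_polynomial D
    obtain ⟨E, hE⟩ := ext_cpl_atPrime pc D'
    refine ⟨E, fun c => ?_⟩
    rw [IsScalarTower.algebraMap_apply C₀ C₀[X] (EGA4.Cpl A), IsScalarTower.algebraMap_apply C₀ C₀[X] (EGA4.Cpl A) (D c),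
      hE, Polynomial.algebraMap_apply, Polynomial.algebraMap_apply, Algebra.algebraMap_self_apply,
      Algebra.algebraMap_self_apply, hD']
  haveI := regular_tensor_field (EGA4.Cpl A) hExt hC L
  let d : Derivation ℤ C₀[X] C₀[X] := Derivation.mk' (derivative (R := C₀)).toAddMonoidHom.toIntLinearMap
    fun x y => by
      show derivative (x * y) = x • derivative y + y • derivative x
      rw [derivative_mul, smul_eq_mul, smul_eq_mul]
      ring
  obtain ⟨E, hE⟩ := ext_cpl_atPrime pc d
  refine regular_tensor_adjoin C₀ C₀[X] (EGA4.Cpl A) L X Polynomial.adjoin_X E (fun c => ?_) ?_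
  · rw [IsScalarTower.algebraMap_apply C₀ C₀[X] (EGA4.Cpl A), hE]
    show algebraMap _ _ (derivative (algebraMap C₀ C₀[X] c)) = 0
    simp
  · rw [hE]
    show IsUnit (algebraMap _ _ (derivative X))
    rw [derivative_X, map_one]
    exact isUnit_one

end Groth.Agent.CplFib6
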