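import Groth.Agent.CplFib6.DerivTower

/-!
# Polynomials over a ring with enough derivations
-/

namespace Groth.Agent.CplFib6

universe u

open Polynomial

attribute [local instance 10000] Ring.toIntAlgebra

/-- A polynomial ring over a domain with enough derivations has enough derivations. -/
theorem EnoughDer.polynomial {T : Type u} [CommRing T] [IsDomain T] (p : ℕ) [Fact p.Prime] [CharP T p]
    (h : EnoughDer p T) : EnoughDer p T[X] := by
  classical
  have hp : p.Prime := Fact.out
  intro c hc
  have hd0 : derivative c = 0 := by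
    let D₀ : Derivation ℤ T[X] T[X] := Derivation.mk' (derivative (R := T)).toAddMonoidHom.toIntLinearMap
      fun x y => by
        show derivative (x * y) = x • derivative y + y • derivative x
        rw [derivative_mul, smul_eq_mul, smul_eq_mul]
        ring
    exact hc D₀
  have hzero : ∀ i : ℕ, ¬ p ∣ i → c.coeff i = 0 := by
    intro i hi
    have hi0 : i ≠ 0 := fun h0 => hi (h0 ▸ dvd_zero p)
    have h1 := congrArg (fun q : T[X] => q.coeff (i - 1)) hd0
    simp only [coeff_derivative, coeff_zero] at h1
    rw [← Nat.cast_add_one, Nat.sub_add_cancel (Nat.pos_of_ne_zero hi0)] at h1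
    exact (mul_eq_zero.mp h1).resolve_right fun h0 => hi ((CharP.cast_eq_zero_iff T p i).mp h0)
  have hroot : ∀ i, ∃ s : T, s ≠ 0 ∧ ∃ a : T, s ^ p * c.coeff i = a ^ p := fun i => h _ fun D => by
    obtain ⟨D', hX, hC⟩ := exists_derivation_polynomial D
    have hcoef : ∀ q : T[X], (D' q).coeff i = D (q.coeff i) := by
      intro q
      induction q using Polynomial.induction_on' with
      | add a b ha hb => rw [map_add, coeff_add, ha, hb, coeff_add, map_add]
      | monomial n a =>
        rw [← C_mul_X_pow_eq_monomial, Derivation.leibniz, Derivation.leibniz_pow, hX, hC, smul_zero,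
          smul_zero, smul_zero, zero_add, smul_eq_mul, mul_comm, coeff_C_mul_X_pow, coeff_C_mul_X_pow]
        split_ifs <;> simp
    rw [← hcoef, hc D', coeff_zero]
  choose s hs a ha using hroot
  refine ⟨C (∏ i ∈ c.support, s i), (map_ne_zero_iff _ C_injective).mpr (Finset.prod_ne_zero_iff.mpr fun i _ => hs i),
    ∑ i ∈ c.support, C ((∏ j ∈ c.support.erase i, s j) * a i) * X ^ (i / p), ?_⟩
  rw [sum_pow_char]
  refine (congrArg (C (∏ i ∈ c.support, s i) ^ p * ·) c.as_sum_support_C_mul_X_pow).trans ?_
  rw [Finset.mul_sum]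
  refine Finset.sum_congr rfl fun i hi => ?_
  rw [mul_pow, ← pow_mul, ← C_pow, ← C_pow, mul_pow, ← ha i, ← mul_assoc, ← C_mul,
    ← Finset.mul_prod_erase c.support s hi, mul_pow]
  have hip : p ∣ i := by
    by_contra h0
    exact (mem_support_iff.mp hi) (hzero i h0)
  rw [Nat.div_mul_cancel hip]
  congr 1
  congr 1
  ring

end Groth.Agent.CplFib6
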