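import Groth.Agent.CplFib6.GRing
import Groth.Agent.CplFib6.PolyDer
import Groth.Agent.MorLib.GRingLocal
import Mathlib.RingTheory.PolynomialAlgebra

/-!
# Formal fibres of polynomial rings over complete local rings
-/

namespace Groth.Agent.CplFib6

universe u

open TensorProduct Polynomial

attribute [local instance 10000] Ring.toIntAlgebra
attribute [local instance] Polynomial.algebra

/-- A quotient of a regular ring by an element with unit derivative is regular. -/
theorem regular_quot_of_derivation (T : Type u) [CommRing T] [IsRegularRing T] (z : T) (D : Derivation ℤ T T)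
    (hD : IsUnit (D z)) : IsRegularRing (T ⧸ Ideal.span {z}) := by
  refine { isRegularLocalRing_localization := fun Q _ => ?_ }
  let P : Ideal T := Q.comap (Ideal.Quotient.mk (Ideal.span {z}))
  haveI : P.IsPrime := Ideal.comap_isPrime _ _
  have hzP : z ∈ P := by
    rw [Ideal.mem_comap, Ideal.Quotient.eq_zero_iff_mem.mpr (Ideal.mem_span_singleton_self z)]
    exact Q.zero_mem
  obtain ⟨e⟩ := RegLoc6.exists_quotLocalEquiv (Ideal.span {z}) P Q rfl
  haveI : IsRegularLocalRing (Localization.AtPrime P) := IsRegularRing.isRegularLocalRing_localization P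
  have hsq : algebraMap T (Localization.AtPrime P) z ∉ IsLocalRing.maximalIdeal (Localization.AtPrime P) ^ 2 := by
    intro hmem
    rw [← Localization.AtPrime.map_eq_maximalIdeal, ← Ideal.map_pow,
      IsLocalization.algebraMap_mem_map_algebraMap_iff P.primeCompl] at hmem
    obtain ⟨s, hs, hsf⟩ := hmem
    have hDP : ∀ w ∈ P ^ 2, D w ∈ P := fun w hw => by
      have h := derivation_pow_mem D P 1 w hw
      rwa [pow_one] at h
    have h1 := hDP _ hsf
    rw [Derivation.leibniz, smul_eq_mul, smul_eq_mul] at h1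
    refine hs ?_
    have h2 := sub_mem h1 (P.mul_mem_right (D s) hzP)
    rw [add_sub_cancel_right] at h2
    exact (Ideal.mul_unit_mem_iff_mem P hD).mp h2
  haveI := (RegLoc6.isRegularLocalRing_quot_and (by
    rw [← Localization.AtPrime.map_eq_maximalIdeal]; exact Ideal.mem_map_of_mem _ hzP) hsq).1
  exact IsRegularLocalRing.of_ringEquiv ((Ideal.quotEquivOfEq (by rw [Ideal.map_span, Set.image_singleton])).trans e)

/-- Adjoining one element to the base keeps regularity when a derivation moves it by a unit. -/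
theorem regular_tensor_adjoin (C S T0 L : Type u) [CommRing C] [CommRing S] [CommRing T0] [CommRing L]
    [Algebra C S] [Algebra S T0] [Algebra C T0] [IsScalarTower C S T0] [Algebra C L] [Algebra S L]
    [IsScalarTower C S L] (x : S) (hS : Algebra.adjoin C {x} = ⊤) (E : DerZ T0)
    (hEC : ∀ c : C, E (algebraMap C T0 c) = 0) (hE : IsUnit (E (algebraMap S T0 x)))
    [IsRegularRing (L ⊗[C] T0)] : IsRegularRing (L ⊗[S] T0) := by
  let T := L ⊗[C] T0
  let El : T0 →ₗ[C] T0 :=
    { toFun := E, map_add' := map_add E, map_smul' := fun c y => by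
        show E (c • y) = c • E y
        rw [Algebra.smul_def, Algebra.smul_def, Derivation.leibniz, hEC, smul_zero, add_zero, smul_eq_mul] }
  let F : T →+ T := (El.lTensor L).toAddMonoidHom
  have hF : ∀ l t, F (l ⊗ₜ t) = l ⊗ₜ E t := fun l t => rfl
  let D : DerZ T := Derivation.mk' F.toIntLinearMap fun u v => by
    show F (u * v) = u • F v + v • F u
    induction u using TensorProduct.induction_on with
    | zero => simp
    | add a b ha hb => rw [add_mul, map_add, ha, hb, map_add, smul_add, add_smul]; abel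
    | tmul l t =>
      induction v using TensorProduct.induction_on with
      | zero => simp
      | add a b ha hb => rw [mul_add, map_add, ha, hb, map_add, smul_add, add_smul]; abel
      | tmul l' t' =>
        rw [Algebra.TensorProduct.tmul_mul_tmul, hF, hF, hF, smul_eq_mul, smul_eq_mul,
          Algebra.TensorProduct.tmul_mul_tmul, Algebra.TensorProduct.tmul_mul_tmul, Derivation.leibniz,
          smul_eq_mul, smul_eq_mul, tmul_add, mul_comm l' l]
  let z : T := algebraMap S L x ⊗ₜ 1 - 1 ⊗ₜ algebraMap S T0 x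
  have hDz : IsUnit (D z) := by
    have h1 : D z = -((1 : L) ⊗ₜ[C] E (algebraMap S T0 x)) := by
      show F z = _
      rw [map_sub, hF, hF, Derivation.map_one_eq_zero, tmul_zero, zero_sub]
    rw [h1]
    exact (hE.map (Algebra.TensorProduct.includeRight (R := C) (A := L) (B := T0))).neg
  haveI := regular_quot_of_derivation T z D hDz
  let q := Ideal.Quotient.mkₐ C (Ideal.span {z})
  let a : L →ₐ[C] T ⧸ Ideal.span {z} := q.comp Algebra.TensorProduct.includeLeft
  let b : T0 →ₐ[C] T ⧸ Ideal.span {z} := q.comp Algebra.TensorProduct.includeRight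
  have hab : a.comp (IsScalarTower.toAlgHom C S L) = b.comp (IsScalarTower.toAlgHom C S T0) :=
    AlgHom.ext_of_adjoin_eq_top hS fun y hy => by
      rw [Set.mem_singleton_iff.mp hy]
      exact Ideal.Quotient.eq.mpr (Ideal.mem_span_singleton_self z)
  obtain ⟨Ψ, hΨ⟩ := MorLib.GRing.exists_tensor_lift (R := S) (S := T0) (K := L) a.toRingHom b.toRingHom
    fun s => AlgHom.congr_fun hab s
  obtain ⟨Φ₀, hΦ₀⟩ := MorLib.GRing.exists_tensor_lift (R := C) (S := T0) (K := L)
    (Algebra.TensorProduct.includeLeft : L →ₐ[S] L ⊗[S] T0).toRingHom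
    (Algebra.TensorProduct.includeRight : T0 →ₐ[S] L ⊗[S] T0).toRingHom fun c => by
      rw [IsScalarTower.algebraMap_apply C S L, IsScalarTower.algebraMap_apply C S T0]
      show (Algebra.TensorProduct.includeLeft : L →ₐ[S] L ⊗[S] T0) _ =
        (Algebra.TensorProduct.includeRight : T0 →ₐ[S] L ⊗[S] T0) _
      rw [AlgHom.commutes, AlgHom.commutes]
  have hz : Ideal.span {z} ≤ RingHom.ker Φ₀ := by
    rw [Ideal.span_singleton_le_iff_mem, RingHom.mem_ker, map_sub, hΦ₀, hΦ₀]
    show (algebraMap S L x ⊗ₜ[S] (1 : T0)) * ((1 : L) ⊗ₜ[S] (1 : T0)) -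
      ((1 : L) ⊗ₜ[S] (1 : T0)) * ((1 : L) ⊗ₜ[S] algebraMap S T0 x) = 0
    rw [Algebra.TensorProduct.tmul_mul_tmul, Algebra.TensorProduct.tmul_mul_tmul, mul_one, one_mul, one_mul,
      Algebra.algebraMap_eq_smul_one, Algebra.algebraMap_eq_smul_one, smul_tmul]
    simp
  let Φ : T ⧸ Ideal.span {z} →+* L ⊗[S] T0 := Ideal.Quotient.lift _ Φ₀ fun w hw => hz hw
  refine IsRegularRing.of_ringEquiv (R := T ⧸ Ideal.span {z}) (RingEquiv.ofRingHom Φ Ψ ?_ ?_)
  · refine RingHom.ext fun w => ?_
    induction w using TensorProduct.induction_on with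
    | zero => simp
    | tmul l t =>
      rw [RingHom.comp_apply, hΨ, map_mul]
      show Φ₀ (l ⊗ₜ 1) * Φ₀ (1 ⊗ₜ t) = l ⊗ₜ t
      rw [hΦ₀, hΦ₀]
      simp
    | add u v hu hv => rw [map_add, hu, hv, map_add]
  · refine Ideal.Quotient.ringHom_ext (RingHom.ext fun w => ?_)
    induction w using TensorProduct.induction_on with
    | zero => simp
    | tmul l t =>
      show Ψ (Φ₀ (l ⊗ₜ t)) = Ideal.Quotient.mk _ (l ⊗ₜ t)
      rw [hΦ₀, map_mul]
      show Ψ (l ⊗ₜ 1) * Ψ (1 ⊗ₜ t) = _
      rw [hΨ, hΨ, map_one, map_one, mul_one, one_mul]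
      show Ideal.Quotient.mk _ (l ⊗ₜ[C] (1 : T0)) * Ideal.Quotient.mk _ ((1 : L) ⊗ₜ[C] t) = _
      rw [← map_mul, Algebra.TensorProduct.tmul_mul_tmul, mul_one, one_mul]
    | add u v hu hv => rw [map_add, hu, hv, map_add]

/-- Elements of a residue field of a localization are ratios. -/
theorem exists_div_residueField {R : Type u} [CommRing R] (P : Ideal R) [P.IsPrime]
    (Q : Ideal (Localization.AtPrime P)) [Q.IsPrime] (z : Q.ResidueField) :
    ∃ a b : R, z = algebraMap R Q.ResidueField a / algebraMap R Q.ResidueField b := by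
  obtain ⟨a, b, -, rfl⟩ := IsFractionRing.div_surjective (Localization.AtPrime P ⧸ Q) z
  obtain ⟨a, rfl⟩ := Ideal.Quotient.mk_surjective a
  obtain ⟨b, rfl⟩ := Ideal.Quotient.mk_surjective b
  obtain ⟨a₁, a₂, rfl⟩ := IsLocalization.exists_mk'_eq P.primeCompl a
  obtain ⟨b₁, b₂, rfl⟩ := IsLocalization.exists_mk'_eq P.primeCompl b
  refine ⟨a₁ * b₂, a₂ * b₁, ?_⟩
  let f := algebraMap (Localization.AtPrime P) Q.ResidueField
  have hm : ∀ (r : R) (s : P.primeCompl), f (IsLocalization.mk' (Localization.AtPrime P) r s) * algebraMap R Q.ResidueField s =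
      algebraMap R Q.ResidueField r := fun r s => by
    rw [IsScalarTower.algebraMap_apply R (Localization.AtPrime P) Q.ResidueField, ← map_mul, IsLocalization.mk'_spec,
      ← IsScalarTower.algebraMap_apply]
  have hu : ∀ s : P.primeCompl, algebraMap R Q.ResidueField s ≠ 0 := fun s => by
    rw [IsScalarTower.algebraMap_apply R (Localization.AtPrime P) Q.ResidueField]
    exact ((IsLocalization.map_units (Localization.AtPrime P) s).map _).ne_zero
  show f _ / f _ = _
  rw [map_mul, map_mul, ← hm a₁ a₂, ← hm b₁ b₂]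
  field_simp [hu a₂, hu b₂]

/-- A field generated by algebraic elements is algebraic. -/
theorem isAlgebraic_of_div {C S κ : Type u} [CommRing C] [IsDomain C] [CommRing S] [Field κ] [Algebra C κ]
    [FaithfulSMul C κ] (g : S →+* κ) (h : ∀ s, IsAlgebraic C (g s)) (hdiv : ∀ z, ∃ a b, z = g a / g b) :
    Algebra.IsAlgebraic C κ := ⟨fun z => by
  obtain ⟨a, b, rfl⟩ := hdiv z
  rw [div_eq_mul_inv]
  exact (h a).mul (IsAlgebraic.inv_iff.mpr (h b))⟩

end Groth.Agent.CplFib6
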