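import Groth.Agent.FlatLoc6.Regular
import Groth.Agent.FlatLoc6.RegIdeal
import Groth.Agent.LC.Sop
import Groth.Agent.LC.DepthExt
import Groth.Agent.LC.LiaisonLocal
import Groth.Prelude.Def_EGA4b

/-!
# Sequences regular on the closed fibre of a flat local homomorphism
-/

namespace Groth.Agent.CplFib6

universe u

open IsLocalRing RingTheory.Sequence

/-- A Cohen–Macaulay ring that is local is a Cohen–Macaulay module over itself. -/
theorem isCMModule_of_isCMRing (R : Type u) [CommRing R] [IsLocalRing R] [IsNoetherianRing R]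
    [LocCoh.IsCohenMacaulayRing R] : LocCoh.IsCohenMacaulayModule R R := by
  haveI := LocCoh.IsCohenMacaulayRing.isCohenMacaulayLocalRing_localization (maximalIdeal R)
  let e : R ≃ₐ[R] Localization.AtPrime (maximalIdeal R) :=
    IsLocalization.atUnits R (maximalIdeal R).primeCompl (fun x ↦ by simpa using! fun a ↦ a)
  exact (LC.Liaison.isCMLocal_of_ringEquiv e.toRingEquiv.symm).supportDim_eq_depth

variable {E D : Type u} [CommRing E] [CommRing D] [IsLocalRing E] [IsLocalRing D] [IsNoetherianRing E]
  [IsNoetherianRing D] [Algebra E D] [IsLocalHom (algebraMap E D)] [Module.Flat E D]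

/-- A sequence regular on the closed fibre is regular, with flat quotient. -/
theorem regular_and_flat (rs : List D)
    (h : IsWeaklyRegular (EGA4.FibRing E D) (rs.map (Ideal.Quotient.mk (EGA4.mB E D)))) :
    IsWeaklyRegular D rs ∧ Module.Flat E (D ⧸ (Ideal.ofList rs • ⊤ : Submodule D D)) := by
  induction rs using List.reverseRecOn with
  | nil =>
    refine ⟨IsWeaklyRegular.nil D D, ?_⟩
    have hb : (Ideal.ofList ([] : List D) • ⊤ : Submodule D D) = ⊥ := by simp
    exact Module.Flat.of_linearEquiv (((Submodule.quotEquivOfEqBot _ hb)).restrictScalars E)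
  | append_singleton rs r ih =>
    rw [List.map_append, List.map_singleton, LC.isWeaklyRegular_concat_iff] at h
    obtain ⟨hrs, hr⟩ := h
    obtain ⟨hreg, hflat⟩ := ih hrs
    let J : Submodule D D := Ideal.ofList rs • ⊤
    have hJ : J = Ideal.ofList rs := by simp [J]
    let π := Ideal.Quotient.mk (EGA4.mB E D)
    have key : ∀ b : D, r * b ∈ EGA4.mB E D ⊔ Ideal.ofList rs → b ∈ EGA4.mB E D ⊔ Ideal.ofList rs := by
      intro b hb
      have hs : ∀ c : D, c ∈ EGA4.mB E D ⊔ Ideal.ofList rs ↔ π c ∈ Ideal.ofList (rs.map π) := fun c => by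
        rw [← Ideal.map_ofList, ← Ideal.mem_comap, Ideal.comap_map_of_surjective π Ideal.Quotient.mk_surjective,
          ← RingHom.ker_eq_comap_bot, Ideal.mk_ker, sup_comm]
      have hq : Submodule.Quotient.mk (p := (Ideal.ofList (rs.map π) • ⊤ : Submodule (EGA4.FibRing E D) (EGA4.FibRing E D)))
          (π b) = 0 := by
        refine (isSMulRegular_iff_right_eq_zero_of_smul.mp hr) _ ?_
        rw [← Submodule.Quotient.mk_smul, Submodule.Quotient.mk_eq_zero, smul_eq_mul, smul_eq_mul,
          Ideal.mul_top, ← map_mul, ← hs]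
        exact hb
      rw [Submodule.Quotient.mk_eq_zero, smul_eq_mul, Ideal.mul_top, ← hs] at hq
      exact hq
    haveI : Module.Flat E (D ⧸ J) := hflat
    haveI : Module.Finite D (D ⧸ J) := inferInstance
    have hfib : FlatLoc6.RegFib E (D ⧸ J) r := by
      intro n hn
      obtain ⟨b, rfl⟩ := Submodule.Quotient.mk_surjective _ n
      have hmN : ∀ c : D, Submodule.Quotient.mk (p := J) c ∈ FlatLoc6.mN E D (D ⧸ J) ↔
          c ∈ EGA4.mB E D ⊔ Ideal.ofList rs := fun c => by
        have e : FlatLoc6.mN E D (D ⧸ J) = ((maximalIdeal E).map (algebraMap E D) • ⊤ : Submodule D D).map J.mkQ := by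
          rw [Submodule.map_smul'', Submodule.map_top, Submodule.range_mkQ]
        rw [e, ← Submodule.mkQ_apply, ← Submodule.mem_comap, Submodule.comap_map_mkQ, hJ, smul_eq_mul,
          Ideal.mul_top, sup_comm]
      rw [← Submodule.Quotient.mk_smul, hmN] at hn
      exact (hmN b).mpr (key b hn)
    refine ⟨(LC.isWeaklyRegular_concat_iff rs r).mpr ⟨hreg, FlatLoc6.regular_self hfib⟩, ?_⟩
    have hle : J ≤ (Ideal.ofList (rs ++ [r]) • ⊤ : Submodule D D) := by
      rw [hJ, smul_eq_mul, Ideal.mul_top, Ideal.ofList_append]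
      exact le_sup_left
    refine FlatLoc6.flat_of_cokernel hfib _ (Submodule.factor hle) (Submodule.factor_surjective hle) fun n => ?_
    obtain ⟨b, rfl⟩ := Submodule.Quotient.mk_surjective _ n
    rw [← Submodule.mkQ_apply, Submodule.factor_mk, Submodule.mkQ_apply, Submodule.Quotient.mk_eq_zero, smul_eq_mul, Ideal.mul_top, Ideal.ofList_append,
      Ideal.ofList_singleton]
    constructor
    · intro hb
      obtain ⟨j, hj, z, hz, rfl⟩ := Submodule.mem_sup.mp hb
      obtain ⟨d, rfl⟩ := Ideal.mem_span_singleton'.mp hz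
      refine ⟨Submodule.Quotient.mk d, ?_⟩
      rw [← Submodule.Quotient.mk_smul, Submodule.mkQ_apply, Submodule.Quotient.eq, hJ, smul_eq_mul]
      have : r * d - (j + d * r) = -j := by ring
      rw [this]
      exact neg_mem hj
    · rintro ⟨k, hk⟩
      obtain ⟨d, rfl⟩ := Submodule.Quotient.mk_surjective _ k
      rw [← Submodule.Quotient.mk_smul, Submodule.mkQ_apply, Submodule.Quotient.eq, hJ, smul_eq_mul] at hk
      have : b = d * r - (r * d - b) := by ring
      rw [this]
      exact sub_mem (Ideal.mem_sup_right (Ideal.mem_span_singleton'.mpr ⟨d, rfl⟩)) (Ideal.mem_sup_left hk)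

end Groth.Agent.CplFib6
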